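import Mathlib
import Cfsg.Agent.XSC.WcB
import Cfsg.Agent.TT.O2C

/-! Involutions acting on a large extraspecial group: general calculus. -/

set_option autoImplicit false

namespace Cfsg.Agent.XW

open Subgroup Cfsg.Agent.TT Cfsg.Agent.LES Cfsg.Agent.XSC.WC

variable {G : Type*} [Group G]

/-- the commutator `g x g⁻¹ x⁻¹` -/
def dd (g x : G) : G := g * x * g⁻¹ * x⁻¹

theorem dd_mul_self (g x : G) : dd g x * x = g * x * g⁻¹ := by simp [dd]

theorem dd_eq_one {g x : G} : dd g x = 1 ↔ g * x = x * g := by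
  rw [dd, mul_inv_eq_one, mul_inv_eq_iff_eq_mul]

theorem dd_inv_swap (g x : G) : (dd g x)⁻¹ = dd x g := by simp [dd, mul_assoc]

theorem dd_mul_right (g x y : G) : dd g (x * y) = dd g x * (x * dd g y * x⁻¹) := by
  simp [dd, mul_assoc]

theorem dd_mul_left (g k x : G) : dd (g * k) x = g * dd k x * g⁻¹ * dd g x := by
  simp [dd, mul_assoc]

theorem conj_dd (c g x : G) : c * dd g x * c⁻¹ = dd (c * g * c⁻¹) (c * x * c⁻¹) := by
  simp [dd, mul_assoc]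

theorem uu_eq_dd {s : G} (hs : s * s = 1) (y : G) : uu s y = dd y s := by
  rw [uu, dd, inv_eq_of_mul_eq_one_right hs]

theorem cmv_one_left (x : G) : cmv 1 x = 0 := cmv_eq_zero.2 (by simp)

theorem cmv_self (x : G) : cmv x x = 0 := cmv_eq_zero.2 rfl

theorem cmv_inv_right (x w : G) : cmv x w⁻¹ = cmv x w := by
  rw [cmv_comm, cmv_inv_left, cmv_comm]

theorem cmv_conj_left (g x w : G) : cmv (g * x * g⁻¹) w = cmv x (g⁻¹ * w * g) := by
  rw [← cmv_conj g x (g⁻¹ * w * g)]; congr 1; group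

theorem sqv_inv (x : G) : sqv x⁻¹ = sqv x :=
  sqv_congr (by rw [← mul_inv_rev, inv_eq_one])

theorem z2_of_ne_zero {a : ZMod 2} (h : a ≠ 0) : a = 1 := (zmod2_cases a).resolve_left h

theorem comm_conj_iff (c x y : G) :
    c * x * c⁻¹ * (c * y * c⁻¹) = c * y * c⁻¹ * (c * x * c⁻¹) ↔ x * y = y * x := by
  rw [conj_mul, conj_mul, mul_left_inj, mul_right_inj]

theorem comm_mul_right {a b c : G} (h : c * a = a * c) (h' : c * b = b * c) :
    c * (a * b) = a * b * c := (comm_mul_left h.symm h'.symm).symm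

section XS

variable {Q : Subgroup G} {z : G}

theorem cmv_z (h : XS Q z) {w : G} (hw : w ∈ Q) : cmv z w = 0 :=
  cmv_eq_zero.2 (h.z_comm w hw).symm

theorem cmv_of_eqv_one (h : XS Q z) {x w : G} (hw : w ∈ Q) (e : Eqv z x 1) : cmv x w = 0 := by
  rw [cmv_eqv h hw e, cmv_one_left]

theorem eqv_one_of_cmv (h : XS Q z) {x : G} (hx : x ∈ Q) (e : ∀ w ∈ Q, cmv x w = 0) :
    Eqv z x 1 := eqv_one_iff.2 (h.cent x hx fun w hw => cmv_eq_zero.1 (e w hw))

theorem eqv_of_cmv (h : XS Q z) {x y : G} (hx : x ∈ Q) (hy : y ∈ Q)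
    (e : ∀ w ∈ Q, cmv x w = cmv y w) : Eqv z x y := by
  have := eqv_one_of_cmv h (Q.mul_mem (Q.inv_mem hy) hx) fun w hw => by
    rw [cmv_mul_left h (Q.inv_mem hy) hx hw, cmv_inv_left, e w hw, zmod2_add_self]
  simpa using this.mul_left y

theorem eqv_comm (h : XS Q z) {x y : G} (hx : x ∈ Q) (hy : y ∈ Q) : Eqv z (x * y) (y * x) :=
  h.comm x hx y hy

theorem eqv_conj (h : XS Q z) {x y : G} (hx : x ∈ Q) (hy : y ∈ Q) : Eqv z (x * y * x⁻¹) y :=
  h.conj hx hy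

theorem eqv_inv (h : XS Q z) {x : G} (hx : x ∈ Q) : Eqv z x⁻¹ x := h.inv hx

theorem eqv_sq_one (h : XS Q z) {x : G} (hx : x ∈ Q) : Eqv z (x * x) 1 := eqv_one_iff.2 (h.sq hx)

theorem mem_of_eqv (h : XS Q z) {x y : G} (hy : y ∈ Q) (e : Eqv z x y) : x ∈ Q :=
  e.mem h.z_mem hy

theorem eqv_z (z : G) : Eqv z z 1 := Or.inr (one_mul z).symm

theorem eqv_mul_z (z x : G) : Eqv z (x * z) x := Or.inr rfl

theorem comm_of_eqv {x y t : G} (ht : z * t = t * z) (e : Eqv z x y) (hy : y * t = t * y) :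
    x * t = t * x := by
  rcases e with rfl | rfl
  exacts [hy, comm_mul_left hy ht]

end XS

section LX

variable {Q : Subgroup G} {z g x w : G}

theorem dd_mem (h : LX Q z) (hg : g * z = z * g) (hx : x ∈ Q) : dd g x ∈ Q :=
  Q.mul_mem (h.norm g hg x hx) (Q.inv_mem hx)

theorem cmv_dd (h : LX Q z) (hg : g * z = z * g) (hx : x ∈ Q) (hw : w ∈ Q) :
    cmv (dd g x) w = cmv x (dd g⁻¹ w) := by
  have h1 := h.norm g⁻¹ (comm_inv_left hg) w hw
  rw [dd, dd, cmv_mul_left h.toXS (h.norm g hg x hx) (Q.inv_mem hx) hw,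
    cmv_mul_right h.toXS h1 (Q.inv_mem hw) hx, cmv_conj_left, cmv_inv_left, cmv_inv_right, inv_inv]

theorem sqv_dd (h : LX Q z) (hg : g * z = z * g) (hx : x ∈ Q) :
    sqv (dd g x) = cmv (dd g x) x := by
  have h1 := h.norm g hg x hx
  rw [dd, sqv_mul h.toXS h1 (Q.inv_mem hx), cmv_mul_left h.toXS h1 (Q.inv_mem hx) hx, sqv_conj,
    sqv_inv, zmod2_add_self, zero_add, cmv_inv_right, cmv_inv_left, cmv_self, add_zero]

theorem dd_mul_eqv (h : LX Q z) (hg : g * z = z * g) (hx : x ∈ Q) (hw : w ∈ Q) :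
    Eqv z (dd g (x * w)) (dd g x * dd g w) := by
  rw [dd_mul_right]
  exact (eqv_conj h.toXS hx (dd_mem h hg hw)).mul_left _

theorem cmv_dd_mul (h : LX Q z) (hg : g * z = z * g) (hx : x ∈ Q) (hw : w ∈ Q) {v : G}
    (hv : v ∈ Q) : cmv (dd g (x * w)) v = cmv (dd g x) v + cmv (dd g w) v := by
  rw [cmv_eqv h.toXS hv (dd_mul_eqv h hg hx hw),
    cmv_mul_left h.toXS (dd_mem h hg hx) (dd_mem h hg hw) hv]

theorem dd_eqv (hg : g * z = z * g) (hz : x * z = z * x) (e : Eqv z w x) : dd g w = dd g x := by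
  rcases e with rfl | rfl
  · rfl
  · rw [dd_mul_right, dd_eq_one.2 hg, mul_one, mul_inv_cancel, mul_one]

theorem dd_of_mem (h : LX Q z) (hg : g ∈ Q) (hx : x ∈ Q) : Eqv z (dd g x) 1 := by
  have := (eqv_conj h.toXS hg hx).mul_right (comm_inv_left (h.z_comm x hx))
  rwa [mul_inv_cancel] at this

theorem mem_of_dd [Finite G] (h : LX Q z) (hd : ∀ x ∈ Q, Eqv z (dd g x) 1) : g ∈ Q :=
  h.mem_of_trivial fun x hx => by
    have := (hd x hx).mul_right (h.z_comm x hx)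
    rwa [dd_mul_self, one_mul] at this

theorem dd_dd (g k x : G) : dd (g * k) x = dd g (dd k x) * dd k x * dd g x := by
  rw [dd_mul_left, dd_mul_self]

theorem dd_sq (h : LX Q z) (hg : g * z = z * g) (hx : x ∈ Q) :
    Eqv z (dd (g * g) x) (dd g (dd g x)) := by
  rw [dd_dd, mul_assoc]
  simpa using (eqv_sq_one h.toXS (dd_mem h hg hx)).mul_left (dd g (dd g x))

theorem dd_mul_eqv_of (h : LX Q z) {k : G} (hg : g * z = z * g) (hk : k * z = z * k) (hx : x ∈ Q)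
    (e : Eqv z (dd g (dd k x)) 1) : Eqv z (dd (g * k) x) (dd g x * dd k x) := by
  rw [dd_dd, mul_assoc]
  have h1 := e.mul_right (h.z_comm _ (Q.mul_mem (dd_mem h hk hx) (dd_mem h hg hx)))
  rw [one_mul] at h1
  exact h1.trans h.z_sq (eqv_comm h.toXS (dd_mem h hk hx) (dd_mem h hg hx))

end LX

section Sa

variable {Q : Subgroup G} {z s x y w : G}

theorem uu_eqv_dd (h : Sa Q z s) (hy : y ∈ Q) : Eqv z (uu s y) (dd s y) := by
  refine eqv_of_cmv h.toXS (h.uu_mem hy) (dd_mem h.toLX h.s_comm hy) fun w hw => ?_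
  rw [h.cmv_uu hy hw, dd, cmv_mul_left h.toXS (h.norm s h.s_comm y hy) (Q.inv_mem hy) hw,
    cmv_inv_left, h.s_inv, h.cmv_s, add_comm]

theorem uu_uu (h : Sa Q z s) (y : G) : uu s (uu s y) = uu s y * uu s y := by
  have h1 := s_uu h.s_sq y
  have h2 : s * (uu s y)⁻¹ * s = uu s y := by
    rw [← h1]; simp only [← mul_assoc, h.s_sq, one_mul]; rw [mul_assoc, h.s_sq, mul_one]
  calc uu s (uu s y) = uu s y * (s * (uu s y)⁻¹ * s) := by
        conv_lhs => rw [uu]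
        simp only [mul_assoc]
    _ = _ := by rw [h2]

theorem uu_eqv (h : Sa Q z s) (hy : y ∈ Q) (e : Eqv z x y) : uu s x = uu s y := by
  rcases e with rfl | rfl
  exacts [rfl, h.uu_mul_A y h.s_comm.symm]

theorem cmv_uu_of (h : Sa Q z s) (hy : y ∈ Q) (hw : w ∈ Q) (e : Eqv z (uu s w) 1) :
    cmv (uu s y) w = 0 := by rw [h.beta_symm hy hw, cmv_of_eqv_one h.toXS hy e]

theorem uu_comm_uu (h : Sa Q z s) (hy : y ∈ Q) (hw : w ∈ Q) :
    uu s y * uu s w = uu s w * uu s y :=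
  cmv_eq_zero.1 (cmv_uu_of h hy (h.uu_mem hw) (uu_uu h w ▸ eqv_sq_one h.toXS (h.uu_mem hw)))

theorem uu_mul0 (h : Sa Q z s) (hy : y ∈ Q) (hw : w ∈ Q) (hc : cmv (uu s y) w = 0) :
    uu s (y * w) = uu s y * uu s w := by
  rw [h.beta_symm hy hw, cmv_comm, cmv_eq_zero] at hc
  rw [uu_mul h.s_sq, conj_eq_of_comm hc, uu_comm_uu h hy hw]

theorem uu_mul1 (h : Sa Q z s) (hy : y ∈ Q) (hw : w ∈ Q) (hc : cmv (uu s y) w = 1) :
    uu s (y * w) = uu s y * uu s w * z := by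
  rw [h.beta_symm hy hw, cmv_comm, cmv_eq_one] at hc
  rw [uu_mul h.s_sq, h.toXS.conj_of_ne hy (h.uu_mem hw) hc, uu_comm_uu h hy hw, mul_assoc,
    ← h.z_comm _ (h.uu_mem hy), mul_assoc]

theorem uu_mul_eqv (h : Sa Q z s) (hy : y ∈ Q) (hw : w ∈ Q) :
    Eqv z (uu s (y * w)) (uu s y * uu s w) := by
  rcases zmod2_cases (cmv (uu s y) w) with e | e
  exacts [Or.inl (uu_mul0 h hy hw e), Or.inr (uu_mul1 h hy hw e)]

theorem beta_left (h : Sa Q z s) {y' : G} (hy : y ∈ Q) (hy' : y' ∈ Q) (hw : w ∈ Q) :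
    cmv (uu s (y * y')) w = cmv (uu s y) w + cmv (uu s y') w := by
  rw [cmv_eqv h.toXS hw (uu_mul_eqv h hy hy'), cmv_mul_left h.toXS (h.uu_mem hy) (h.uu_mem hy') hw]

theorem beta_right (h : Sa Q z s) {w' : G} (hy : y ∈ Q) (hw : w ∈ Q) (hw' : w' ∈ Q) :
    cmv (uu s y) (w * w') = cmv (uu s y) w + cmv (uu s y) w' :=
  cmv_mul_right h.toXS hw hw' (h.uu_mem hy)

theorem sqv_uu (h : Sa Q z s) (hy : y ∈ Q) : sqv (uu s y) = cmv (uu s y) y := by
  rw [sqv_eqv h.toXS (dd_mem h.toLX h.s_comm hy) (uu_eqv_dd h hy),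
    cmv_eqv h.toXS hy (uu_eqv_dd h hy), sqv_dd h.toLX h.s_comm hy]

theorem uu_comm_s (h : Sa Q z s) (e : uu s y * uu s y = 1) : uu s y * s = s * uu s y :=
  (uu_eq_one_iff h.s_sq).1 ((uu_uu h y).trans e)

theorem exists_not_eqv [Finite G] (h : Sa Q z s) : ∃ y ∈ Q, ¬ Eqv z (uu s y) 1 := by
  by_contra hc
  push Not at hc
  exact h.s_not (mem_of_dd h.toLX fun x hx =>
    ((uu_eqv_dd h hx).symm h.z_sq).trans h.z_sq (hc x hx))

theorem exists_beta (h : Sa Q z s) (hy : y ∈ Q) (e : ¬ Eqv z (uu s y) 1) :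
    ∃ w ∈ Q, cmv (uu s y) w = 1 := by
  by_contra hc
  push Not at hc
  exact e (eqv_one_of_cmv h.toXS (h.uu_mem hy) fun w hw => (zmod2_cases _).resolve_right (hc w hw))

/-- the preimage of the commutator space -/
def hat (h : Sa Q z s) : Subgroup G where
  carrier := {x | ∃ y ∈ Q, Eqv z x (uu s y)}
  one_mem' := ⟨1, Q.one_mem, Or.inl ((uu_eq_one_iff h.s_sq).2 (by simp)).symm⟩
  mul_mem' := by
    rintro a b ⟨y, hy, ha⟩ ⟨w, hw, hb⟩
    exact ⟨y * w, Q.mul_mem hy hw, (eqv_mul h.toXS (h.uu_mem hw) ha hb).trans h.z_sq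
      ((uu_mul_eqv h hy hw).symm h.z_sq)⟩
  inv_mem' := by
    rintro a ⟨y, hy, e⟩
    exact ⟨y, hy, (eqv_inv h.toXS (mem_of_eqv h.toXS (h.uu_mem hy) e)).trans h.z_sq e⟩

theorem hat_le (h : Sa Q z s) : hat h ≤ Q := fun _ ⟨_, hy, e⟩ => mem_of_eqv h.toXS (h.uu_mem hy) e

theorem z_mem_hat (h : Sa Q z s) : z ∈ hat h :=
  ⟨1, Q.one_mem, Or.inr (by rw [(uu_eq_one_iff h.s_sq).2 (by simp), one_mul])⟩

theorem uu_mem_hat (h : Sa Q z s) (hy : y ∈ Q) : uu s y ∈ hat h := ⟨y, hy, Or.inl rfl⟩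

theorem eqv_one_of_cent_hat (h : Sa Q z s) (hx : x ∈ Q) (hc : ∀ y ∈ Q, cmv (uu s y) x = 0) :
    Eqv z (uu s x) 1 :=
  eqv_one_of_cmv h.toXS (h.uu_mem hx) fun w hw => (h.beta_symm hx hw).trans (hc w hw)

theorem mem_hat [Finite G] (h : Sa Q z s) (hx : x ∈ Q)
    (hc : ∀ a ∈ Q, Eqv z (uu s a) 1 → a * x = x * a) : ∃ y ∈ Q, Eqv z x (uu s y) :=
  h.toXS.mem_of_comm_centralizer (A := hat h) (hat_le h) (z_mem_hat h) hx fun q hq hq' =>
    hc q hq (eqv_one_of_cent_hat h hq fun y hy => cmv_eq_zero.2 (hq' _ (uu_mem_hat h hy)))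

theorem uu_conj_A (h : Sa Q z s) (hy : y ∈ Q) (hx : x ∈ Q) (e : Eqv z (uu s x) 1) :
    uu s (y * x) = uu s y * uu s x := uu_mul0 h hy hx (cmv_uu_of h hy hx e)

/-- an element centralising `C_Q(s)` and an element conjugating `s` to `z s` is a commutator -/
theorem exists_uu_of_two [Finite G] (h : Sa Q z s) {x0 : G} (h0 : x0 ∈ Q) (e0 : uu s x0 = z)
    (hx : x ∈ Q) (hc : ∀ a ∈ Q, a * s = s * a → a * x = x * a) (hc0 : x0 * x = x * x0) :
    ∃ y ∈ Q, x = uu s y := by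
  have e1 : Eqv z (uu s x0) 1 := e0 ▸ eqv_z z
  obtain ⟨y, hy, e | e⟩ := mem_hat h hx fun a ha e => by
    rcases eqv_one_iff.1 e with e' | e'
    · exact hc a ha ((uu_eq_one_iff h.s_sq).1 e')
    · have := hc _ (Q.mul_mem ha h0) ((uu_eq_one_iff h.s_sq).1
        (by rw [uu_conj_A h ha h0 e1, e', e0, h.z_sq]))
      rwa [mul_assoc, hc0, ← mul_assoc, ← mul_assoc, mul_left_inj] at this
  · exact ⟨y, hy, e⟩
  · exact ⟨y * x0, Q.mul_mem hy h0, by rw [uu_conj_A h hy h0 e1, e0, e]⟩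

/-- all commutators are involutions -/
def TyA (Q : Subgroup G) (s : G) : Prop := ∀ y ∈ Q, uu s y * uu s y = 1

/-- `s` is not conjugate to `z s` under `Q` -/
def TyI (Q : Subgroup G) (z s : G) : Prop := ∀ y ∈ Q, uu s y ≠ z

theorem TyI.tyA (h : Sa Q z s) (h1 : TyI Q z s) : TyA Q s := fun y hy =>
  (h.toXS.sq (h.uu_mem hy)).resolve_right fun e => h1 _ (h.uu_mem hy) ((uu_uu h y).trans e)

theorem TyI.comm (h : Sa Q z s) (h1 : TyI Q z s) (hy : y ∈ Q) (e : Eqv z (uu s y) 1) :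
    y * s = s * y :=
  (uu_eq_one_iff h.s_sq).1 ((eqv_one_iff.1 e).resolve_right (h1 y hy))

theorem TyA.beta_self (h : Sa Q z s) (h1 : TyA Q s) (hy : y ∈ Q) : cmv (uu s y) y = 0 := by
  rw [← sqv_uu h hy, sqv_eq_zero.2 (h1 y hy)]

theorem TyA.comm_s (h : Sa Q z s) (h1 : TyA Q s) (hy : y ∈ Q) : uu s y * s = s * uu s y :=
  uu_comm_s h (h1 y hy)

theorem TyI.eq_of_eqv (h : Sa Q z s) (h1 : TyI Q z s) (hy : y ∈ Q) (hw : w ∈ Q)
    (e : Eqv z (uu s y) (uu s w)) : uu s y = uu s w := by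
  refine e.resolve_right fun e' => h1 _ (Q.mul_mem hy hw) ?_
  rw [uu_mul0 h hy hw (by rw [cmv_eqv h.toXS hw e, (h1.tyA h).beta_self h hw]), e', mul_assoc,
    ← h.z_comm _ (h.uu_mem hw), ← mul_assoc, h1.tyA h w hw, one_mul]

theorem TyA.cent_comm [Finite G] (h : Sa Q z s) (h1 : TyA Q s) (hx : x ∈ Q)
    (hc : ∀ a ∈ Q, a * s = s * a → a * x = x * a) : x * s = s * x := by
  have e := eqv_one_of_cent_hat h hx fun y hy =>
    cmv_eq_zero.2 (hc _ (h.uu_mem hy) (h1.comm_s h hy))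
  refine (uu_eq_one_iff h.s_sq).1 ((eqv_one_iff.1 e).resolve_right fun e' => ?_)
  obtain ⟨y, hy, rfl⟩ := exists_uu_of_two h hx e' hx hc rfl
  rw [uu_uu h, h1 y hy] at e'
  exact h.z_ne e'.symm

theorem TyI.mem_hat [Finite G] (h : Sa Q z s) (h1 : TyI Q z s) (hx : x ∈ Q)
    (hc : ∀ a ∈ Q, a * s = s * a → a * x = x * a) : ∃ y ∈ Q, Eqv z x (uu s y) :=
  XW.mem_hat h hx fun a ha e => hc a ha (h1.comm h ha e)

/-- an involution centralising a hyperplane with singular centre acts trivially -/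
theorem not_of_hyp [Finite G] (h : Sa Q z s) {e : G} (he : e ∈ Q) (hee : e * e = 1)
    (hc : ∀ x ∈ Q, x * e = e * x → Eqv z (uu s x) 1) : False := by
  obtain ⟨y, hy, hn⟩ := exists_not_eqv h
  have key : ∀ x ∈ Q, x * e ≠ e * x → Eqv z (uu s x) 1 := fun x hx hne => by
    have := h.toXS.eq_of_comm_centralizer he (h.uu_mem hx) fun q hq e' =>
      (cmv_eq_zero.1 (cmv_uu_of h hx hq (hc q hq e'))).symm
    have h2 : ¬ Eqv z (uu s x) e := fun e' => hne (by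
      have h3 := sqv_uu h hx
      rw [sqv_eqv h.toXS he e', cmv_eqv h.toXS hx e', sqv_eq_zero.2 hee] at h3
      exact (cmv_eq_zero.1 h3.symm).symm)
    rcases this with e' | e' | e' | e'
    exacts [Or.inl e', e' ▸ eqv_z z, absurd (Or.inl e') h2, absurd (Or.inr e') h2]
  by_cases e' : y * e = e * y
  exacts [hn (hc y hy e'), hn (key y hy e')]

end Sa

/-- counting the preimage of a subgroup under a multiplicative map -/
theorem exists_preimage [Finite G] {A C E : Subgroup G} (hE : E ≤ C) (φ : G → G)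
    (hm : ∀ a ∈ A, ∀ b ∈ A, φ (a * b) = φ a * φ b) (hC : ∀ a ∈ A, φ a ∈ C) :
    ∃ K : Subgroup G, (∀ u, u ∈ K ↔ u ∈ A ∧ φ u ∈ E) ∧
      Nat.card A * Nat.card E ≤ Nat.card K * Nat.card C := by
  let f : A →* C := MonoidHom.mk' (fun a => ⟨φ a, hC a a.2⟩) fun a b => Subtype.ext (hm a a.2 b b.2)
  refine ⟨((E.subgroupOf C).comap f).map A.subtype, fun u => ⟨?_, fun hu => ⟨⟨u, hu.1⟩, hu.2, rfl⟩⟩,
    ?_⟩
  · rintro ⟨a, ha, rfl⟩
    exact ⟨a.2, ha⟩
  · rw [card_map_subtype, ← ((E.subgroupOf C).comap f).card_mul_index,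
      ← (E.subgroupOf C).card_mul_index, Grp.card_subgroupOf_of_le hE, mul_assoc, mul_comm (Nat.card E)]
    refine Nat.mul_le_mul_left _ (Nat.mul_le_mul_right _ ?_)
    rw [index_comap, ← relIndex_top_right]
    exact relIndex_le_of_le_right le_top (by rw [relIndex_top_right]; exact index_ne_zero_of_finite)

end Cfsg.Agent.XW
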