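import Mathlib
import Cfsg.Agent.XW.A

/-! Commuting conjugates of a weakly closed involution: first structure results. -/

set_option autoImplicit false

namespace Cfsg.Agent.XW

open Subgroup Cfsg.Agent.TT Cfsg.Agent.LES Cfsg.Agent.XSC.WC

variable {G : Type*} [Group G]

/-- `z` is weakly closed in the large extraspecial group `O₂(C(z))` of order at least `32` -/
structure WS (z : G) : Prop where
  wk : Wk (O2C z) z
  big : 32 ≤ Nat.card (O2C z)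

theorem mem_O2C_conj {g z x : G} : x ∈ O2C (g * z * g⁻¹) ↔ g⁻¹ * x * g ∈ O2C z := by
  rw [O2C_conj, Grp.mem_map_conj_iff]

theorem conj_mem_O2C_conj {z x : G} (g : G) (hx : x ∈ O2C z) :
    g * x * g⁻¹ ∈ O2C (g * z * g⁻¹) := mem_O2C_conj.2 (by simpa [mul_assoc] using hx)

theorem card_O2C_conj {z d : G} (h : IsConj z d) : Nat.card (O2C d) = Nat.card (O2C z) := by
  obtain ⟨g, rfl⟩ := isConj_iff.1 h
  rw [O2C_conj, card_map_conj]

theorem isConj_cj (g x : G) : IsConj x (g * x * g⁻¹) := isConj_iff.2 ⟨g, rfl⟩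

namespace WS

variable {z : G}

theorem of_isConj (h : WS z) {d : G} (hd : IsConj z d) : WS d := by
  refine ⟨?_, card_O2C_conj hd ▸ h.big⟩
  obtain ⟨g, rfl⟩ := isConj_iff.1 hd
  rw [O2C_conj]; exact h.wk.map_conj g

theorem lx (h : WS z) : LX (O2C z) z := h.wk.toLX

theorem xs (h : WS z) : XS (O2C z) z := h.wk.toLX.toXS

theorem zz (h : WS z) : z * z = 1 := h.wk.z_sq

theorem sq (h : WS z) {d : G} (hd : IsConj z d) : d * d = 1 := (h.of_isConj hd).zz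

end WS

/-- two distinct commuting conjugates -/
structure Pr (z t : G) : Prop where
  ws : WS z
  conj : IsConj z t
  ne : t ≠ z
  comm : t * z = z * t

/-- rank two -/
def R2 (z t : G) : Prop := ∀ x ∈ O2C z, uu t x = 1 ∨ uu t x * z ∈ O2C t

/-- two distinct non-trivial elements of `Q ⊓ P` -/
def E2 (z t : G) : Prop :=
  ∃ a ∈ O2C z, a ∈ O2C t ∧ ∃ b ∈ O2C z, b ∈ O2C t ∧ a ≠ 1 ∧ b ≠ 1 ∧ a ≠ b

/-- the centraliser of `t` in `O₂(C(z))` is elementary abelian -/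
def EA (z t : G) : Prop := ∀ a ∈ O2C z, a * t = t * a → a * a = 1

theorem EA.comm {z t : G} (h : EA z t) {a b : G} (ha : a ∈ O2C z) (hat : a * t = t * a)
    (hb : b ∈ O2C z) (hbt : b * t = t * b) : a * b = b * a :=
  comm_of_sq_eq_one (U := O2C z ⊓ centralizer {t})
    (fun u hu => h u hu.1 (mem_centralizer_singleton_iff.1 hu.2))
    ⟨ha, mem_centralizer_singleton_iff.2 hat⟩ ⟨hb, mem_centralizer_singleton_iff.2 hbt⟩

theorem E2.symm {z t : G} (h : E2 z t) : E2 t z :=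
  let ⟨a, h1, h2, b, h3, h4, h5⟩ := h; ⟨a, h2, h1, b, h4, h3, h5⟩

theorem E2.map_conj {z t : G} (h : E2 z t) (g : G) : E2 (g * z * g⁻¹) (g * t * g⁻¹) :=
  let ⟨a, h1, h2, b, h3, h4, h5, h6, h7⟩ := h
  ⟨_, conj_mem_O2C_conj g h1, conj_mem_O2C_conj g h2, _, conj_mem_O2C_conj g h3,
    conj_mem_O2C_conj g h4, by simpa using h5, by simpa using h6, by simpa using h7⟩

namespace Pr

variable {z t : G} (h : Pr z t)
include h

theorem wt : WS t := h.ws.of_isConj h.conj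

theorem symm : Pr t z := ⟨h.wt, h.conj.symm, h.ne.symm, h.comm.symm⟩

theorem cp : Cp (O2C z) z (O2C t) t := ⟨h.ws.wk, h.wt.wk, h.conj, h.ne, h.comm⟩

theorem sa : Sa (O2C z) z t := h.cp.sa

theorem lx : LX (O2C z) z := h.ws.lx

theorem xs : XS (O2C z) z := h.ws.xs

theorem zz : z * z = 1 := h.ws.zz

theorem tt : t * t = 1 := h.wt.zz

theorem t_not : t ∉ O2C z := h.cp.s_not

theorem z_not : z ∉ O2C t := h.symm.t_not

theorem card_eq : Nat.card (O2C t) = Nat.card (O2C z) := card_O2C_conj h.conj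

theorem map_conj (g : G) : Pr (g * z * g⁻¹) (g * t * g⁻¹) :=
  ⟨h.ws.of_isConj (isConj_cj g z), ((isConj_cj g z).symm.trans h.conj).trans (isConj_cj g t),
    by simpa using h.ne, (comm_conj_iff g t z).2 h.comm⟩

variable {a b e x y : G}

theorem E_sq (hQ : e ∈ O2C z) (hP : e ∈ O2C t) : e * e = 1 := h.cp.D_sq hQ hP

theorem E_t (hP : e ∈ O2C t) : e * t = t * e := h.symm.xs.z_comm e hP

theorem E_A (hQ : e ∈ O2C z) (hP : e ∈ O2C t) (ha : a ∈ O2C z) (hat : a * t = t * a) :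
    a * e = e * a := h.cp.D_comm hQ hP a ha hat

theorem E_B (hQ : e ∈ O2C z) (hP : e ∈ O2C t) (hb : b ∈ O2C t) (hbz : b * z = z * b) :
    b * e = e * b := h.symm.E_A hP hQ hb hbz

theorem dd_E (ha : a ∈ O2C z) (hat : a * t = t * a) (hb : b ∈ O2C t) (hbz : b * z = z * b) :
    dd b a ∈ O2C z ∧ dd b a ∈ O2C t := (h.symm.cp.comm_mem hb hbz ha hat).symm

theorem uu_E (hP : uu t x ∈ O2C t) : uu t x = 1 := h.cp.uu_eq_one hP

theorem E_ne_z (hP : e ∈ O2C t) : e ≠ z := fun c => h.z_not (c ▸ hP)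

theorem E_not_eqv (hP : e ∈ O2C t) (h1 : e ≠ 1) : ¬ Eqv z e 1 := fun c =>
  (eqv_one_iff.1 c).elim h1 (h.E_ne_z hP)

/-- the pair formed by `t` and a conjugate under `O₂(C(z))` -/
theorem conj_pr (h1 : uu t x ≠ 1) (h2 : uu t x * uu t x = 1) : Pr t (x * t * x⁻¹) := by
  refine ⟨h.wt, isConj_cj x t, fun c => h1 (by rw [uu, c, h.tt]), ?_⟩
  rw [← uu_mul_s h.tt, ← mul_assoc, ← uu_comm_s h.sa h2]

variable [Finite G]

theorem II_not_comm (hx : x ∈ O2C z) (e0 : uu t x = z) (hQ : e ∈ O2C z) (hP : e ∈ O2C t)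
    (h1 : e ≠ 1) : x * e ≠ e * x := fun c => by
  obtain ⟨y, -, rfl⟩ := exists_uu_of_two h.sa hx e0 hQ (fun a => h.E_A hQ hP) c
  exact h1 (h.uu_E hP)

theorem tyA_of_E (hQ : e ∈ O2C z) (hP : e ∈ O2C t) (h1 : e ≠ 1) : TyA (O2C z) t := fun y hy =>
  (h.xs.sq (h.sa.uu_mem hy)).resolve_right fun c =>
    h.II_not_comm (h.sa.uu_mem hy) ((uu_uu h.sa y).trans c) hQ hP h1
      (h.sa.uu_comm_A hy hQ (h.E_t hP))

theorem tyI_of_E2 (h2 : E2 z t) : TyI (O2C z) z t := fun x hx e0 => by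
  obtain ⟨a, a1, a2, b, b1, b2, n1, n2, n3⟩ := h2
  have k1 := cmv_eq_one.2 (h.II_not_comm hx e0 a1 a2 n1)
  have k2 := cmv_eq_one.2 (h.II_not_comm hx e0 b1 b2 n2)
  have k3 := cmv_eq_one.2 (h.II_not_comm hx e0 (mul_mem a1 b1) (mul_mem a2 b2) fun c =>
    n3 ((eq_inv_of_mul_eq_one_left c).trans (inv_eq_of_mul_eq_one_right (h.E_sq b1 b2))))
  rw [cmv_mul_right h.xs a1 b1 hx, k1, k2] at k3
  exact absurd k3 (by decide)

theorem E_form (hI : TyI (O2C z) z t) (hQ : e ∈ O2C z) (hP : e ∈ O2C t) (h1 : e ≠ 1) :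
    ∃ x ∈ O2C z, uu t x = e * z := by
  obtain ⟨y, hy, c | c⟩ := hI.mem_hat h.sa hQ fun a => h.E_A hQ hP
  · exact absurd (c ▸ h.uu_E (c ▸ hP)) h1
  · exact ⟨y, hy, by rw [c, h.xs.mul_z_z]⟩

theorem E_pair (hQ : a ∈ O2C z) (hP : a ∈ O2C t) (hQ' : b ∈ O2C z) (hP' : b ∈ O2C t) (hne : a ≠ b)
    (hx : x ∈ O2C z) (hy : y ∈ O2C z) (e1 : uu t x = a * z) (e2 : uu t y = b * z) :
    cmv a y = 1 := by
  refine z2_of_ne_zero fun c => hne ?_
  rw [← cmv_mul_z h.xs hy, ← e1] at c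
  have h2 := uu_mul0 h.sa hx hy c
  rw [e1, e2, h.xs.z_comm b hQ', ← mul_assoc, h.xs.mul_z_z] at h2
  have h3 := h.uu_E (h2 ▸ mul_mem hP hP')
  rw [h2] at h3
  exact (eq_inv_of_mul_eq_one_left h3).trans (inv_eq_of_mul_eq_one_right (h.E_sq hQ' hP'))

theorem E_cases (a1 : a ∈ O2C z) (a2 : a ∈ O2C t) (b1 : b ∈ O2C z) (b2 : b ∈ O2C t) (n1 : a ≠ 1)
    (n2 : b ≠ 1) (n3 : a ≠ b) (hQ : e ∈ O2C z) (hP : e ∈ O2C t) :
    e = 1 ∨ e = a ∨ e = b ∨ e = a * b := by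
  by_contra hc
  push Not at hc
  obtain ⟨c1, c2, c3, c4⟩ := hc
  have hI := h.tyI_of_E2 ⟨a, a1, a2, b, b1, b2, n1, n2, n3⟩
  have n4 : a * b ≠ 1 := fun c =>
    n3 ((eq_inv_of_mul_eq_one_left c).trans (inv_eq_of_mul_eq_one_right (h.E_sq b1 b2)))
  obtain ⟨xa, ma, ea⟩ := h.E_form hI a1 a2 n1
  obtain ⟨xb, mb, eb⟩ := h.E_form hI b1 b2 n2
  obtain ⟨xc, mc, ec⟩ := h.E_form hI (mul_mem a1 b1) (mul_mem a2 b2) n4
  obtain ⟨xe, me, ee⟩ := h.E_form hI hQ hP c1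
  have k := h.E_pair (mul_mem a1 b1) (mul_mem a2 b2) hQ hP c4.symm mc me ec ee
  rw [cmv_mul_left h.xs a1 b1 me, h.E_pair a1 a2 hQ hP c2.symm ma me ea ee,
    h.E_pair b1 b2 hQ hP c3.symm mb me eb ee] at k
  exact absurd k (by decide)

theorem card_E_le : Nat.card (O2C z ⊓ O2C t : Subgroup G) ≤ 4 := by
  classical
  by_cases h2 : E2 z t
  · obtain ⟨a, a1, a2, b, b1, b2, n1, n2, n3⟩ := h2
    rw [← SetLike.coe_sort_coe, Nat.card_coe_set_eq]
    refine (Set.ncard_le_ncard (t := ↑({1, a, b, a * b} : Finset G)) (fun e he => ?_)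
      (Finset.finite_toSet _)).trans ?_
    · simpa using h.E_cases a1 a2 b1 b2 n1 n2 n3 he.1 he.2
    · rw [Set.ncard_coe_finset]; exact Finset.card_le_four
  · by_cases h1 : ∃ e ∈ O2C z, e ∈ O2C t ∧ e ≠ 1
    · obtain ⟨e, e1, e2, e3⟩ := h1
      rw [← SetLike.coe_sort_coe, Nat.card_coe_set_eq]
      refine (Set.ncard_le_ncard (t := {1, e}) (fun a ha => ?_) (Set.toFinite _)).trans
        ((Set.ncard_pair e3.symm).le.trans (by norm_num))
      by_contra hc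
      simp only [Set.mem_insert_iff, Set.mem_singleton_iff, not_or] at hc
      exact h2 ⟨a, ha.1, ha.2, e, e1, e2, hc.1, e3, hc.2⟩
    · push Not at h1
      rw [(eq_bot_iff_forall (O2C z ⊓ O2C t)).2 fun e he => h1 e he.1 he.2, card_bot]; norm_num

theorem E2_of_card (h3 : 2 < Nat.card (O2C z ⊓ O2C t : Subgroup G)) : E2 z t := by
  by_contra h2
  by_cases h1 : ∃ e ∈ O2C z, e ∈ O2C t ∧ e ≠ 1
  · obtain ⟨e, e1, e2, e3⟩ := h1
    rw [← SetLike.coe_sort_coe, Nat.card_coe_set_eq] at h3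
    refine absurd ((Set.ncard_le_ncard (t := {1, e}) (fun a ha => ?_) (Set.toFinite _)).trans
      (Set.ncard_pair e3.symm).le) (not_le.2 h3)
    by_contra hc
    simp only [Set.mem_insert_iff, Set.mem_singleton_iff, not_or] at hc
    exact h2 ⟨a, ha.1, ha.2, e, e1, e2, hc.1, e3, hc.2⟩
  · push Not at h1
    rw [(eq_bot_iff_forall (O2C z ⊓ O2C t)).2 fun e he => h1 e he.1 he.2, card_bot] at h3
    omega

theorem W_sq (hA : TyA (O2C z) t) (hQ : e ∈ O2C z) (hP : e ∈ O2C t) (h1 : e ≠ 1)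
    (hx : x ∈ O2C z) (hc : ∀ a ∈ O2C z, a * t = t * a → a * x = x * a) : x * x = 1 := by
  by_cases hI : TyI (O2C z) z t
  · obtain ⟨y, hy, c⟩ := hI.mem_hat h.sa hx hc
    rw [eqv_sq h.xs (h.sa.uu_mem hy) c, hA y hy]
  simp only [TyI, not_forall, not_not] at hI
  obtain ⟨x0, h0, e0⟩ := hI
  by_cases c : x0 * x = x * x0
  · obtain ⟨y, hy, rfl⟩ := exists_uu_of_two h.sa h0 e0 hx hc c
    exact hA y hy
  obtain ⟨y, hy, c'⟩ := exists_uu_of_two h.sa h0 e0 (mul_mem hx hQ)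
    (fun a ha hat => comm_mul_right (hc a ha hat) (h.E_A hQ hP ha hat))
    (cmv_eq_zero.1 (by rw [cmv_mul_right h.xs hx hQ h0, cmv_eq_one.2 c,
      cmv_eq_one.2 (h.II_not_comm h0 e0 hQ hP h1)]; decide))
  have h2 := hA y hy
  rw [← c', ← sqv_eq_zero, sqv_mul h.xs hx hQ, sqv_eq_zero.2 (h.E_sq hQ hP),
    cmv_eq_zero.2 (hc e hQ (h.E_t hP)).symm, add_zero, add_zero] at h2
  exact sqv_eq_zero.1 h2

omit [Finite G] in
theorem dual (hb : b * z = z * b) (hx : x ∈ O2C z) (ha : a ∈ O2C z)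
    (hc : x * dd b⁻¹ a = dd b⁻¹ a * x) : a * dd b x = dd b x * a :=
  (cmv_eq_zero.1 ((cmv_dd h.lx hb hx ha).trans (cmv_eq_zero.2 hc))).symm

omit [Finite G] in
theorem uu_of_sq (hb : b * z = z * b) (e : b * b = t) (hx : x ∈ O2C z) :
    Eqv z (uu t x) (dd b (dd b x)) :=
  (uu_eqv_dd h.sa hx).trans h.zz (e ▸ dd_sq h.lx hb hx)

theorem ea_of_E0 (hA : TyA (O2C z) t) (h0 : ∀ e ∈ O2C z, e ∈ O2C t → e = 1) : EA t z := by
  intro b hb hbz
  refine (h.symm.xs.sq hb).resolve_right fun e => ?_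
  obtain ⟨x, hx, hn⟩ := exists_not_eqv h.sa
  have k : ∀ b ∈ O2C t, b * z = z * b → ∀ a ∈ O2C z, a * t = t * a → dd b a = 1 :=
    fun b hb hbz a ha hat => h0 _ (h.dd_E ha hat hb hbz).1 (h.dd_E ha hat hb hbz).2
  have h1 := dd_mem h.lx hbz hx
  have h2 := h.uu_of_sq hbz e hx
  rw [k b hb hbz _ h1 (hA.cent_comm h.sa h1 fun a ha hat => h.dual hbz hx ha (by
    rw [k _ (inv_mem hb) (comm_inv_left hbz) a ha hat, mul_one, one_mul]))] at h2
  exact hn h2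

/-- an element of `C_Q(e)` acting trivially centralises `t` -/
theorem comm_of_S (hQ : e ∈ O2C z) (hP : e ∈ O2C t) (h1 : e ≠ 1) (hx : x ∈ O2C z)
    (hc : x * e = e * x) (h2 : Eqv z (uu t x) 1) : x * t = t * x :=
  (uu_eq_one_iff h.tt).1 ((eqv_one_iff.1 h2).resolve_right fun c =>
    h.II_not_comm hx c hQ hP h1 hc)

theorem dd_W (hb : b ∈ O2C t) (hbz : b * z = z * b) (hx : x ∈ O2C z)
    (hc : ∀ e ∈ O2C z, e ∈ O2C t → x * e = e * x) (a : G) (ha : a ∈ O2C z) (hat : a * t = t * a) :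
    a * dd b x = dd b x * a :=
  h.dual hbz hx ha (hc _ (h.dd_E ha hat (inv_mem hb) (comm_inv_left hbz)).1
    (h.dd_E ha hat (inv_mem hb) (comm_inv_left hbz)).2)

theorem ea_of_E1 (hQ : e ∈ O2C z) (hP : e ∈ O2C t) (h1 : e ≠ 1)
    (hE : ∀ a ∈ O2C z, a ∈ O2C t → a = 1 ∨ a = e) : EA t z := by
  intro b hb hbz
  refine (h.symm.xs.sq hb).resolve_right fun eb => ?_
  have hA := h.tyA_of_E hQ hP h1
  have X := h.xs
  have cE : ∀ x, x * e = e * x → ∀ a ∈ O2C z, a ∈ O2C t → x * a = a * x := fun x c a a1 a2 => by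
    rcases hE a a1 a2 with rfl | rfl
    exacts [by simp, c]
  have k1 : ∀ x ∈ O2C z, x * e = e * x → dd b x * t = t * dd b x := fun x hx c =>
    hA.cent_comm h.sa (dd_mem h.lx hbz hx) (h.dd_W hb hbz hx (cE x c))
  have k2 : ∀ x ∈ O2C z, x * e = e * x → x * t ≠ t * x → Eqv z (uu t x) e := fun x hx c n => by
    have h2 := h.uu_of_sq hbz eb hx
    have h3 := h.dd_E (dd_mem h.lx hbz hx) (k1 x hx c) hb hbz
    rcases hE _ h3.1 h3.2 with c' | c' <;> rw [c'] at h2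
    exacts [absurd (h.comm_of_S hQ hP h1 hx c h2) n, h2]
  have k3 : ∀ x ∈ O2C z, x * e = e * x → ∀ w ∈ O2C z, w * e = e * w → w * dd b x = dd b x * w := by
    intro x hx c w hw c'
    by_cases n : w * t = t * w
    · exact h.dd_W hb hbz hx (cE x c) w hw n
    by_cases n' : x * t = t * x
    · exact cE w c' _ (h.dd_E hx n' hb hbz).1 (h.dd_E hx n' hb hbz).2
    have h2 := h.comm_of_S hQ hP h1 (mul_mem hx hw) (comm_mul_left c c') (by
      have := (uu_mul_eqv h.sa hx hw).trans h.zz (eqv_mul X hQ (k2 x hx c n') (k2 w hw c' n))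
      rwa [h.E_sq hQ hP] at this)
    have h3 := cmv_eq_zero.2 (h.dd_W hb hbz hx (cE x c) _ (mul_mem hx hw) h2).symm
    rw [cmv_mul_right X hx hw (dd_mem h.lx hbz hx), ← sqv_dd h.lx hbz hx, sqv_eq_zero.2
      (h.W_sq hA hQ hP h1 (dd_mem h.lx hbz hx) (h.dd_W hb hbz hx (cE x c))), zero_add] at h3
    exact (cmv_eq_zero.1 h3).symm
  have k4 : ∀ x ∈ O2C z, Eqv z (uu t x) 1 ∨ Eqv z (uu t x) e := fun x hx => by
    have h2 := dd_mem h.lx hbz hx
    have h3 : dd b x * e = e * dd b x := (h.dual hbz hx hQ (by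
      rw [dd_eq_one.2 (h.E_B hQ hP (inv_mem hb) (comm_inv_left hbz)), mul_one, one_mul])).symm
    have h4 := h.uu_of_sq hbz eb hx
    rcases X.eq_of_comm_centralizer hQ (dd_mem h.lx hbz h2) (k3 _ h2 h3) with c | c | c | c <;>
      rw [c] at h4
    exacts [Or.inl h4, Or.inl (h4.trans h.zz (eqv_z z)), Or.inr h4,
      Or.inr (h4.trans h.zz (eqv_mul_z z e))]
  have k5 : ∀ x ∈ O2C z, x * e ≠ e * x → Eqv z (uu t x) 1 := fun x hx n =>
    (k4 x hx).resolve_right fun c => n (by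
      have := hA.beta_self h.sa hx
      rw [cmv_eqv X hx c] at this
      exact (cmv_eq_zero.1 this).symm)
  obtain ⟨w, hw, n⟩ := X.exists_not_comm hQ h1 (h.E_ne_z hP)
  refine not_of_hyp h.sa hQ (h.E_sq hQ hP) fun x hx c => ?_
  have h2 := (uu_mul_eqv h.sa (mul_mem hx hw) (inv_mem hw)).trans h.zz (eqv_mul X (one_mem _)
    (k5 _ (mul_mem hx hw) fun c' => n (by
      rwa [mul_assoc, ← mul_assoc e, ← c, mul_assoc, mul_right_inj, eq_comm] at c'))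
    (k5 _ (inv_mem hw) fun c' => n (by simpa using (comm_inv_left c').symm)))
  simpa using h2

theorem cent_of_E2 (h2 : E2 z t) (hb : b ∈ O2C t) (hbz : b * z = z * b) (hx : x ∈ O2C z) :
    b * uu t x = uu t x * b := by
  have hI := h.tyI_of_E2 h2
  have hA := hI.tyA h.sa
  have hbt := h.symm.xs.z_comm b hb
  have key : ∀ x ∈ O2C z, dd b (uu t x) ≠ 1 → ∀ y ∈ O2C z, uu t y = dd b (uu t x) * z →
      cmv (uu t y) x = 1 := fun x hx n y hy ey => z2_of_ne_zero fun c => by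
    have h3 := uu_mul0 h.sa hy hx c
    have h4 := conj_uu hbt x
    rw [← dd_mul_self] at h4
    have h5 : uu t (y * x) = uu t (b * x * b⁻¹) * z := by
      rw [h3, ey, ← h4, mul_assoc, mul_assoc, h.xs.z_comm _ (h.sa.uu_mem hx)]
    have h6 := hI.eq_of_eqv h.sa (mul_mem hy hx) (h.lx.norm b hbz x hx) (Or.inr h5)
    rw [h6, eq_comm, mul_eq_left] at h5
    exact h.xs.z_ne h5
  by_contra n
  rw [← dd_eq_one] at n
  obtain ⟨e1, e2⟩ := h.dd_E (h.sa.uu_mem hx) (hA.comm_s h.sa hx) hb hbz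
  obtain ⟨a, a1, a2, n1, n2⟩ : ∃ a ∈ O2C z, a ∈ O2C t ∧ a ≠ 1 ∧ a ≠ dd b (uu t x) := by
    obtain ⟨a, a1, a2, c, c1, c2, n1, n2, n3⟩ := h2
    by_cases c' : a = dd b (uu t x)
    exacts [⟨c, c1, c2, n2, c' ▸ n3.symm⟩, ⟨a, a1, a2, n1, c'⟩]
  obtain ⟨y, hy, ey⟩ := h.E_form hI e1 e2 n
  obtain ⟨w, hw, ew⟩ := h.E_form hI a1 a2 n1
  have h3 : dd b (uu t (x * w)) = dd b (uu t x) := by
    rw [dd_eqv hbz (h.xs.z_comm _ (mul_mem (h.sa.uu_mem hx) (h.sa.uu_mem hw)))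
      (uu_mul_eqv h.sa hx hw), dd_mul_right, ew,
      dd_eq_one.2 (comm_mul_right (h.E_B a1 a2 hb hbz) hbz), mul_one, mul_inv_cancel, mul_one]
  have h4 := key _ (mul_mem hx hw) (h3 ▸ n) y hy (h3 ▸ ey)
  rw [beta_right h.sa hy hx hw, key x hx n y hy ey, ey, cmv_mul_z h.xs hw,
    h.E_pair e1 e2 a1 a2 n2.symm hy hw ey ew] at h4
  exact absurd h4 (by decide)

theorem r2_of_eqv (hI : TyI (O2C z) z t) (hx : x ∈ O2C z) (hP : e ∈ O2C t)
    (c : Eqv z (uu t x) e) : uu t x = 1 ∨ uu t x * z ∈ O2C t := by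
  rcases c with c | c
  · exact Or.inl (h.uu_E (c ▸ hP))
  · exact Or.inr (by rwa [c, h.xs.mul_z_z])

theorem ea_or_r2 (h2 : E2 z t) : EA t z ∨ R2 z t := by
  refine or_iff_not_imp_left.2 fun hn x hx => ?_
  simp only [EA, not_forall] at hn
  obtain ⟨b, hb, hbz, hn⟩ := hn
  have hI := h.tyI_of_E2 h2
  have h1 := dd_mem h.lx hbz hx
  have h3 := hI.comm h.sa h1 (eqv_one_of_cent_hat h.sa h1 fun y hy => cmv_eq_zero.2
    (h.dual hbz hx (h.sa.uu_mem hy) (by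
      rw [dd_eq_one.2 (h.cent_of_E2 h2 (inv_mem hb) (comm_inv_left hbz) hy), mul_one, one_mul])))
  exact h.r2_of_eqv hI hx (h.dd_E h1 h3 hb hbz).2
    (h.uu_of_sq hbz ((h.symm.xs.sq hb).resolve_left hn) hx)

end Pr

end Cfsg.Agent.XW
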