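import Mathlib
import Cfsg.Agent.XW.B

/-! Pairs with non-trivial intersection are of rank two. -/

set_option autoImplicit false

namespace Cfsg.Agent.XW

open Subgroup Cfsg.Agent.TT Cfsg.Agent.LES Cfsg.Agent.XSC.WC

variable {G : Type*} [Group G]

/-- a pair of rank two -/
structure T2 (z t : G) : Prop extends Pr z t where
  r1 : R2 z t
  r2 : R2 t z

theorem T2.symm {z t : G} (h : T2 z t) : T2 t z := ⟨h.toPr.symm, h.r2, h.r1⟩

/-- the two centralisers commute -/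
def AB (z t : G) : Prop :=
  ∀ a ∈ O2C z, a * t = t * a → ∀ b ∈ O2C t, b * z = z * b → a * b = b * a

theorem AB.symm {z t : G} (h : AB z t) : AB t z := fun b hb hbz a ha hat =>
  (h a ha hat b hb hbz).symm

theorem mem_cent {x t : G} : x ∈ centralizer ({t} : Set G) ↔ x * t = t * x :=
  mem_centralizer_singleton_iff

namespace Pr

variable {z t : G} (h : Pr z t)
include h

variable {a b e x y : G} [Finite G]

theorem not_conj_mul (hI : TyI (O2C z) z t) (hQ : e ∈ O2C z) (hP : e ∈ O2C t) (h1 : e ≠ 1) :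
    ¬ IsConj z (z * t) := fun c => by
  obtain ⟨x, hx, ex⟩ := h.E_form hI hQ hP h1
  have h2 := (hI.tyA h.sa).beta_self h.sa hx
  rw [ex, cmv_mul_z h.xs hx, cmv_eq_zero] at h2
  have h3 := conj_mem_O2C_conj x hP
  rw [conj_eq_of_comm h2.symm] at h3
  have w := h.wt.of_isConj (isConj_cj x t)
  have h4 : e * (x * t * x⁻¹) = z * t := by
    rw [← uu_mul_s h.tt, ex, ← mul_assoc, ← mul_assoc, h.E_sq hQ hP, one_mul]
  have h5 := w.wk.wc _ (h4 ▸ mul_mem h3 w.xs.z_mem)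
    (((isConj_cj x t).symm.trans h.conj.symm).trans c)
  rw [← h5, mul_eq_right] at h4
  exact h1 h4

theorem e2_of_r2 (hr : R2 z t) : E2 z t := by
  obtain ⟨y, hy, n⟩ := exists_not_eqv h.sa
  have k : ∀ y ∈ O2C z, ¬ Eqv z (uu t y) 1 → uu t y * z ∈ O2C t ∧ uu t y * z ≠ 1 := fun y hy n =>
    ⟨(hr y hy).resolve_left fun c => n (Or.inl c), fun c => n (Or.inr (by
      rw [one_mul, eq_inv_of_mul_eq_one_left c, h.xs.z_inv]))⟩
  have m := fun {y} (hy : y ∈ O2C z) => mul_mem (h.sa.uu_mem hy) h.xs.z_mem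
  have hA := h.tyA_of_E (m hy) (k y hy n).1 (k y hy n).2
  obtain ⟨w, hw, c⟩ := exists_beta h.sa hy n
  have n' : ¬ Eqv z (uu t w) 1 := fun c' => by
    rw [cmv_uu_of h.sa hy hw c'] at c; exact zero_ne_one c
  refine ⟨_, m hy, (k y hy n).1, _, m hw, (k w hw n').1, (k y hy n).2, (k w hw n').2, fun c' => ?_⟩
  rw [mul_right_cancel c', hA.beta_self h.sa hw] at c
  exact zero_ne_one c

theorem card_E_eq (h2 : E2 z t) : Nat.card (O2C z ⊓ O2C t : Subgroup G) = 4 := by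
  classical
  refine le_antisymm h.card_E_le ?_
  obtain ⟨a, a1, a2, b, b1, b2, n1, n2, n3⟩ := h2
  have n4 : a * b ≠ 1 := fun c =>
    n3 ((eq_inv_of_mul_eq_one_left c).trans (inv_eq_of_mul_eq_one_right (h.E_sq b1 b2)))
  have : ({1, a, b, a * b} : Finset G).card = 4 := by
    rw [Finset.card_eq_four]
    exact ⟨1, a, b, a * b, n1.symm, n2.symm, n4.symm, n3, by simpa using n2, by simpa using n1, rfl⟩
  rw [← this, ← Set.ncard_coe_finset, ← SetLike.coe_sort_coe, Nat.card_coe_set_eq]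
  refine Set.ncard_le_ncard (fun e he => ?_) (Set.toFinite _)
  simp only [Finset.coe_insert, Finset.coe_singleton, Set.mem_insert_iff, Set.mem_singleton_iff] at he
  rcases he with rfl | rfl | rfl | rfl
  exacts [one_mem _, ⟨a1, a2⟩, ⟨b1, b2⟩, mul_mem ⟨a1, a2⟩ ⟨b1, b2⟩]

omit [Finite G] in
theorem mem_Ez : x ∈ (O2C z ⊓ O2C t) ⊔ zpowers z ↔
    x ∈ O2C z ⊓ O2C t ∨ x * z ∈ O2C z ⊓ O2C t :=
  mem_sup_zpowers_of_comm (F := O2C z ⊓ O2C t) h.zz fun f hf => h.xs.z_comm f hf.1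

omit [Finite G] in
theorem Ez_le : (O2C z ⊓ O2C t) ⊔ zpowers z ≤ O2C z :=
  sup_le inf_le_left (zpowers_le.2 h.xs.z_mem)

omit [Finite G] in
theorem card_Ez : Nat.card ((O2C z ⊓ O2C t) ⊔ zpowers z : Subgroup G) =
    2 * Nat.card (O2C z ⊓ O2C t : Subgroup G) :=
  card_eq_two_mul_of_mul_mem le_sup_left (mem_sup_right (mem_zpowers z)) (fun c => h.z_not c.2)
    fun _ hx hx' => (h.mem_Ez.1 hx).resolve_left hx'

omit [Finite G] in
theorem mem_cent_Ez (hx : x ∈ O2C z) :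
    x ∈ centralizer (((O2C z ⊓ O2C t) ⊔ zpowers z : Subgroup G) : Set G) ↔
      ∀ e ∈ O2C z, e ∈ O2C t → x * e = e * x := by
  rw [XS.mem_centralizer_sup_zpowers]
  exact ⟨fun c e e1 e2 => (c.1 e ⟨e1, e2⟩).symm,
    fun c => ⟨fun e he => (c e he.1 he.2).symm, h.xs.z_comm x hx⟩⟩

theorem card_cent_Ez (h2 : E2 z t) : 4 * Nat.card (O2C z ⊓ centralizer
    (((O2C z ⊓ O2C t) ⊔ zpowers z : Subgroup G) : Set G) : Subgroup G) = Nat.card (O2C z) := by
  have := h.xs.card_mul_card_centralizer h.Ez_le (mem_sup_right (mem_zpowers z))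
  rw [h.card_Ez, h.card_E_eq h2] at this
  omega

theorem small_of (h2 : E2 z t) (hab : ∀ x ∈ O2C z, (∀ e ∈ O2C z, e ∈ O2C t → x * e = e * x) →
    ∀ y ∈ O2C z, (∀ e ∈ O2C z, e ∈ O2C t → y * e = e * y) → x * y = y * x) :
    Nat.card (O2C z) = 32 := by
  have h1 := h.card_cent_Ez h2
  have h3 := card_abelian_sq_le h.xs (A := O2C z ⊓ centralizer
    (((O2C z ⊓ O2C t) ⊔ zpowers z : Subgroup G) : Set G)) inf_le_left
    ⟨h.xs.z_mem, (h.mem_cent_Ez h.xs.z_mem).2 fun e e1 _ => (h.xs.z_comm e e1).symm⟩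
    fun x hx y hy => hab x hx.1 ((h.mem_cent_Ez hx.1).1 hx.2) y hy.1 ((h.mem_cent_Ez hy.1).1 hy.2)
  have h4 := h.ws.big
  nlinarith

theorem r2_of_small (h2 : E2 z t) (hc : Nat.card (O2C z) = 32) : R2 z t := fun x hx => by
  have h1 := h.card_cent_Ez h2
  have h3 := h.card_Ez
  rw [h.card_E_eq h2] at h3
  have h4 := eq_of_le_of_card_ge (H := (O2C z ⊓ O2C t) ⊔ zpowers z) (K := O2C z ⊓ centralizer
    (((O2C z ⊓ O2C t) ⊔ zpowers z : Subgroup G) : Set G)) (fun y hy => ⟨h.Ez_le hy,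
      (h.mem_cent_Ez (h.Ez_le hy)).2 fun e e1 e2 => by
        rcases h.mem_Ez.1 hy with c | c
        · exact h.E_A e1 e2 c.1 (h.E_t c.2)
        · have := h.E_A e1 e2 c.1 (h.E_t c.2)
          rwa [← cmv_eq_zero, cmv_mul_z h.xs e1, cmv_eq_zero] at this⟩) (by omega)
  rcases h.mem_Ez.1 (h4.ge ⟨h.sa.uu_mem hx, (h.mem_cent_Ez (h.sa.uu_mem hx)).2 fun e e1 e2 =>
    h.sa.uu_comm_A hx e1 (h.E_t e2)⟩) with c | c
  exacts [Or.inl (h.uu_E c.2), Or.inr c.2]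

theorem comm_of_r2 (hr : R2 z t) (hx : x ∈ O2C z)
    (hc : ∀ e ∈ O2C z, e ∈ O2C t → x * e = e * x) : x * t = t * x :=
  (h.tyI_of_E2 (h.e2_of_r2 hr)).comm h.sa hx (eqv_one_of_cent_hat h.sa hx fun y hy => by
    rcases hr y hy with c | c
    · rw [c, cmv_one_left]
    · rw [← cmv_mul_z h.xs hx, cmv_eq_zero]
      exact (hc _ (mul_mem (h.sa.uu_mem hy) h.xs.z_mem) c).symm)

theorem uu_of_r2 (hr : R2 z t) (hQ : e ∈ O2C z) (hP : e ∈ O2C t) (h1 : e ≠ 1) (hx : x ∈ O2C z)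
    (hc : x * e = e * x) : uu t x = 1 ∨ uu t x = e * z := by
  refine (hr x hx).imp_right fun c => ?_
  obtain ⟨y, hy, ey⟩ := h.E_form (h.tyI_of_E2 (h.e2_of_r2 hr)) hQ hP h1
  by_contra n
  have := h.E_pair hQ hP (mul_mem (h.sa.uu_mem hx) h.xs.z_mem) c
    (fun c' => n (by rw [c', h.xs.mul_z_z])) hy hx ey (h.xs.mul_z_z _).symm
  exact cmv_eq_one.1 this hc.symm

theorem card_A (hA : TyA (O2C z) t) (hE : EA z t) :
    Nat.card (O2C z ⊓ centralizer {t} : Subgroup G) ^ 2 = 2 * Nat.card (O2C z) := by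
  rw [← h.xs.card_mul_card_centralizer (A := O2C z ⊓ centralizer {t}) inf_le_left
    ⟨h.xs.z_mem, mem_cent.2 h.comm.symm⟩, pow_two]
  congr 2
  refine congrArg _ (le_antisymm (fun a ha => ⟨ha.1, fun b hb =>
    hE.comm hb.1 (mem_cent.1 hb.2) ha.1 (mem_cent.1 ha.2)⟩) fun a ha => ⟨ha.1, mem_cent.2
      (hA.cent_comm h.sa ha.1 fun b b1 b2 => ha.2 b ⟨b1, mem_cent.2 b2⟩)⟩)

theorem dd_B (hB : TyA (O2C t) z) (hy : y ∈ O2C t) (hat : a * t = t * a)
    (hc : ∀ b ∈ O2C t, b * z = z * b → a * b = b * a) : dd a y * z = z * dd a y :=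
  hB.cent_comm h.symm.sa (dd_mem h.symm.lx hat hy) fun b hb hbz => h.symm.dual hat hy hb (by
    rw [dd_eq_one.2 (comm_inv_left (hc b hb hbz)), mul_one, one_mul])

theorem count (hA : TyA (O2C z) t) (hB : TyA (O2C t) z) (eA : EA z t) (eB : EA t z) (hc : AB z t)
    (hy : y ∈ O2C t) (hn : y * z ≠ z * y) (hE : ∀ e ∈ O2C z, e ∈ O2C t → y * e = e * y) :
    2 * Nat.card (O2C z ⊓ O2C t : Subgroup G) ≤
      Nat.card (O2C z ⊓ O2C (y * z * y⁻¹) : Subgroup G) := by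
  have X := h.symm.xs
  have k : ∀ a ∈ O2C z ⊓ centralizer {t}, dd y a ∈ O2C t ∧ dd y a * z = z * dd y a := fun a ha => by
    rw [← dd_inv_swap]
    exact ⟨inv_mem (dd_mem h.symm.lx (mem_cent.1 ha.2) hy),
      comm_inv_left (h.dd_B hB hy (mem_cent.1 ha.2) (hc a ha.1 (mem_cent.1 ha.2)))⟩
  obtain ⟨K, hK, h1⟩ := exists_preimage (A := O2C z ⊓ centralizer {t})
    (C := O2C t ⊓ centralizer {z} ⊓ centralizer {y}) (E := O2C z ⊓ O2C t)
    (fun e he => ⟨⟨he.2, mem_cent.2 (h.xs.z_comm e he.1)⟩, mem_cent.2 (hE e he.1 he.2).symm⟩) (dd y)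
    (fun a ha b hb => by
      rw [dd_mul_right, conj_eq_of_comm (hc a ha.1 (mem_cent.1 ha.2) _ (k b hb).1 (k b hb).2)])
    fun a ha => ⟨⟨(k a ha).1, mem_cent.2 (k a ha).2⟩, mem_cent.2 (by
      rw [← cmv_eq_zero, ← dd_inv_swap, cmv_inv_left, ← sqv_dd h.symm.lx (mem_cent.1 ha.2) hy,
        ← sqv_inv, dd_inv_swap, sqv_eq_zero]
      exact eB _ (k a ha).1 (k a ha).2)⟩
  obtain ⟨b, hb, hbz, n⟩ : ∃ b ∈ O2C t, b * z = z * b ∧ b * y ≠ y * b := by
    by_contra c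
    push Not at c
    exact hn (hB.cent_comm h.symm.sa hy c)
  have h2 : Nat.card (O2C t ⊓ centralizer {z} : Subgroup G) =
      2 * Nat.card (O2C t ⊓ centralizer {z} ⊓ centralizer {y} : Subgroup G) :=
    card_eq_two_mul_of_mul_mem inf_le_left ⟨hb, mem_cent.2 hbz⟩ (fun c => n (mem_cent.1 c.2))
      fun x hx hx' => ⟨mul_mem hx ⟨hb, mem_cent.2 hbz⟩, mem_cent.2
        (X.mul_comm_of_not_comm hy hx.1 hb (fun c => hx' ⟨hx, mem_cent.2 c⟩) n)⟩
  have h3 := h.card_A hA eA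
  have h4 := h.symm.card_A hB eB
  rw [h.card_eq, ← h3] at h4
  rw [← Nat.pow_left_injective two_ne_zero h4, h2] at h1
  have h5 : Nat.card K ≤ Nat.card (O2C z ⊓ O2C (y * z * y⁻¹) : Subgroup G) := by
    rw [← card_map_conj K y]
    refine card_le_of_le ?_
    rintro _ ⟨u, hu, rfl⟩
    obtain ⟨u1, u2⟩ := (hK u).1 hu
    exact ⟨(dd_mul_self y u ▸ mul_mem u2.1 u1.1 : y * u * y⁻¹ ∈ O2C z), conj_mem_O2C_conj y u1.1⟩
  have h6 : 0 < Nat.card (O2C t ⊓ centralizer {z} ⊓ centralizer {y} : Subgroup G) := Nat.card_pos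
  nlinarith

theorem pr_of_not_comm (hB : TyA (O2C t) z) (hy : y ∈ O2C t) (hn : y * z ≠ z * y) :
    Pr z (y * z * y⁻¹) :=
  h.symm.conj_pr (mt (uu_eq_one_iff h.zz).1 hn) (hB y hy)

theorem t2_of_e2 (h2 : E2 z t) : T2 z t := by
  have sm : ∀ {z t : G}, Pr z t → E2 z t → Nat.card (O2C z) = 32 → T2 z t := fun h h2 c =>
    ⟨h, h.r2_of_small h2 c, h.symm.r2_of_small h2.symm (h.card_eq.trans c)⟩
  have sm' : ∀ {z t : G}, Pr z t → R2 z t → EA z t → T2 z t := fun h hr hE =>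
    sm h (h.e2_of_r2 hr) (h.small_of (h.e2_of_r2 hr) fun x hx c y hy c' =>
      hE.comm hx (h.comm_of_r2 hr hx c) hy (h.comm_of_r2 hr hy c'))
  rcases h.ea_or_r2 h2 with eB | r1 <;> rcases h.symm.ea_or_r2 h2.symm with eA | r2
  · have hI := h.tyI_of_E2 h2
    have hB := (h.symm.tyI_of_E2 h2.symm).tyA h.symm.sa
    by_cases c : ∀ y ∈ O2C t, (∀ e ∈ O2C t, e ∈ O2C z → y * e = e * y) → y * z = z * y
    · exact (sm h.symm h2.symm (h.symm.small_of h2.symm fun x hx cx y hy cy =>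
        eB.comm hx (c x hx cx) hy (c y hy cy))).symm
    push Not at c
    obtain ⟨y, hy, c, n⟩ := c
    have h3 := h.count (hI.tyA h.sa) hB eA eB (fun a ha hat b hb hbz => by
      obtain ⟨x, hx, c⟩ := hI.mem_hat h.sa ha fun a' ha' hat' => eA.comm ha' hat' ha hat
      exact comm_of_eqv hbz.symm c (h.cent_of_E2 h2 hb hbz hx).symm) hy n fun e e1 e2 => c e e2 e1
    have h4 := (h.pr_of_not_comm hB hy n).card_E_le
    rw [h.card_E_eq h2] at h3
    omega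
  · exact (sm' h.symm r2 eB).symm
  · exact sm' h r1 eA
  · exact ⟨h, r1, r2⟩

theorem card_E_ge (hQ : e ∈ O2C z) (hP : e ∈ O2C t) (h1 : e ≠ 1) :
    2 ≤ Nat.card (O2C z ⊓ O2C t : Subgroup G) :=
  (one_lt_card_iff_ne_bot _).2 fun c => h1 ((eq_bot_iff_forall _).1 c e ⟨hQ, hP⟩)

theorem exists_S (hQ : e ∈ O2C z) (hP : e ∈ O2C t) :
    ∃ x ∈ O2C z, x * e = e * x ∧ x * t ≠ t * x := by
  by_contra c
  push Not at c
  exact not_of_hyp h.sa hQ (h.E_sq hQ hP) fun x hx c' =>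
    Or.inl ((uu_eq_one_iff h.tt).2 (c x hx c'))

section One

variable (hQ : e ∈ O2C z) (hP : e ∈ O2C t) (h1 : e ≠ 1)
  (hE : ∀ a ∈ O2C z, a ∈ O2C t → a = 1 ∨ a = e)
include hQ hP h1 hE

theorem e2_conj (hc : AB z t) (hy : y ∈ O2C t) (hn : y * z ≠ z * y) (hye : y * e = e * y) :
    E2 z (y * z * y⁻¹) := by
  have hB := h.symm.tyA_of_E hP hQ h1
  have h2 := h.count (h.tyA_of_E hQ hP h1) hB
    (h.symm.ea_of_E1 hP hQ h1 fun a a1 a2 => hE a a2 a1) (h.ea_of_E1 hQ hP h1 hE) hc hy hn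
    fun a a1 a2 => by
      rcases hE a a1 a2 with rfl | rfl
      exacts [by simp, hye]
  have h3 := h.card_E_ge hQ hP h1
  exact (h.pr_of_not_comm hB hy hn).E2_of_card (by omega)

theorem exists_x (hc : AB z t) : ∃ x ∈ O2C z, x * e = e * x ∧ uu t x = e * z := by
  have hB := h.symm.tyA_of_E hP hQ h1
  have X := h.xs
  have ee := h.E_sq hQ hP
  have ez := X.z_comm e hQ
  let Tr : G → Prop := fun g => g * z = z * g ∧ g * e = e * g ∧
    ∀ x ∈ O2C z, x * e = e * x → Eqv z (dd g x) 1 ∨ Eqv z (dd g x) e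
  have mul : ∀ g k, Tr g → Tr k → Tr (g * k) := fun g k hg hk => by
    refine ⟨comm_mul_left hg.1 hk.1, comm_mul_left hg.2.1 hk.2.1, fun x hx c => ?_⟩
    have h2 := dd_mul_eqv_of h.lx hg.1 hk.1 hx (Or.inl (by
      rcases hk.2.2 x hx c with c' | c'
      · rw [dd_eqv hg.1 (by simp) c', dd_eq_one, mul_one, one_mul]
      · rw [dd_eqv hg.1 ez c', dd_eq_one, hg.2.1]))
    rcases hg.2.2 x hx c with c1 | c1 <;> rcases hk.2.2 x hx c with c2 | c2
    · exact Or.inl (by simpa using h2.trans h.zz (eqv_mul X (one_mem _) c1 c2))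
    · exact Or.inr (by simpa using h2.trans h.zz (eqv_mul X hQ c1 c2))
    · exact Or.inr (by simpa using h2.trans h.zz (eqv_mul X (one_mem _) c1 c2))
    · exact Or.inl (ee ▸ h2.trans h.zz (eqv_mul X hQ c1 c2))
  have ofQ : ∀ g ∈ O2C z, g * e = e * g → Tr g := fun g hg c =>
    ⟨X.z_comm g hg, c, fun x hx _ => Or.inl (dd_of_mem h.lx hg hx)⟩
  have ofP : ∀ y ∈ O2C t, y * e = e * y → Tr (uu z y) := fun y hy c => by
    by_cases n : y * z = z * y
    · rw [(uu_eq_one_iff h.zz).2 n]; exact ofQ 1 (one_mem _) (by simp)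
    have t2 := (h.pr_of_not_comm hB hy n).t2_of_e2 (h.e2_conj hQ hP h1 hE hc hy n c)
    have h2 := conj_mem_O2C_conj y hQ
    rw [conj_eq_of_comm c] at h2
    refine mul _ _ ⟨t2.comm, t2.toPr.symm.xs.z_comm e h2 |>.symm, fun x hx c' => ?_⟩
      (ofQ z X.z_mem ez.symm)
    have h3 := (uu_eqv_dd t2.toPr.sa hx).symm h.zz
    rcases t2.toPr.uu_of_r2 t2.r1 hQ h2 h1 hx c' with c2 | c2 <;> rw [c2] at h3
    exacts [Or.inl h3, Or.inr (h3.trans h.zz (eqv_mul_z z e))]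
  have trt : Tr t := by
    by_cases c : ∃ y1 ∈ O2C t, y1 * e = e * y1 ∧ ∃ y2 ∈ O2C t, y2 * e = e * y2 ∧
        cmv (uu z y1) y2 = 1
    · obtain ⟨y1, m1, c1, y2, m2, c2, c3⟩ := c
      have h2 := mul _ _ (ofP y2 m2 c2) (mul _ _ (ofP y1 m1 c1)
        (ofP _ (mul_mem m1 m2) (comm_mul_left c1 c2)))
      rwa [uu_mul1 h.symm.sa m1 m2 c3, ← mul_assoc, ← mul_assoc, ← mul_assoc, mul_assoc (uu z y2),
        hB y1 m1, mul_one, hB y2 m2, one_mul] at h2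
    push Not at c
    obtain ⟨y, hy, c1, n⟩ := h.symm.exists_S hP hQ
    have h2 := ofP y hy c1
    rcases h.symm.xs.eq_of_comm_centralizer hP (h.symm.sa.uu_mem hy) fun q hq c2 =>
      (cmv_eq_zero.1 ((zmod2_cases _).resolve_right (c y hy c1 q hq c2))).symm with c2 | c2 | c2 | c2
    · exact absurd ((uu_eq_one_iff h.zz).1 c2) n
    · exact c2 ▸ h2
    · exact absurd (c2 ▸ h.symm.uu_E (c2 ▸ hQ)) h1
    · have h3 := mul _ _ (ofQ e hQ rfl) h2
      rwa [c2, ← mul_assoc, ee, one_mul] at h3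
  obtain ⟨x, hx, c1, n⟩ := h.exists_S hQ hP
  refine ⟨x, hx, c1, ?_⟩
  rcases trt.2.2 x hx c1 with c2 | c2
  · exact absurd (h.comm_of_S hQ hP h1 hx c1 ((uu_eqv_dd h.sa hx).trans h.zz c2)) n
  · exact ((uu_eqv_dd h.sa hx).trans h.zz c2).resolve_left fun c3 =>
      h1 (c3 ▸ h.uu_E (c3 ▸ hP))

omit hE in
theorem conj_eq_conj (ex : uu t x = e * z) (ey : uu z y = e * t) : x * t * x⁻¹ = y * z * y⁻¹ := by
  rw [← uu_mul_s h.tt, ← uu_mul_s h.zz, ex, ey, mul_assoc, mul_assoc, h.comm]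

theorem not_AB (hc : AB z t) : False := by
  obtain ⟨x, hx, -, ex⟩ := h.exists_x hQ hP h1 hE hc
  obtain ⟨y, hy, cy, ey⟩ := h.symm.exists_x hP hQ h1 (fun a a1 a2 => hE a a2 a1) hc.symm
  have h2 := (h.e2_conj hQ hP h1 hE hc hy (fun c => h.t_not (by
    rw [(uu_eq_one_iff h.zz).2 c] at ey
    exact (mul_mem_cancel_left hQ).1 (ey ▸ one_mem _))) cy).map_conj x⁻¹
  rw [← h.conj_eq_conj hQ hP h1 ex ey, conj_eq_of_comm (comm_inv_left (h.xs.z_comm x hx)),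
    show x⁻¹ * (x * t * x⁻¹) * x⁻¹⁻¹ = t by group] at h2
  obtain ⟨a, a1, a2, b, b1, b2, n1, n2, n3⟩ := h2
  exact n3 (((hE a a1 a2).resolve_left n1).trans ((hE b b1 b2).resolve_left n2).symm)

theorem tyI_of_not_AB (hc : ¬ AB z t) : TyI (O2C z) z t := fun x0 h0 e0 => hc (by
  have hA := h.tyA_of_E hQ hP h1
  have eA := h.symm.ea_of_E1 hP hQ h1 fun a a1 a2 => hE a a2 a1
  intro a ha hat b hb hbz
  have k : ∀ x ∈ O2C z, uu t x * b = b * uu t x := fun x hx => by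
    have hu := h.sa.uu_mem hx
    obtain ⟨e1, e2⟩ := h.dd_E hu (hA.comm_s h.sa hx) hb hbz
    refine (dd_eq_one.1 ((hE _ e1 e2).resolve_right fun c => h.II_not_comm h0 e0 hQ hP h1 ?_)).symm
    have h2 := conj_uu (h.symm.xs.z_comm b hb) x
    rw [← dd_mul_self, c] at h2
    have h3 := cmv_uu_of h.sa (h.lx.norm b hbz x hx) h0 (e0 ▸ eqv_z z)
    rw [← h2, cmv_mul_left h.xs hQ hu h0, cmv_uu_of h.sa hx h0 (e0 ▸ eqv_z z), add_zero] at h3
    exact (cmv_eq_zero.1 h3).symm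
  by_cases c : x0 * a = a * x0
  · obtain ⟨x, hx, rfl⟩ := exists_uu_of_two h.sa h0 e0 ha (fun a' ha' hat' => eA.comm ha' hat' ha hat) c
    exact k x hx
  obtain ⟨x, hx, c'⟩ := exists_uu_of_two h.sa h0 e0 (mul_mem ha hQ)
    (fun a' ha' hat' => eA.comm ha' hat' (mul_mem ha hQ) (comm_mul_left hat (h.E_t hP)))
    (cmv_eq_zero.1 (by rw [cmv_mul_right h.xs ha hQ h0, cmv_eq_one.2 c,
      cmv_eq_one.2 (h.II_not_comm h0 e0 hQ hP h1)]; decide))
  have h2 := k x hx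
  rwa [← c', mul_assoc, ← h.E_B hQ hP hb hbz, ← mul_assoc, ← mul_assoc, mul_left_inj] at h2)

theorem dd_S (hx : x ∈ O2C z) (c : x * e = e * x) (hb : b ∈ O2C t) (hbz : b * z = z * b) :
    dd b x * t = t * dd b x :=
  (h.tyA_of_E hQ hP h1).cent_comm h.sa (dd_mem h.lx hbz hx) (h.dd_W hb hbz hx fun a a1 a2 => by
    rcases hE a a1 a2 with rfl | rfl
    exacts [by simp, c])

theorem rank_one (hc : ¬ AB z t) (ha : a ∈ O2C z) (hat : a * t = t * a) (hx : x ∈ O2C z)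
    (hxt : x * t = t * x) (n1 : ¬ ∀ b ∈ O2C t, b * z = z * b → a * b = b * a)
    (n2 : ¬ ∀ b ∈ O2C t, b * z = z * b → x * b = b * x) (hb : b ∈ O2C t) (hbz : b * z = z * b) :
    a * x * b = b * (a * x) := by
  have hI := h.tyI_of_not_AB hQ hP h1 hE hc
  have eA := h.symm.ea_of_E1 hP hQ h1 fun a a1 a2 => hE a a2 a1
  have k : ∀ x ∈ O2C z, x * e = e * x → ∀ b ∈ O2C t, b * z = z * b → uu t x * b = b * uu t x := by
    intro x hx c b hb hbz
    have h2 := conj_uu (h.symm.xs.z_comm b hb) x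
    have h3 := h.dd_S hQ hP h1 hE hx c hb hbz
    have h4 := (uu_eq_one_iff h.tt).2 h3
    rw [← dd_mul_self b x, uu_mul0 h.sa (dd_mem h.lx hbz hx) hx (by rw [h4, cmv_one_left]), h4,
      one_mul] at h2
    exact (comm_of_conj_eq h2).symm
  obtain ⟨u, hu, eu⟩ := hI.mem_hat h.sa ha fun a' ha' hat' => eA.comm ha' hat' ha hat
  obtain ⟨v, hv, ev⟩ := hI.mem_hat h.sa hx fun a' ha' hat' => eA.comm ha' hat' hx hxt
  exact comm_of_eqv hbz.symm ((eqv_mul h.xs (h.sa.uu_mem hv) eu ev).trans h.zz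
    ((uu_mul_eqv h.sa hu hv).symm h.zz)) (k _ (mul_mem hu hv) (h.xs.mul_comm_of_not_comm hQ hu hv
      (fun c => n1 fun b hb hbz => comm_of_eqv hbz.symm eu (k u hu c b hb hbz))
      fun c => n2 fun b hb hbz => comm_of_eqv hbz.symm ev (k v hv c b hb hbz)) b hb hbz)

theorem central_dd (hc : ¬ AB z t) (ha : a ∈ O2C z) (hat : a * t = t * a)
    (n : ¬ ∀ b ∈ O2C t, b * z = z * b → a * b = b * a) (hy : y ∈ O2C t) (c : y * e = e * y) :
    dd y a ∈ O2C t ∧ dd y a * z = z * dd y a ∧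
      ∀ x ∈ O2C z, x * t = t * x → dd y a * x = x * dd y a := by
  have hE' : ∀ a ∈ O2C t, a ∈ O2C z → a = 1 ∨ a = e := fun a a1 a2 => hE a a2 a1
  have eA := h.symm.ea_of_E1 hP hQ h1 hE'
  have eB := h.ea_of_E1 hQ hP h1 hE
  have h2 : dd y a ∈ O2C t := dd_inv_swap a y ▸ inv_mem (dd_mem h.symm.lx hat hy)
  have h3 : dd y a * z = z * dd y a :=
    dd_inv_swap a y ▸ comm_inv_left (h.symm.dd_S hP hQ h1 hE' hy c ha hat)
  have h4 : dd y a * a = a * dd y a := by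
    have h5 : dd y a * a * (dd y a * a) = 1 := by rw [dd_mul_self, conj_mul, eA a ha hat]; simp
    rw [← inv_eq_of_mul_eq_one_right h5, mul_inv_rev, inv_eq_of_mul_eq_one_right (eA a ha hat),
      inv_eq_of_mul_eq_one_right (eB _ h2 h3)]
  refine ⟨h2, h3, ?_⟩
  by_contra n'
  refine n fun b hb hbz => ?_
  by_contra n''
  have := h.symm.rank_one hP hQ h1 hE' (fun c => hc c.symm) h2 h3 hb hbz n'
    (fun c => n'' (c a ha hat).symm) ha hat
  rw [mul_assoc, ← mul_assoc a, ← h4, mul_assoc, mul_right_inj] at this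
  exact n'' this.symm

theorem not_E1 : False := by
  by_cases hc : AB z t
  · exact h.not_AB hQ hP h1 hE hc
  have hE' : ∀ a ∈ O2C t, a ∈ O2C z → a = 1 ∨ a = e := fun a a1 a2 => hE a a2 a1
  have hc' : ¬ AB t z := fun c => hc c.symm
  have eA := h.symm.ea_of_E1 hP hQ h1 hE'
  have eB := h.ea_of_E1 hQ hP h1 hE
  have hI := h.tyI_of_not_AB hQ hP h1 hE hc
  have hI' := h.symm.tyI_of_not_AB hP hQ h1 hE' hc'
  obtain ⟨x, hx, ex⟩ := h.E_form hI hQ hP h1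
  obtain ⟨y, hy, ey⟩ := h.symm.E_form hI' hP hQ h1
  have cx := (hI.tyA h.sa).beta_self h.sa hx
  have cy := (hI'.tyA h.symm.sa).beta_self h.symm.sa hy
  rw [ex, cmv_mul_z h.xs hx, cmv_eq_zero] at cx
  rw [ey, cmv_mul_z h.symm.xs hy, cmv_eq_zero] at cy
  have hp := h.conj_eq_conj hQ hP h1 ex ey
  obtain ⟨a, ha, hat, b, hb, hbz, n⟩ : ∃ a ∈ O2C z, a * t = t * a ∧ ∃ b ∈ O2C t, b * z = z * b ∧
      a * b ≠ b * a := by
    by_contra c
    push Not at c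
    exact hc c
  obtain ⟨f1, f2, f3⟩ := h.central_dd hQ hP h1 hE hc ha hat (fun c => n (c b hb hbz)) hy cy.symm
  obtain ⟨g1, g2, g3⟩ := h.symm.central_dd hP hQ h1 hE' hc' hb hbz (fun c => n (c a ha hat).symm)
    hx cx.symm
  have yt := h.symm.xs.z_comm y hy
  have h2 : y⁻¹ * (x * b * x⁻¹) * y ∈ O2C z := mem_O2C_conj.1 (hp ▸ conj_mem_O2C_conj x hb)
  have h3 := eA.comm ha hat h2 (comm_mul_left (comm_mul_left (comm_inv_left yt)
    (dd_mul_self x b ▸ comm_mul_left g2 (h.symm.xs.z_comm b hb))) yt)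
  rw [← comm_conj_iff y, show y * (y⁻¹ * (x * b * x⁻¹) * y) * y⁻¹ = x * b * x⁻¹ by group,
    ← dd_mul_self, ← dd_mul_self] at h3
  have h4 := f3 _ g1 g2
  have h5 := eA.comm ha hat g1 g2
  have h6 := eB.comm hb hbz f1 f2
  generalize dd y a = f at *
  generalize dd x b = g at *
  apply n
  have : f * g * (a * b) = f * g * (b * a) := by
    calc f * g * (a * b) = f * a * (g * b) := by rw [mul_assoc f, ← mul_assoc g, ← h5]; group
      _ = g * (b * f) * a := by rw [h3]; group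
      _ = _ := by rw [h6, h4]; group
  exact mul_left_cancel this

end One

theorem t2_of_E (hQ : e ∈ O2C z) (hP : e ∈ O2C t) (h1 : e ≠ 1) : T2 z t := by
  refine h.t2_of_e2 ?_
  by_contra c
  refine h.not_E1 hQ hP h1 fun a a1 a2 => ?_
  by_contra c'
  push Not at c'
  exact c ⟨a, a1, a2, e, hQ, hP, c'.1, h1, c'.2⟩

end Pr

end Cfsg.Agent.XW
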