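import Mathlib
import Cfsg.Agent.XW.C
import Cfsg.Agent.XSC.WcC

/-! Classification of the commuting pairs. -/

set_option autoImplicit false

namespace Cfsg.Agent.XW

open Subgroup Cfsg.Agent.TT Cfsg.Agent.LES Cfsg.Agent.XSC.WC

variable {G : Type*} [Group G]

/-- a pair of type `c₂` in width two -/
structure Tc (z t : G) : Prop extends Pr z t where
  card : Nat.card (O2C z) = 32
  c1 : ∃ x ∈ O2C z, uu t x * uu t x = z
  c2 : ∃ y ∈ O2C t, uu z y * uu z y = t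

/-- a pair of rank four in width four -/
structure T0 (z t : G) : Prop extends Pr z t where
  card : Nat.card (O2C z) = 2 ^ 9
  e0 : ∀ e ∈ O2C z, e ∈ O2C t → e = 1
  i1 : TyI (O2C z) z t
  i2 : TyI (O2C t) t z

theorem Tc.symm {z t : G} (h : Tc z t) : Tc t z :=
  ⟨h.toPr.symm, h.card_eq.trans h.card, h.c2, h.c1⟩

theorem T0.symm {z t : G} (h : T0 z t) : T0 t z :=
  ⟨h.toPr.symm, h.card_eq.trans h.card, fun e h1 h2 => h.e0 e h2 h1, h.i2, h.i1⟩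

theorem mul_ne_one_of_ne {a b : G} (hb : b * b = 1) (h : a ≠ b) : a * b ≠ 1 := fun c =>
  h ((eq_inv_of_mul_eq_one_left c).trans (inv_eq_of_mul_eq_one_right hb))

namespace T2

variable {z t e x : G} [Finite G] (h : T2 z t)
include h

theorem e2 : E2 z t := h.e2_of_r2 h.r1

theorem tyI : TyI (O2C z) z t := h.tyI_of_E2 h.e2

theorem tyA : TyA (O2C z) t := h.tyI.tyA h.sa

theorem not_conj : ¬ IsConj z (z * t) :=
  let ⟨_, h1, h2, _, _, _, h3, _⟩ := h.e2; h.not_conj_mul h.tyI h1 h2 h3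

theorem exists_ne (e : G) : ∃ a ∈ O2C z, a ∈ O2C t ∧ a ≠ 1 ∧ a ≠ e := by
  obtain ⟨a, a1, a2, c, c1, c2, n1, n2, n3⟩ := h.e2
  by_cases c' : a = e
  exacts [⟨c, c1, c2, n2, c' ▸ n3.symm⟩, ⟨a, a1, a2, n1, c'⟩]

theorem comm_of_two {a b : G} (a1 : a ∈ O2C z) (a2 : a ∈ O2C t) (b1 : b ∈ O2C z) (b2 : b ∈ O2C t)
    (n1 : a ≠ 1) (n2 : b ≠ 1) (n3 : a ≠ b) (hx : x ∈ O2C z) (ca : x * a = a * x)
    (cb : x * b = b * x) : x * t = t * x :=
  h.comm_of_r2 h.r1 hx fun e e1 e2 => by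
    rcases h.E_cases a1 a2 b1 b2 n1 n2 n3 e1 e2 with rfl | rfl | rfl | rfl
    exacts [by simp, ca, cb, comm_mul_right ca cb]

theorem uu_form (hx : x ∈ O2C z) (n : x * t ≠ t * x) :
    ∃ e ∈ O2C z, e ∈ O2C t ∧ e ≠ 1 ∧ uu t x = e * z ∧ x * e = e * x := by
  refine ⟨_, mul_mem (h.sa.uu_mem hx) h.xs.z_mem,
    (h.r1 x hx).resolve_left (mt (uu_eq_one_iff h.tt).1 n), mul_ne_one_of_ne h.zz (h.tyI x hx),
    (h.xs.mul_z_z _).symm, ?_⟩
  rw [eq_comm, ← cmv_eq_zero, cmv_mul_z h.xs hx, h.tyA.beta_self h.sa hx]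

theorem uu_eqv (hx : x ∈ O2C z) : ∃ e ∈ O2C z, e ∈ O2C t ∧ Eqv z (uu t x) e := by
  by_cases n : x * t = t * x
  · exact ⟨1, one_mem _, one_mem _, Or.inl ((uu_eq_one_iff h.tt).2 n)⟩
  · obtain ⟨e, e1, e2, -, c, -⟩ := h.uu_form hx n
    exact ⟨e, e1, e2, Or.inr c⟩

theorem eq_of_eqv {a b : G} (a2 : a ∈ O2C t) (b2 : b ∈ O2C t) (c : Eqv z a b) : a = b :=
  c.resolve_right fun c => h.z_not ((mul_mem_cancel_left b2).1 (c ▸ a2))

theorem meet_aux {s r : G} (h2 : T2 z s) (h3 : T2 z r)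
    (hm : ∀ x ∈ O2C z, Eqv z (uu r x) (uu t x * uu s x))
    (hn : ∀ a ∈ O2C z, a ∈ O2C t → a ≠ 1 → ∀ b ∈ O2C s, ¬ Eqv z a b) (e1 : e ∈ O2C z)
    (e2 : e ∈ O2C t) (n : e ≠ 1) :
    ∃ a ∈ O2C z, a ∈ O2C t ∧ a ≠ 1 ∧ a ≠ e ∧ ∃ b ∈ O2C z, b ∈ O2C r ∧ Eqv z a b := by
  obtain ⟨y, hy, c1, c2⟩ := h.xs.exists_comm_not_comm h2.Ez_le (mem_sup_right (mem_zpowers z)) e1
    fun c => (h2.mem_Ez.1 c).elim (fun c => hn e e1 e2 n e c.2 (Or.inl rfl))
      fun c => hn e e1 e2 n _ c.2 (Or.inr (h.xs.mul_z_z e).symm)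
  have c3 := (uu_eq_one_iff h2.tt).2 (h2.comm_of_r2 h2.r1 hy fun a a1 a2 =>
    (c1 a (mem_sup_left ⟨a1, a2⟩)).symm)
  obtain ⟨a, a1, a2, a3, a4, a5⟩ := h.uu_form hy fun c => c2 (h.E_A e1 e2 hy c)
  obtain ⟨b, b1, b2, b3⟩ := h3.uu_eqv hy
  have c4 := hm y hy
  rw [c3, mul_one, a4] at c4
  exact ⟨a, a1, a2, a3, fun c => c2 (c ▸ a5), b, b1, b2,
    ((c4.trans h.zz (eqv_mul_z z a)).symm h.zz).trans h.zz b3⟩

/-- if a product of two root elements acts as a root element then their lines meet -/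
theorem meet {s r : G} (h2 : T2 z s) (h3 : T2 z r)
    (hm : ∀ x ∈ O2C z, Eqv z (uu r x) (uu t x * uu s x)) :
    ∃ a ∈ O2C z, a ∈ O2C t ∧ a ≠ 1 ∧ ∃ b ∈ O2C s, Eqv z a b := by
  by_contra hn
  push Not at hn
  obtain ⟨e, e1, e2, n, -⟩ := h.exists_ne 1
  obtain ⟨a, a1, a2, a3, -, a', a4, a5, a6⟩ := h.meet_aux h2 h3 hm hn e1 e2 n
  obtain ⟨b, b1, b2, b3, b0, b', b4, b5, b6⟩ := h.meet_aux h2 h3 hm hn a1 a2 a3
  obtain ⟨e, e1, e2, n, -⟩ := h2.exists_ne 1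
  obtain ⟨c, c1, c2, c3, -, c', c4, c5, c6⟩ := h2.meet_aux h h3
    (fun x hx => (hm x hx).trans h.zz (eqv_comm h.xs (h.sa.uu_mem hx) (h2.sa.uu_mem hx)))
    (fun a a1 a2 a3 b b2 c => hn b (mem_of_eqv h.xs a1 (c.symm h.zz)) b2
      (fun c' => h2.E_not_eqv a2 a3 (c' ▸ c)) a a2 (c.symm h.zz)) e1 e2 n
  rcases h3.E_cases a4 a5 b4 b5 (fun c => h.E_not_eqv a2 a3 (c ▸ a6))
    (fun c => h.E_not_eqv b2 b3 (c ▸ b6))
    (fun c => b0 (h.eq_of_eqv b2 a2 (b6.trans h.zz (c ▸ a6.symm h.zz)))) c4 c5 with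
    rfl | rfl | rfl | rfl
  · exact h2.E_not_eqv c2 c3 c6
  · exact hn a a1 a2 a3 c c2 (a6.trans h.zz (c6.symm h.zz))
  · exact hn b b1 b2 b3 c c2 (b6.trans h.zz (c6.symm h.zz))
  · exact hn _ (mul_mem a1 b1) (mul_mem a2 b2) (mul_ne_one_of_ne (h.E_sq b1 b2) b0.symm) c c2
      ((eqv_mul h.xs b4 a6 b6).trans h.zz (c6.symm h.zz))

end T2

theorem card_le_of_five [Finite G] {Q B : Subgroup G} {z : G} (h : XS Q z) {a b c d e : G}
    (ha : a ∈ Q) (hb : b ∈ Q) (hc : c ∈ Q) (hd : d ∈ Q) (he : e ∈ Q)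
    (hB : ∀ y ∈ Q, y * a = a * y → y * b = b * y → y * c = c * y → y * d = d * y → y * e = e * y →
      y ∈ B) : Nat.card Q ≤ 32 * Nat.card B := by
  have h1 := h.card_step (A := ⊥) ha
  have h2 := h.card_step (A := ⊥ ⊔ zpowers a) hb
  have h3 := h.card_step (A := ⊥ ⊔ zpowers a ⊔ zpowers b) hc
  have h4 := h.card_step (A := ⊥ ⊔ zpowers a ⊔ zpowers b ⊔ zpowers c) hd
  have h5 := h.card_step (A := ⊥ ⊔ zpowers a ⊔ zpowers b ⊔ zpowers c ⊔ zpowers d) he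
  have h6 : Nat.card Q ≤ Nat.card (Q ⊓ centralizer ((⊥ : Subgroup G) : Set G) : Subgroup G) :=
    card_le_of_le fun y hy => ⟨hy, fun g hg => by simp [mem_bot.1 hg]⟩
  have h7 := card_le_of_le (H := Q ⊓ centralizer ((⊥ ⊔ zpowers a ⊔ zpowers b ⊔ zpowers c ⊔
      zpowers d ⊔ zpowers e : Subgroup G) : Set G)) (K := B) fun y hy => by
    have := (mem_inf.1 hy).2
    simp only [XS.mem_centralizer_sup_zpowers] at this
    exact hB y hy.1 this.1.1.1.1.2 this.1.1.1.2 this.1.1.2 this.1.2 this.2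
  omega

theorem exists_adjust {Q : Subgroup G} {z s : G} (h : Sa Q z s) (hA : TyA Q s) {y1 y2 w : G}
    (m1 : y1 ∈ Q) (m2 : y2 ∈ Q) (mw : w ∈ Q) (b12 : cmv (uu s y1) y2 = 1) :
    ∃ v ∈ Q, cmv (uu s y1) v = 0 ∧ cmv (uu s y2) v = 0 ∧ ∀ φ : G → ZMod 2,
      (∀ a ∈ Q, ∀ b ∈ Q, φ (a * b) = φ a + φ b) → φ y1 = 0 → φ y2 = 0 → φ v = φ w := by
  have e1 := hA.beta_self h m1
  have e2 := hA.beta_self h m2
  have b21 := h.beta_symm m1 m2 ▸ b12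
  have p1 := Q.pow_mem m1 (cmv (uu s y2) w).val
  have p2 := Q.pow_mem m2 (cmv (uu s y1) w).val
  have key : ∀ φ : G → ZMod 2, (∀ a ∈ Q, ∀ b ∈ Q, φ (a * b) = φ a + φ b) →
      φ (w * y1 ^ (cmv (uu s y2) w).val * y2 ^ (cmv (uu s y1) w).val) =
        φ w + cmv (uu s y2) w * φ y1 + cmv (uu s y1) w * φ y2 := fun φ hφ => by
    rw [hφ _ (mul_mem mw p1) _ p2, hφ _ mw _ p1, add_pow hφ m1, add_pow hφ m2]
  refine ⟨_, mul_mem (mul_mem mw p1) p2, ?_, ?_, fun φ hφ f1 f2 => ?_⟩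
  · rw [key _ fun _ ha _ hb => beta_right h m1 ha hb]; simp [e1, b12, zmod2_add_self]
  · rw [key _ fun _ ha _ hb => beta_right h m2 ha hb]; simp [e2, b21, zmod2_add_self]
  · rw [key φ hφ]; simp [f1, f2]

namespace Pr

variable {z t : G} (h : Pr z t)
include h

variable {a b e x y : G} [Finite G]

theorem E_II (e0 : uu t x = z) (h1 : e ∈ O2C t) (h2 : e ∈ O2C (x * t * x⁻¹)) : e = 1 := by
  by_contra n
  have h3 := ((h.conj_pr (e0 ▸ h.xs.z_ne) (e0 ▸ h.zz)).t2_of_E h1 h2 n).not_conj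
  rw [← uu_mul_s h.tt, e0, ← mul_assoc, h.comm, mul_assoc, h.tt, mul_one] at h3
  exact h3 h.conj.symm

omit [Finite G] in
theorem ab_of_E0 (h0 : ∀ e ∈ O2C z, e ∈ O2C t → e = 1) : AB z t := fun _ ha hat _ hb hbz =>
  (dd_eq_one.1 (h0 _ (h.dd_E ha hat hb hbz).1 (h.dd_E ha hat hb hbz).2)).symm

theorem E0_of_bc (hx : x ∈ O2C z) (e0 : uu t x * uu t x = z) (e : G) (h1 : e ∈ O2C z)
    (h2 : e ∈ O2C t) : e = 1 := by
  by_contra n
  exact h.xs.z_ne (e0.symm.trans (h.tyA_of_E h1 h2 n x hx))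

theorem card_B_le (hx : x ∈ O2C z) (e0 : uu t x * uu t x = z) :
    Nat.card (O2C t ⊓ centralizer {z} : Subgroup G) ≤ 4 := by
  have h0 := h.E0_of_bc hx e0
  have hc := h.ab_of_E0 h0
  have m0 := h.sa.uu_mem hx
  have e1 := (uu_uu h.sa x).trans e0
  have k1 : ∀ b ∈ O2C t ⊓ centralizer {z}, dd b (uu t x) ∈ O2C z ⊓ centralizer {t} := fun b hb => by
    have h2 := conj_uu (h.symm.xs.z_comm b hb.1) (uu t x)
    have h3 := dd_mem h.lx (mem_cent.1 hb.2) m0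
    rw [← dd_mul_self b (uu t x), uu_conj_A h.sa h3 m0 (e1 ▸ eqv_z z), e1,
      conj_eq_of_comm (mem_cent.1 hb.2), eq_comm, mul_eq_right] at h2
    exact ⟨h3, mem_cent.2 ((uu_eq_one_iff h.tt).1 h2)⟩
  have k2 : ∀ a ∈ O2C t ⊓ centralizer {z}, ∀ b ∈ O2C t ⊓ centralizer {z},
      dd (a * b) (uu t x) = dd b (uu t x) * dd a (uu t x) := fun a ha b hb => by
    rw [dd_mul_left, conj_eq_of_comm (hc _ (k1 b hb).1 (mem_cent.1 (k1 b hb).2) a ha.1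
      (mem_cent.1 ha.2)).symm]
  have k3 : ∀ b ∈ O2C t ⊓ centralizer {z}, Eqv z (dd b (uu t x)) (uu t (dd b x)) := fun b hb => by
    have h2 := conj_uu (h.symm.xs.z_comm b hb.1) x
    have h3 := dd_mem h.lx (mem_cent.1 hb.2) hx
    rw [← dd_mul_self b (uu t x), ← dd_mul_self b x] at h2
    have h4 := (h2 ▸ uu_mul_eqv h.sa h3 hx).mul_right (comm_inv_left (h.xs.z_comm _ m0))
    simpa using h4
  have k4 : ∀ b ∈ O2C t ⊓ centralizer {z}, ∀ a ∈ O2C z, a * t = t * a → a * dd b x = dd b x * a :=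
    fun b hb => h.dd_W hb.1 (mem_cent.1 hb.2) hx fun e e1 e2 => by simp [h0 e e1 e2]
  have k5 : ∀ d ∈ O2C z, (∀ a ∈ O2C z, a * t = t * a → a * d = d * a) →
      uu t x * d = d * uu t x → Eqv z (uu t d) 1 := fun d hd c c' => by
    obtain ⟨y, hy, rfl⟩ := exists_uu_of_two h.sa m0 e1 hd c c'
    exact uu_uu h.sa y ▸ eqv_sq_one h.xs (h.sa.uu_mem hy)
  let K : Subgroup G :=
    { carrier := {b | b ∈ O2C t ⊓ centralizer {z} ∧ Eqv z (dd b (uu t x)) 1}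
      one_mem' := ⟨one_mem _, Or.inl (dd_eq_one.2 (by simp))⟩
      mul_mem' := fun {a b} ha hb => ⟨mul_mem ha.1 hb.1, by
        simpa [k2 a ha.1 b hb.1] using eqv_mul h.xs (one_mem _) hb.2 ha.2⟩
      inv_mem' := fun {a} ha => ⟨inv_mem ha.1, by
        have h2 := k2 a ha.1 _ (inv_mem ha.1)
        rw [mul_inv_cancel, dd_eq_one.2 (by simp)] at h2
        rw [eq_inv_of_mul_eq_one_left h2.symm]
        exact (eqv_inv h.xs (k1 a ha.1).1).trans h.zz ha.2⟩ }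
  have c1 : Nat.card (O2C t ⊓ centralizer {z} : Subgroup G) ≤ 2 * Nat.card K :=
    card_le_two_mul_of_mul_mem (fun b hb => hb.1) fun a ha b hb n1 n2 => ⟨mul_mem ha hb, by
      have d1 := dd_mem h.lx (mem_cent.1 ha.2) hx
      have d2 := dd_mem h.lx (mem_cent.1 hb.2) hx
      rw [k2 a ha b hb]
      exact ((eqv_mul h.xs (h.sa.uu_mem d1) (k3 b hb) (k3 a ha)).trans h.zz
        ((uu_mul_eqv h.sa d2 d1).symm h.zz)).trans h.zz (k5 _ (mul_mem d2 d1)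
          (fun c c1 c2 => comm_mul_right (k4 b hb c c1 c2) (k4 a ha c c1 c2))
          (h.xs.mul_comm_of_not_comm m0 d2 d1
            (fun c => n2 ⟨hb, (k3 b hb).trans h.zz (k5 _ d2 (k4 b hb) c.symm)⟩)
            fun c => n1 ⟨ha, (k3 a ha).trans h.zz (k5 _ d1 (k4 a ha) c.symm)⟩).symm)⟩
  have k6 : ∀ b ∈ O2C t ⊓ centralizer {z}, dd b (uu t x) = 1 → b = 1 := fun b hb c =>
    h.E_II e1 hb.1 (by
      have := conj_mem_O2C_conj (uu t x) hb.1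
      rwa [conj_eq_of_comm (dd_eq_one.1 c).symm] at this)
  have c2 : Nat.card K ≤ 2 * Nat.card (⊥ : Subgroup G) :=
    card_le_two_mul_of_mul_mem bot_le fun a ha b hb n1 n2 => k6 _ (mul_mem ha.1 hb.1) (by
      rw [k2 a ha.1 b hb.1, (eqv_one_iff.1 ha.2).resolve_left fun c => n1 (k6 a ha.1 c),
        (eqv_one_iff.1 hb.2).resolve_left fun c => n2 (k6 b hb.1 c), h.zz])
  rw [card_bot] at c2
  omega

theorem card_Q0_le : Nat.card (O2C z ⊓ centralizer (hat h.sa : Set G) : Subgroup G) ≤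
    2 * Nat.card (O2C z ⊓ centralizer {t} : Subgroup G) := by
  have k : ∀ x ∈ O2C z ⊓ centralizer (hat h.sa : Set G), Eqv z (uu t x) 1 := fun x hx =>
    eqv_one_of_cent_hat h.sa hx.1 fun y hy => cmv_eq_zero.2 (hx.2 _ (uu_mem_hat h.sa hy))
  have k' : ∀ x ∈ O2C z ⊓ centralizer (hat h.sa : Set G), x ∉ O2C z ⊓ centralizer {t} →
      uu t x = z := fun x hx n => (eqv_one_iff.1 (k x hx)).resolve_left fun c =>
    n ⟨hx.1, mem_cent.2 ((uu_eq_one_iff h.tt).1 c)⟩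
  refine card_le_two_mul_of_mul_mem (fun a ha => ⟨ha.1, ?_⟩) fun a ha b hb n1 n2 =>
    ⟨mul_mem ha.1 hb.1, mem_cent.2 ((uu_eq_one_iff h.tt).1 ?_)⟩
  · rintro _ ⟨y, hy, c⟩
    exact (eqv_comm_iff h.xs ha.1 c).2 (h.sa.uu_comm_A hy ha.1 (mem_cent.1 ha.2))
  · rw [uu_conj_A h.sa ha.1 hb.1 (k b hb), k' a ha n1, k' b hb n2, h.zz]

omit [Finite G] in
theorem hat_le_Q0 : hat h.sa ≤ O2C z ⊓ centralizer (hat h.sa : Set G) := by
  rintro a ⟨y, hy, c⟩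
  refine ⟨hat_le h.sa ⟨y, hy, c⟩, ?_⟩
  rintro b ⟨w, hw, c'⟩
  exact (eqv_comm_iff h.xs (hat_le h.sa ⟨y, hy, c⟩) c').2
    ((eqv_comm_iff h.xs (h.sa.uu_mem hw) c).2 (uu_comm_uu h.sa hy hw)).symm

theorem tc_of_bc (hx : x ∈ O2C z) (e0 : uu t x * uu t x = z) : Tc z t := by
  have h1 := h.card_B_le hx e0
  have h2 := h.symm.card_Q0_le
  have h3 := h.symm.xs.card_mul_card_centralizer (hat_le h.symm.sa) (z_mem_hat h.symm.sa)
  have h4 := card_le_of_le h.symm.hat_le_Q0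
  have h5 := h.wt.big
  have h6 : 8 ≤ Nat.card (hat h.symm.sa) := by nlinarith
  refine ⟨h, h.card_eq.symm.trans (by nlinarith), ⟨x, hx, e0⟩, ?_⟩
  obtain ⟨y, ⟨w, hw, c⟩, n⟩ : ∃ y ∈ hat h.symm.sa, y * z ≠ z * y := by
    by_contra c
    push Not at c
    have := card_le_of_le (K := O2C t ⊓ centralizer {z}) fun y hy =>
      ⟨hat_le h.symm.sa hy, mem_cent.2 (c y hy)⟩
    omega
  refine ⟨w, hw, (h.symm.xs.sq (h.symm.sa.uu_mem hw)).resolve_left fun c' => n ?_⟩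
  exact comm_of_eqv h.comm c (uu_comm_s h.symm.sa c')

section Zero

variable (hA : TyA (O2C z) t) (hB : TyA (O2C t) z) (h0 : ∀ e ∈ O2C z, e ∈ O2C t → e = 1)
include hA hB h0

theorem t2_conj (hx : x ∈ O2C z) (n : x * t ≠ t * x) : T2 t (x * t * x⁻¹) := by
  have h0' : ∀ e ∈ O2C t, e ∈ O2C z → e = 1 := fun e h1 h2 => h0 e h2 h1
  have h1 := h.symm.count hB hA (h.ea_of_E0 hA h0) (h.symm.ea_of_E0 hB h0') (h.ab_of_E0 h0).symm
    hx n fun e e1 e2 => by simp [h0' e e1 e2]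
  have h2 : 0 < Nat.card (O2C t ⊓ O2C z : Subgroup G) := Nat.card_pos
  obtain ⟨e, he, n'⟩ := (bot_or_exists_ne_one _).resolve_left
    ((one_lt_card_iff_ne_bot (O2C t ⊓ O2C (x * t * x⁻¹))).1 (by omega))
  exact (h.symm.pr_of_not_comm hA hx n).t2_of_E he.1 he.2 n'

theorem tyI_of_E0 : TyI (O2C z) z t := fun x hx e0 => by
  obtain ⟨e, e1, e2, n, -⟩ := (h.t2_conj hA hB h0 hx fun c =>
    h.xs.z_ne (e0.symm.trans ((uu_eq_one_iff h.tt).2 c))).exists_ne 1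
  exact n (h.E_II e0 e1 e2)

theorem card_A_eq : Nat.card (O2C t ⊓ centralizer {z} : Subgroup G) =
    Nat.card (O2C z ⊓ centralizer {t} : Subgroup G) := by
  have h3 := h.card_A hA (h.symm.ea_of_E0 hB fun e h1 h2 => h0 e h2 h1)
  have h4 := h.symm.card_A hB (h.ea_of_E0 hA h0)
  rw [h.card_eq, ← h3] at h4
  exact Nat.pow_left_injective two_ne_zero h4

theorem dd_A (hb : b ∈ O2C t) (hbz : b * z = z * b) (hx : x ∈ O2C z) : dd b x * t = t * dd b x :=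
  h.symm.dd_B hA hx hbz ((h.ab_of_E0 h0).symm b hb hbz)

theorem omega_symm (hb : b ∈ O2C t) (hbz : b * z = z * b) (hx : x ∈ O2C z) (hy : y ∈ O2C z) :
    cmv (dd b x) y = cmv (dd b y) x := by
  rw [cmv_dd h.lx hbz hx hy, inv_eq_of_mul_eq_one_right (h.ea_of_E0 hA h0 b hb hbz), cmv_comm]

theorem omega_self (hb : b ∈ O2C t) (hbz : b * z = z * b) (hx : x ∈ O2C z) :
    cmv (dd b x) x = 0 := by
  rw [← sqv_dd h.lx hbz hx, sqv_eq_zero]
  exact h.symm.ea_of_E0 hB (fun e h1 h2 => h0 e h2 h1) _ (dd_mem h.lx hbz hx)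
    (h.dd_A hA hB h0 hb hbz hx)

theorem omega_A (hb : b ∈ O2C t) (hbz : b * z = z * b) (hx : x ∈ O2C z) (ha : a ∈ O2C z)
    (hat : a * t = t * a) : cmv (dd b x) a = 0 := by
  rw [h.omega_symm hA hB h0 hb hbz hx ha, dd_eq_one.2 (h.ab_of_E0 h0 a ha hat b hb hbz).symm,
    cmv_one_left]

theorem dd_mul_B (ha : a ∈ O2C t) (haz : a * z = z * a) (hb : b ∈ O2C t) (hbz : b * z = z * b)
    (hx : x ∈ O2C z) : dd (a * b) x = dd b x * dd a x := by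
  rw [dd_mul_left, conj_eq_of_comm (h.ab_of_E0 h0 _ (dd_mem h.lx hbz hx)
    (h.dd_A hA hB h0 hb hbz hx) a ha haz).symm]

theorem not_span_two (hx : x ∈ O2C z) (hy : y ∈ O2C z) (b12 : cmv (uu t x) y = 1)
    (sp : ∀ w ∈ O2C z, cmv (uu t x) w = 0 → cmv (uu t y) w = 0 → w * t = t * w) : False := by
  have k : ∀ φ : G → ZMod 2, (∀ a ∈ O2C z, ∀ b ∈ O2C z, φ (a * b) = φ a + φ b) → φ x = 0 →
      φ y = 0 → (∀ a ∈ O2C z, a * t = t * a → φ a = 0) → ∀ w ∈ O2C z, φ w = 0 := by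
    intro φ h1 h2 h3 h4 w hw
    obtain ⟨v, hv, c1, c2, c3⟩ := exists_adjust h.sa hA hx hy hw b12
    rw [← c3 φ h1 h2 h3, h4 v hv (sp v hv c1 c2)]
  have k2 : ∀ b ∈ O2C t, b * z = z * b → cmv (dd b x) y = 0 → b = 1 := fun b hb hbz c => by
    refine h0 b (mem_of_dd h.lx fun w hw => eqv_one_of_cmv h.xs (dd_mem h.lx hbz hw) ?_) hb
    have k3 : ∀ u ∈ O2C z, cmv (dd b u) x = 0 → cmv (dd b u) y = 0 → ∀ v ∈ O2C z,
        cmv (dd b u) v = 0 := fun u hu c1 c2 => k _ (fun _ ha _ hb' =>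
          cmv_mul_right h.xs ha hb' (dd_mem h.lx hbz hu)) c1 c2
            fun a ha hat => h.omega_A hA hB h0 hb hbz hu ha hat
    refine k3 w hw ?_ ?_
    · rw [h.omega_symm hA hB h0 hb hbz hw hx]
      exact k3 x hx (h.omega_self hA hB h0 hb hbz hx) c w hw
    · rw [h.omega_symm hA hB h0 hb hbz hw hy]
      exact k3 y hy ((h.omega_symm hA hB h0 hb hbz hy hx).trans c)
        (h.omega_self hA hB h0 hb hbz hy) w hw
  have c2 : Nat.card (O2C t ⊓ centralizer {z} : Subgroup G) ≤ 2 * Nat.card (⊥ : Subgroup G) :=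
    card_le_two_mul_of_mul_mem bot_le fun a ha b hb n1 n2 => k2 _ (mul_mem ha.1 hb.1)
      (mem_cent.1 (mul_mem ha hb).2) (by
        rw [h.dd_mul_B hA hB h0 ha.1 (mem_cent.1 ha.2) hb.1 (mem_cent.1 hb.2) hx,
          cmv_mul_left h.xs (dd_mem h.lx (mem_cent.1 hb.2) hx) (dd_mem h.lx (mem_cent.1 ha.2) hx) hy,
          z2_of_ne_zero fun c => n1 (k2 a ha.1 (mem_cent.1 ha.2) c),
          z2_of_ne_zero fun c => n2 (k2 b hb.1 (mem_cent.1 hb.2) c)]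
        decide)
  have h3 := h.symm.card_A hB (h.ea_of_E0 hA h0)
  have h4 := h.wt.big
  rw [card_bot] at c2
  nlinarith

theorem uu_conj_eqv (hx : x ∈ O2C z) (hy : y ∈ O2C t) :
    Eqv t (uu (x * t * x⁻¹) y) (dd (uu t x) y) := by
  by_cases n : x * t = t * x
  · rw [conj_eq_of_comm n, (uu_eq_one_iff h.tt).2 n, dd_eq_one.2 (by simp),
      (uu_eq_one_iff h.tt).2 (h.symm.xs.z_comm y hy)]
    exact Or.inl rfl
  refine (uu_eqv_dd (h.t2_conj hA hB h0 hx n).sa hy).trans h.tt (Or.inl ?_)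
  rw [← uu_mul_s h.tt, dd_mul_left, dd_eq_one.2 (h.symm.xs.z_comm y hy).symm]; simp

theorem dd_mul_A (ha : a ∈ O2C z) (hat : a * t = t * a) (hb : b ∈ O2C z) (hbt : b * t = t * b)
    (hy : y ∈ O2C t) : dd (a * b) y = dd b y * dd a y :=
  h.symm.dd_mul_B hB hA (fun e h1 h2 => h0 e h2 h1) ha hat hb hbt hy

theorem meet0 (hx : x ∈ O2C z) (hy : y ∈ O2C z) (n1 : x * t ≠ t * x) (n2 : y * t ≠ t * y)
    (n3 : y * x * t ≠ t * (y * x)) (c : cmv (uu t y) x = 0) :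
    ∃ a ∈ O2C t, a ∈ O2C (x * t * x⁻¹) ∧ a ≠ 1 ∧ ∃ b ∈ O2C (y * t * y⁻¹), Eqv t a b :=
  (h.t2_conj hA hB h0 hx n1).meet (h.t2_conj hA hB h0 hy n2)
    (h.t2_conj hA hB h0 (mul_mem hy hx) n3) fun w hw => by
      have h1 := h.uu_conj_eqv hA hB h0 (mul_mem hy hx) hw
      rw [uu_mul0 h.sa hy hx c, h.dd_mul_A hA hB h0 (h.sa.uu_mem hy) (hA.comm_s h.sa hy)
        (h.sa.uu_mem hx) (hA.comm_s h.sa hx) hw] at h1
      exact h1.trans h.tt ((eqv_mul h.symm.xs (dd_mem h.symm.lx (hA.comm_s h.sa hy) hw)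
        (h.uu_conj_eqv hA hB h0 hx hw) (h.uu_conj_eqv hA hB h0 hy hw)).symm h.tt)

theorem card_le_of_meet (hx : x ∈ O2C z) (hy : y ∈ O2C z) (c : cmv (uu t x) y = 1)
    (a1 : a ∈ O2C t) (a2 : a ∈ O2C (x * t * x⁻¹)) (a3 : a ≠ 1) (b2 : b ∈ O2C (y * t * y⁻¹))
    (ab : Eqv t a b) : Nat.card (O2C z ⊓ centralizer {t} : Subgroup G) ≤ 64 := by
  have c' := h.sa.beta_symm hx hy ▸ c
  have n : ∀ {x y}, x ∈ O2C z → cmv (uu t x) y = 1 → x * t ≠ t * x := fun _ c c' => by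
    rw [(uu_eq_one_iff h.tt).2 c', cmv_one_left] at c; exact zero_ne_one c
  have mxy := mul_mem hx hy
  have p1 := h.t2_conj hA hB h0 hx (n hx c)
  have p2 := h.t2_conj hA hB h0 hy (n hy c')
  have p3 := h.t2_conj hA hB h0 mxy (n mxy (y := y)
    (by rw [beta_left h.sa hx hy hy, c, hA.beta_self h.sa hy, add_zero]))
  have b1 := mem_of_eqv h.symm.xs a1 (ab.symm h.tt)
  obtain ⟨a', a4, a5, a6, a7⟩ := p1.exists_ne a
  obtain ⟨b', b4, b5, b6, b7⟩ := p2.exists_ne b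
  obtain ⟨u, u1, u2, v, v1, v2, u3, v3, uv⟩ := p3.e2
  have h1 := card_le_of_five (B := O2C t ⊓ centralizer {z}) h.symm.xs a1 a4 b4 u1 v1
    fun w hw c1 c2 c3 c4 c5 => ⟨hw, mem_cent.2 (by
      have d1 := p1.comm_of_two a1 a2 a4 a5 a3 a6 a7.symm hw c1 c2
      have d2 := p2.comm_of_two b1 b2 b4 b5 (fun c => p1.E_not_eqv a2 a3 (c ▸ ab)) b6 b7.symm hw
        ((eqv_comm_iff h.symm.xs hw ab).1 c1.symm).symm c3
      have d3 := p3.comm_of_two u1 u2 v1 v2 u3 v3 uv hw c4 c5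
      have wt := h.symm.xs.z_comm w hw
      rw [← uu_mul_s h.tt, ← mul_assoc, mul_assoc _ t, ← wt, ← mul_assoc, mul_left_inj] at d1 d2 d3
      rw [uu_mul1 h.sa hx hy c, ← mul_assoc, ← mul_assoc, d1, mul_assoc _ w, d2, mul_assoc,
        mul_assoc, mul_assoc, mul_assoc, mul_right_inj, mul_right_inj] at d3
      exact d3)⟩
  have h3 := h.symm.card_A hB (h.ea_of_E0 hA h0)
  rw [h.card_A_eq hA hB h0] at h1 h3
  have h6 : 0 < Nat.card (O2C z ⊓ centralizer {t} : Subgroup G) := Nat.card_pos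
  nlinarith

theorem card_of_E0 : Nat.card (O2C z) = 2 ^ 9 := by
  have hI := h.tyI_of_E0 hA hB h0
  have eA := h.symm.ea_of_E0 hB fun e h1 h2 => h0 e h2 h1
  have X := h.xs
  have S := h.sa
  have nn : ∀ {x}, x ∈ O2C z → x * t ≠ t * x → ∃ w ∈ O2C z, cmv (uu t x) w = 1 := fun hx n =>
    exists_beta S hx fun c => n (hI.comm S hx c)
  have n : ∀ {x} (y), cmv (uu t x) y = 1 → x * t ≠ t * x := fun _ c c' => by
    rw [(uu_eq_one_iff h.tt).2 c', cmv_one_left] at c; exact zero_ne_one c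
  have br := fun {y} (hy : y ∈ O2C z) => fun a ha b hb => beta_right (w := a) (w' := b) S hy ha hb
  obtain ⟨y1, m1, n1⟩ := exists_not_eqv S
  obtain ⟨y2, m2, b12⟩ := exists_beta S m1 n1
  obtain ⟨y3, m3, b13, b23, n3⟩ : ∃ y ∈ O2C z, cmv (uu t y1) y = 0 ∧ cmv (uu t y2) y = 0 ∧
      y * t ≠ t * y := by
    by_contra c
    push Not at c
    exact h.not_span_two hA hB h0 m1 m2 b12 c
  have b21 := S.beta_symm m1 m2 ▸ b12
  have b31 := S.beta_symm m1 m3 ▸ b13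
  have b32 := S.beta_symm m2 m3 ▸ b23
  obtain ⟨w, mw, bw⟩ := nn m3 n3
  obtain ⟨y4, m4, b14, b24, k4⟩ := exists_adjust S hA m1 m2 mw b12
  have b34 := (k4 _ (br m3) b31 b32).trans bw
  have b41 := S.beta_symm m1 m4 ▸ b14
  have b42 := S.beta_symm m2 m4 ▸ b24
  have b43 := S.beta_symm m3 m4 ▸ b34
  have b11 := hA.beta_self S m1
  have b22 := hA.beta_self S m2
  have b33 := hA.beta_self S m3
  have b44 := hA.beta_self S m4
  have q0 : zpowers z ≤ O2C z := zpowers_le.2 X.z_mem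
  have q1 := sup_le_Q q0 (S.uu_mem m1)
  have q2 := sup_le_Q q1 (S.uu_mem m2)
  have q3 := sup_le_Q q2 (S.uu_mem m3)
  have q4 := sup_le_Q q3 (S.uu_mem m4)
  have z0 := mem_zpowers z
  have z1 := mem_sup_left (T := zpowers (uu t y1)) z0
  have z2 := mem_sup_left (T := zpowers (uu t y2)) z1
  have z3 := mem_sup_left (T := zpowers (uu t y3)) z2
  have z4 := mem_sup_left (T := zpowers (uu t y4)) z3
  have c1 := card_step' X q0 z0 (S.uu_mem m1) (cent_zero X m2) b12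
  have c2 := card_step' X q1 z1 (S.uu_mem m2) (cent_step (cent_zero X m1) b11) b21
  have c3 := card_step' X q2 z2 (S.uu_mem m3) (cent_step (cent_step (cent_zero X m4) b14) b24) b34
  have c4 := card_step' X q3 z3 (S.uu_mem m4)
    (cent_step (cent_step (cent_step (cent_zero X m3) b13) b23) b33) b43
  rw [Nat.card_zpowers, X.orderOf_z] at c1
  have hs : ∀ {y}, y ∈ O2C z → zpowers (uu t y) ≤ O2C z ⊓ centralizer {t} := fun hy =>
    zpowers_le.2 ⟨S.uu_mem hy, mem_cent.2 (hA.comm_s S hy)⟩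
  have l1 := sup_le (sup_le (sup_le (sup_le (zpowers_le.2
    (show z ∈ O2C z ⊓ centralizer {t} from ⟨X.z_mem, mem_cent.2 h.comm.symm⟩)) (hs m1)) (hs m2))
      (hs m3)) (hs m4)
  have cA := h.card_A hA eA
  by_cases sp : ∀ y ∈ O2C z, cmv (uu t y1) y = 0 → cmv (uu t y2) y = 0 → cmv (uu t y3) y = 0 →
      cmv (uu t y4) y = 0 → y * t = t * y
  · have c5 := X.card_mul_card_centralizer q4 z4
    have c6 := card_le_of_le (H := O2C z ⊓ centralizer ((zpowers z ⊔ zpowers (uu t y1) ⊔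
      zpowers (uu t y2) ⊔ zpowers (uu t y3) ⊔ zpowers (uu t y4) : Subgroup G) : Set G))
      (K := O2C z ⊓ centralizer {t}) fun y hy => ⟨hy.1, mem_cent.2 (by
        have := (mem_inf.1 hy).2
        simp only [XS.mem_centralizer_sup_zpowers] at this
        exact sp y hy.1 (cmv_eq_zero.2 this.1.1.1.2.symm) (cmv_eq_zero.2 this.1.1.2.symm)
          (cmv_eq_zero.2 this.1.2.symm) (cmv_eq_zero.2 this.2.symm))⟩
    have c7 := card_le_of_le l1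
    rw [c4, c3, c2, c1] at c5 c7
    have c8 : Nat.card (O2C z ⊓ centralizer {t} : Subgroup G) = 32 := by nlinarith
    rw [c8] at cA
    omega
  exfalso
  push Not at sp
  obtain ⟨y5, m5, b15, b25, b35, b45, n5⟩ := sp
  have b51 := S.beta_symm m1 m5 ▸ b15
  have b52 := S.beta_symm m2 m5 ▸ b25
  have b53 := S.beta_symm m3 m5 ▸ b35
  have b54 := S.beta_symm m4 m5 ▸ b45
  have b55 := hA.beta_self S m5
  obtain ⟨w, mw, bw⟩ := nn m5 n5
  obtain ⟨w', mw', d1, d2, k5⟩ := exists_adjust S hA m1 m2 mw b12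
  obtain ⟨y6, m6, b36, b46, k6⟩ := exists_adjust S hA m3 m4 mw' b34
  have b56 := ((k6 _ (br m5) b53 b54).trans (k5 _ (br m5) b51 b52)).trans bw
  have b16 := (k6 _ (br m1) b13 b14).trans d1
  have b26 := (k6 _ (br m2) b23 b24).trans d2
  have q5 := sup_le_Q q4 (S.uu_mem m5)
  have c5 := card_step' X q4 z4 (S.uu_mem m5)
    (cent_step (cent_step (cent_step (cent_step (cent_zero X m6) b16) b26) b36) b46) b56
  have c6 := card_step' X q5 (mem_sup_left z4) (S.uu_mem m6) (cent_step (cent_step (cent_step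
    (cent_step (cent_step (cent_zero X m5) b15) b25) b35) b45) b55) (S.beta_symm m5 m6 ▸ b56)
  have c7 := card_le_of_le (sup_le (sup_le l1 (hs m5)) (hs m6))
  rw [c6, c5, c4, c3, c2, c1] at c7
  have p5 := h.t2_conj hA hB h0 m5 n5
  have key : ∀ g ∈ O2C z, ∀ v ∈ O2C z, cmv (uu t g) y5 = 0 → cmv (uu t g) v = 1 →
      cmv (uu t y5) v = 0 → ∃ a ∈ O2C t, a ∈ O2C (y5 * t * y5⁻¹) ∧ a ≠ 1 ∧
        ∃ b ∈ O2C (g * t * g⁻¹), Eqv t a b := fun g hg v hv e1 e2 e3 =>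
    h.meet0 hA hB h0 m5 hg n5 (n v e2) (n v (by rw [beta_left S hg m5 hv, e2, e3, add_zero])) e1
  have fin : ∀ g ∈ O2C z, ∀ g' ∈ O2C z, cmv (uu t g) g' = 1 → ∀ a ∈ O2C t,
      a ∈ O2C (y5 * t * y5⁻¹) → a ≠ 1 → ∀ b ∈ O2C (g * t * g⁻¹), Eqv t a b →
      ∀ b' ∈ O2C (g' * t * g'⁻¹), Eqv t a b' → False := fun g hg g' hg' e a a1 a2 a3 b b2 ab b' b3 ab' => by
    have := h.card_le_of_meet hA hB h0 hg hg' e (mem_of_eqv h.symm.xs a1 (ab.symm h.tt)) b2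
      (fun c => p5.E_not_eqv a2 a3 (c ▸ ab)) b3 ((ab.symm h.tt).trans h.tt ab')
    omega
  have m12 := mul_mem m1 m2
  have g3 := mul_mem m12 m3
  have g4 := mul_mem m12 m4
  have l3 : ∀ v ∈ O2C z, cmv (uu t (y1 * y2 * y3)) v =
      cmv (uu t y1) v + cmv (uu t y2) v + cmv (uu t y3) v := fun v hv => by
    rw [beta_left S m12 m3 hv, beta_left S m1 m2 hv]
  have l4 : ∀ v ∈ O2C z, cmv (uu t (y1 * y2 * y4)) v =
      cmv (uu t y1) v + cmv (uu t y2) v + cmv (uu t y4) v := fun v hv => by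
    rw [beta_left S m12 m4 hv, beta_left S m1 m2 hv]
  have e31 : cmv (uu t (y1 * y2 * y3)) y1 = 1 := by rw [l3 _ m1, b11, b21, b31]; decide
  have e32 : cmv (uu t (y1 * y2 * y3)) y2 = 1 := by rw [l3 _ m2, b12, b22, b32]; decide
  have e41 : cmv (uu t (y1 * y2 * y4)) y1 = 1 := by rw [l4 _ m1, b11, b21, b41]; decide
  have e42 : cmv (uu t (y1 * y2 * y4)) y2 = 1 := by rw [l4 _ m2, b12, b22, b42]; decide
  have e43 : cmv (uu t (y1 * y2 * y4)) (y1 * y2 * y3) = 1 := by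
    rw [br g4 _ m12 _ m3, br g4 _ m1 _ m2, e41, e42, l4 _ m3, b13, b23, b43]; decide
  obtain ⟨a1, a11, a12, a13, u1, u11, u12⟩ := key y1 m1 y2 m2 b15 b12 b52
  obtain ⟨a2, a21, a22, a23, u2, u21, u22⟩ := key y2 m2 y1 m1 b25 b21 b51
  obtain ⟨a3, a31, a32, a33, u3, u31, u32⟩ := key _ g3 y1 m1
    (by rw [l3 _ m5, b15, b25, b35]; decide) e31 b51
  obtain ⟨a4, a41, a42, a43, u4, u41, u42⟩ := key _ g4 y1 m1
    (by rw [l4 _ m5, b15, b25, b45]; decide) e41 b51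
  have n12 : a1 ≠ a2 := fun c => fin y1 m1 y2 m2 b12 a1 a11 a12 a13 u1 u11 u12 u2 u21 (c ▸ u22)
  have n31 : a3 ≠ a1 := fun c => fin _ g3 y1 m1 e31 a3 a31 a32 a33 u3 u31 u32 u1 u11 (c ▸ u12)
  have n32 : a3 ≠ a2 := fun c => fin _ g3 y2 m2 e32 a3 a31 a32 a33 u3 u31 u32 u2 u21 (c ▸ u22)
  have n41 : a4 ≠ a1 := fun c => fin _ g4 y1 m1 e41 a4 a41 a42 a43 u4 u41 u42 u1 u11 (c ▸ u12)
  have n42 : a4 ≠ a2 := fun c => fin _ g4 y2 m2 e42 a4 a41 a42 a43 u4 u41 u42 u2 u21 (c ▸ u22)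
  have n43 : a4 ≠ a3 := fun c => fin _ g4 _ g3 e43 a4 a41 a42 a43 u4 u41 u42 u3 u31 (c ▸ u32)
  have f3 := p5.E_cases a11 a12 a21 a22 a13 a23 n12 a31 a32
  have f4 := p5.E_cases a11 a12 a21 a22 a13 a23 n12 a41 a42
  exact n43 ((((f4.resolve_left a43).resolve_left n41).resolve_left n42).trans
    (((f3.resolve_left a33).resolve_left n31).resolve_left n32).symm)

end Zero

/-- classification of commuting pairs -/
theorem tri : T2 z t ∨ T0 z t ∨ Tc z t := by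
  by_cases h0 : ∀ e ∈ O2C z, e ∈ O2C t → e = 1
  swap
  · push Not at h0
    obtain ⟨e, e1, e2, e3⟩ := h0
    exact Or.inl (h.t2_of_E e1 e2 e3)
  by_cases hA : TyA (O2C z) t
  swap
  · simp only [TyA, not_forall] at hA
    obtain ⟨x, hx, n⟩ := hA
    exact Or.inr (Or.inr (h.tc_of_bc hx ((h.xs.sq (h.sa.uu_mem hx)).resolve_left n)))
  by_cases hB : TyA (O2C t) z
  swap
  · simp only [TyA, not_forall] at hB
    obtain ⟨x, hx, n⟩ := hB
    exact Or.inr (Or.inr (h.symm.tc_of_bc hx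
      ((h.symm.xs.sq (h.symm.sa.uu_mem hx)).resolve_left n)).symm)
  exact Or.inr (Or.inl ⟨h, h.card_of_E0 hA hB h0, h0, h.tyI_of_E0 hA hB h0,
    h.symm.tyI_of_E0 hB hA fun e h1 h2 => h0 e h2 h1⟩)

end Pr

end Cfsg.Agent.XW
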