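import Mathlib
import Cfsg.Agent.XW.D

/-! Lines of five points through a pair of rank two. -/

set_option autoImplicit false

namespace Cfsg.Agent.XW

open Subgroup Cfsg.Agent.TT Cfsg.Agent.LES Cfsg.Agent.XSC.WC

variable {G : Type*} [Group G]

theorem uu_conj (g s y : G) : uu (g * s * g⁻¹) (g * y * g⁻¹) = g * uu s y * g⁻¹ := by
  simp [uu, mul_assoc]

theorem R2.map_conj {z t : G} (h : R2 z t) (g : G) : R2 (g * z * g⁻¹) (g * t * g⁻¹) := by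
  intro x hx
  have e : x = g * (g⁻¹ * x * g) * g⁻¹ := by group
  rw [e, uu_conj, conj_mul]
  exact (h _ (mem_O2C_conj.1 hx)).imp (fun c => by simp [c]) (conj_mem_O2C_conj g)

theorem T2.map_conj {z t : G} (h : T2 z t) (g : G) : T2 (g * z * g⁻¹) (g * t * g⁻¹) :=
  ⟨h.toPr.map_conj g, h.r1.map_conj g, h.r2.map_conj g⟩

theorem T2.conj_right {z t g : G} (h : T2 z t) (hg : g * z = z * g) : T2 z (g * t * g⁻¹) := by
  simpa only [conj_eq_of_comm hg] using h.map_conj g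

theorem Pr.conj_right {z t g : G} (h : Pr z t) (hg : g * z = z * g) : Pr z (g * t * g⁻¹) := by
  simpa only [conj_eq_of_comm hg] using h.map_conj g

/-- the line through a pair -/
def Ln (z t : G) : Set G :=
  {p | p = z ∨ p = t ∨ ∃ e ∈ O2C z, e ∈ O2C t ∧ e ≠ 1 ∧ p = e * z * t}

theorem left_mem_Ln (z t : G) : z ∈ Ln z t := Or.inl rfl

theorem right_mem_Ln (z t : G) : t ∈ Ln z t := Or.inr (Or.inl rfl)

theorem pt_mem_Ln {z t e : G} (h1 : e ∈ O2C z) (h2 : e ∈ O2C t) (h3 : e ≠ 1) :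
    e * z * t ∈ Ln z t := Or.inr (Or.inr ⟨e, h1, h2, h3, rfl⟩)

theorem conj_mem_Ln {z t p : G} (g : G) (h : p ∈ Ln z t) :
    g * p * g⁻¹ ∈ Ln (g * z * g⁻¹) (g * t * g⁻¹) := by
  rcases h with rfl | rfl | ⟨e, h1, h2, h3, rfl⟩
  exacts [Or.inl rfl, Or.inr (Or.inl rfl), Or.inr (Or.inr ⟨_, conj_mem_O2C_conj g h1,
    conj_mem_O2C_conj g h2, by simpa using h3, by group⟩)]

theorem Pr.Ln_comm {z t : G} (h : Pr z t) : Ln t z = Ln z t := by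
  have k : ∀ {z t : G}, t * z = z * t → Ln t z ⊆ Ln z t := by
    rintro z t c p (rfl | rfl | ⟨e, h1, h2, h3, rfl⟩)
    exacts [Or.inr (Or.inl rfl), Or.inl rfl,
      Or.inr (Or.inr ⟨e, h2, h1, h3, by rw [mul_assoc, c, mul_assoc]⟩)]
  exact (k h.comm).antisymm (k h.comm.symm)

theorem uu_mul_Q {Q : Subgroup G} {z s t x : G} (h : Sa Q z t) (h' : Sa Q z s) (k : t * s ∈ Q)
    (hx : x ∈ Q) : Eqv z (uu s x) (uu t x) := by
  have e : s = t * (t * s) := by rw [← mul_assoc, h.s_sq, one_mul]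
  refine (uu_eqv_dd h' hx).trans h.z_sq (Eqv.trans h.z_sq ?_ ((uu_eqv_dd h hx).symm h.z_sq))
  rw [e, dd_mul_left]
  simpa using ((dd_of_mem h.toLX k hx).conj h.s_comm).mul_right
    (h.z_comm _ (dd_mem h.toLX h.s_comm hx))

namespace T2

variable {z t e x s p q : G} [Finite G] (h : T2 z t)
include h

theorem exists_x (h1 : e ∈ O2C z) (h2 : e ∈ O2C t) (h3 : e ≠ 1) :
    ∃ x ∈ O2C z, x * t * x⁻¹ = e * z * t ∧ x * e = e * x ∧ uu t x = e * z := by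
  obtain ⟨x, hx, ex⟩ := h.E_form h.tyI h1 h2 h3
  have c := h.tyA.beta_self h.sa hx
  rw [ex, cmv_mul_z h.xs hx, cmv_eq_zero] at c
  exact ⟨x, hx, by rw [← uu_mul_s h.tt, ex], c.symm, ex⟩

theorem t2_pt (h1 : e ∈ O2C z) (h2 : e ∈ O2C t) (h3 : e ≠ 1) : T2 z (e * z * t) := by
  obtain ⟨x, hx, ex, -⟩ := h.exists_x h1 h2 h3
  exact ex ▸ h.conj_right (h.xs.z_comm x hx)

theorem E_eqv (h' : T2 z s) (k : t * s ∈ O2C z) (h1 : e ∈ O2C z) (h2 : e ∈ O2C s) :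
    ∃ a ∈ O2C z, a ∈ O2C t ∧ Eqv z e a := by
  by_cases h3 : e = 1
  · exact ⟨1, one_mem _, one_mem _, Or.inl h3⟩
  obtain ⟨x, hx, -, -, ex⟩ := h'.exists_x h1 h2 h3
  obtain ⟨a, a1, a2, a3⟩ := h.uu_eqv hx
  exact ⟨a, a1, a2, ((eqv_mul_z z e).symm h.zz).trans h.zz
    ((ex ▸ uu_mul_Q h.sa h'.sa k hx).trans h.zz a3)⟩

theorem mem_Ln_of (h' : T2 z s) (k : t * s ∈ O2C z) : s ∈ Ln z t := by
  have e : s = t * (t * s) := by rw [← mul_assoc, h.tt, one_mul]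
  obtain ⟨x, hx, c⟩ := h.tyI.mem_hat h.sa k fun a ha hat => by
    have := h'.comm_of_r2 h'.r1 ha fun e e1 e2 => by
      obtain ⟨b, b1, b2, b3⟩ := h.E_eqv h' k e1 e2
      exact ((eqv_comm_iff h.xs ha b3).2 (h.E_A b1 b2 ha hat).symm).symm
    exact comm_mul_right hat this
  rcases c with c | c
  · rw [c, ← h.tyA.comm_s h.sa hx] at e
    by_cases n : x * t = t * x
    · exact Or.inr (Or.inl (by rw [e, (uu_eq_one_iff h.tt).2 n, one_mul]))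
    · obtain ⟨a, a1, a2, a3, a4, -⟩ := h.uu_form hx n
      exact Or.inr (Or.inr ⟨a, a1, a2, a3, by rw [e, a4]⟩)
  · refine absurd (h'.conj.trans (isConj_iff.2 ⟨x⁻¹, ?_⟩)) h.not_conj
    rw [e, c, ← mul_assoc t, ← h.tyA.comm_s h.sa hx, uu_mul_s h.tt, ← h.comm]
    calc x⁻¹ * (x * t * x⁻¹ * z) * x⁻¹⁻¹ = t * (x⁻¹ * z * x⁻¹⁻¹) := by group
      _ = t * z := by rw [conj_eq_of_comm (comm_inv_left (h.xs.z_comm x hx))]

theorem mem_Ln_iff : s ∈ Ln z t ↔ s = z ∨ T2 z s ∧ t * s ∈ O2C z := by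
  refine ⟨?_, fun c => c.elim Or.inl fun c => h.mem_Ln_of c.1 c.2⟩
  rintro (rfl | rfl | ⟨e, h1, h2, h3, rfl⟩)
  · exact Or.inl rfl
  · exact Or.inr ⟨h, h.tt ▸ one_mem _⟩
  · refine Or.inr ⟨h.t2_pt h1 h2 h3, ?_⟩
    rw [← mul_assoc, ← mul_assoc, ← h.E_t h2, mul_assoc e, h.comm, mul_assoc, mul_assoc, h.tt,
      mul_one]
    exact mul_mem h1 h.xs.z_mem

theorem t2_of_mem (hp : p ∈ Ln z t) (n : p ≠ z) : T2 z p := ((h.mem_Ln_iff.1 hp).resolve_left n).1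

theorem mul_mem_of (hp : p ∈ Ln z t) (n : p ≠ z) : t * p ∈ O2C z :=
  ((h.mem_Ln_iff.1 hp).resolve_left n).2

theorem Ln_eq (hp : p ∈ Ln z t) (n : p ≠ z) : Ln z p = Ln z t := by
  obtain ⟨h1, h2⟩ := (h.mem_Ln_iff.1 hp).resolve_left n
  ext s
  rw [h.mem_Ln_iff, h1.mem_Ln_iff, ← mul_mem_cancel_left h2, mul_assoc, ← mul_assoc p, h1.tt,
    one_mul]

theorem pair (hp : p ∈ Ln z t) (hq : q ∈ Ln z t) (n : q ≠ p) : T2 p q ∧ Ln p q = Ln z t := by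
  by_cases c : p = z
  · subst c; exact ⟨h.t2_of_mem hq n, h.Ln_eq hq n⟩
  have h1 := h.t2_of_mem hp c
  rw [← h.Ln_eq hp c, ← h1.Ln_comm] at hq ⊢
  exact ⟨h1.symm.t2_of_mem hq n, h1.symm.Ln_eq hq n⟩

theorem conj_of_mem (hp : p ∈ Ln z t) : IsConj z p := by
  by_cases c : p = z
  exacts [c ▸ IsConj.refl _, (h.t2_of_mem hp c).conj]

theorem comm_of_mem (hp : p ∈ Ln z t) (hq : q ∈ Ln z t) : p * q = q * p := by
  by_cases c : q = p
  exacts [c ▸ rfl, (h.pair hp hq c).1.comm.symm]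

theorem pt_E {a : G} (h1 : e ∈ O2C z) (h2 : e ∈ O2C t) (h3 : e ≠ 1) (a1 : a ∈ O2C z)
    (a2 : a ∈ O2C t) (a3 : a ∈ O2C (e * z * t)) : a = 1 ∨ a = e := by
  obtain ⟨x, hx, ex, c, ex'⟩ := h.exists_x h1 h2 h3
  by_contra n
  push Not at n
  rw [← ex, mem_O2C_conj] at a3
  by_cases c' : x * a = a * x
  · rw [(uu_eq_one_iff h.tt).2 (h.comm_of_two a1 a2 h1 h2 n.1 h3 n.2 hx c' c)] at ex'
    exact h.z_not ((mul_mem_cancel_left h2).1 (ex' ▸ one_mem _))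
  · have := h.xs.conj_of_ne (inv_mem hx) a1 fun c => c' (by simpa using comm_inv_left c)
    rw [inv_inv] at this
    exact h.z_not ((mul_mem_cancel_left a2).1 (this ▸ a3))

theorem five : ∃ p q r, [z, t, p, q, r].Nodup ∧ z * t * p * q * r = 1 ∧
    ∀ s, s ∈ Ln z t ↔ s ∈ [z, t, p, q, r] := by
  obtain ⟨a, a1, a2, b, b1, b2, n1, n2, n3⟩ := h.e2
  have n4 := mul_ne_one_of_ne (h.E_sq b1 b2) n3
  have k1 : ∀ e ∈ O2C z, z ≠ e * z * t := fun e he c => h.t_not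
    ((mul_mem_cancel_left (mul_mem he h.xs.z_mem)).1 (c ▸ h.xs.z_mem))
  have k2 : ∀ e ∈ O2C t, t ≠ e * z * t := fun e he c => h.z_not
    ((mul_mem_cancel_left he).1 ((mul_eq_right.1 c.symm) ▸ one_mem _))
  refine ⟨a * z * t, b * z * t, a * b * z * t, ?_, ?_, fun s => ⟨?_, ?_⟩⟩
  · simp [h.ne.symm, k1 a a1, k1 b b1, k1 _ (mul_mem a1 b1), k2 a a2, k2 b b2,
      k2 _ (mul_mem a2 b2), n1, n2, n3]
  · have c1 : ∀ e ∈ O2C z, e ∈ O2C t → z * t * e = e * (z * t) := fun e e1 e2 =>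
      comm_mul_left (h.xs.z_comm e e1).symm (h.E_t e2).symm
    have c2 : z * t * (z * t) = 1 := by
      rw [mul_assoc, ← mul_assoc t, h.comm, mul_assoc, h.tt, mul_one, h.zz]
    have c3 := h.E_sq (mul_mem a1 b1) (mul_mem a2 b2)
    have c4 := c1 a a1 a2
    have c5 := c1 b b1 b2
    simp only [mul_assoc a, mul_assoc b, mul_assoc (a * b)]
    generalize z * t = w at *
    calc w * (a * w) * (b * w) * (a * (b * w)) = (w * a) * w * b * (w * a) * b * w := by group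
      _ = a * (w * w) * b * a * (w * b) * w := by rw [c4]; group
      _ = a * (w * w) * b * a * b * (w * w) := by rw [c5]; group
      _ = a * b * (a * b) := by rw [c2]; group
      _ = 1 := c3
  · rintro (rfl | rfl | ⟨e, h1, h2, h3, rfl⟩)
    · simp
    · simp
    · rcases h.E_cases a1 a2 b1 b2 n1 n2 n3 h1 h2 with rfl | rfl | rfl | rfl
      exacts [absurd rfl h3, by simp, by simp, by simp]
  · simp only [List.mem_cons, List.not_mem_nil, or_false]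
    rintro (rfl | rfl | rfl | rfl | rfl)
    exacts [left_mem_Ln _ _, right_mem_Ln _ _, pt_mem_Ln a1 a2 n1, pt_mem_Ln b1 b2 n2,
      pt_mem_Ln (mul_mem a1 b1) (mul_mem a2 b2) n4]

theorem same_line (h' : T2 z s) {a b a' b' : G} (a1 : a ∈ O2C z) (a2 : a ∈ O2C t) (b1 : b ∈ O2C z)
    (b2 : b ∈ O2C t) (n1 : a ≠ 1) (n2 : b ≠ 1) (n3 : a ≠ b) (a3 : a' ∈ O2C s) (b3 : b' ∈ O2C s)
    (ea : Eqv z a' a) (eb : Eqv z b' b) : t * s ∈ O2C z := by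
  have X := h.xs
  have a4 := mem_of_eqv X a1 ea
  have b4 := mem_of_eqv X b1 eb
  have m1 : a' ≠ 1 := fun c => h.E_not_eqv a2 n1 (c ▸ ea.symm h.zz)
  have m2 : b' ≠ 1 := fun c => h.E_not_eqv b2 n2 (c ▸ eb.symm h.zz)
  have m3 : a' ≠ b' := fun c => n3 (h.eq_of_eqv a2 b2 ((ea.symm h.zz).trans h.zz (c ▸ eb)))
  have key : ∀ x ∈ O2C z, Eqv z (uu s x) (uu t x) := fun x hx => by
    have c1 : ∀ {u v}, Eqv z u v → (x * u = u * x ↔ x * v = v * x) := fun c => by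
      rw [eq_comm, eqv_comm_iff X hx c, eq_comm]
    have c2 : x * s = s * x ↔ x * t = t * x :=
      ⟨fun c => h.comm_of_two a1 a2 b1 b2 n1 n2 n3 hx ((c1 ea).1 (h'.E_A a4 a3 hx c))
        ((c1 eb).1 (h'.E_A b4 b3 hx c)), fun c => h'.comm_of_two a4 a3 b4 b3 m1 m2 m3 hx
          ((c1 ea).2 (h.E_A a1 a2 hx c)) ((c1 eb).2 (h.E_A b1 b2 hx c))⟩
    by_cases n : x * t = t * x
    · rw [(uu_eq_one_iff h.tt).2 n, (uu_eq_one_iff h'.tt).2 (c2.2 n)]; exact Or.inl rfl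
    obtain ⟨e, e1, e2, e3, e4, e5⟩ := h.uu_form hx n
    obtain ⟨e', f1, f2, f3⟩ : ∃ e' ∈ O2C z, e' ∈ O2C s ∧ Eqv z e' e := by
      rcases h.E_cases a1 a2 b1 b2 n1 n2 n3 e1 e2 with rfl | rfl | rfl | rfl
      exacts [absurd rfl e3, ⟨a', a4, a3, ea⟩, ⟨b', b4, b3, eb⟩,
        ⟨_, mul_mem a4 b4, mul_mem a3 b3, eqv_mul X b1 ea eb⟩]
    rw [e4, (h'.uu_of_r2 h'.r1 f1 f2 (fun c => h.E_not_eqv e2 e3 (c ▸ f3.symm h.zz)) hx
      ((c1 f3).2 e5)).resolve_left fun c => n (c2.1 ((uu_eq_one_iff h'.tt).1 c))]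
    exact f3.mul_right rfl
  refine mem_of_dd h.lx fun x hx => ?_
  have d1 := ((uu_eqv_dd h'.sa hx).symm h.zz).trans h.zz (key x hx)
  have d2 := dd_mul_eqv_of h.lx h.comm h'.comm hx (Or.inl (by
    rw [dd_eqv h.comm (X.z_comm _ (h.sa.uu_mem hx)) d1, dd_eq_one, h.tyA.comm_s h.sa hx]))
  have d3 := eqv_mul X (h.sa.uu_mem hx) ((uu_eqv_dd h.sa hx).symm h.zz) d1
  rw [h.tyA x hx] at d3
  exact d2.trans h.zz d3

theorem triangle (h' : T2 z s) (h'' : T2 t s) (h1 : e ∈ O2C z) (h2 : e ∈ O2C t) (h3 : e ≠ 1)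
    (h4 : e * z ∈ O2C s) : t * s ∈ O2C z := by
  have es : e * s = s * e := by
    have := h'.E_t h4
    rwa [mul_assoc, ← h'.comm, ← mul_assoc, ← mul_assoc, mul_left_inj] at this
  have ez := h.xs.z_comm e h1
  by_cases c : ∀ y ∈ O2C t, y * s = s * y → y * e = e * y
  · obtain ⟨y, hy, c1⟩ := h''.tyI.mem_hat h''.sa h2 c
    obtain ⟨a, -, a2, a3⟩ := h''.uu_eqv hy
    rcases c1.trans h.tt a3 with c2 | c2
    · exact absurd ((mul_mem_cancel_left (c2 ▸ a2)).1 h4) h'.z_not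
    have c3 : z * t ∈ O2C s := by
      have := mul_mem h4 a2
      rw [show a = e * t by rw [c2, mul_assoc, h.tt, mul_one]] at this
      rwa [show e * z * (e * t) = e * e * z * t by
        rw [mul_assoc e z, ← mul_assoc z, ← ez]; simp only [mul_assoc], h.E_sq h1 h2,
        one_mul] at this
    have c4 := h'.symm.mem_Ln_of h''.symm c3
    rw [h'.Ln_comm] at c4
    rw [← h''.comm]
    exact h'.mul_mem_of c4 h.ne
  push Not at c
  obtain ⟨y, hy, ys, n⟩ := c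
  have c1 := h.symm.xs.conj_of_ne hy h2 n
  have c2 : y * (e * z) * y⁻¹ ∈ O2C s := by
    simpa only [conj_eq_of_comm ys] using conj_mem_O2C_conj y h4
  rw [← conj_mul, c1] at c2
  have et := h.E_t h2
  by_cases n' : y * z = z * y
  · rw [conj_eq_of_comm n', mul_assoc, h.comm, ← mul_assoc] at c2
    exact absurd ((mul_mem_cancel_left h4).1 c2) h''.z_not
  obtain ⟨a, a1, a2, a3, a4, a5⟩ := h.symm.uu_form hy n'
  rw [← uu_mul_s h.zz, a4, show e * t * (a * t * z) = e * z * a by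
    rw [mul_assoc e t, ← mul_assoc t, ← mul_assoc t, ← h.E_t a1, mul_assoc a t t, h.tt, mul_one,
      h.xs.z_comm a a2, mul_assoc]] at c2
  exact h.same_line h' h1 h2 a2 a1 h3 a3 (fun c => n (c ▸ a5)) h4
    ((mul_mem_cancel_left h4).1 c2) (eqv_mul_z z e) (Or.inl rfl)

theorem eq_or (hp : p ∈ Ln z t) (n : p ≠ z) (h1 : e ∈ O2C z) (h2 : e ∈ O2C t) (h3 : e ≠ 1)
    (h4 : e ∈ O2C p) : p = t ∨ p = e * z * t := by
  rcases hp with rfl | rfl | ⟨a, a1, a2, a3, rfl⟩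
  exacts [absurd rfl n, Or.inl rfl,
    Or.inr (by rw [(h.pt_E a1 a2 a3 h1 h2 h4).resolve_left h3])]

theorem eq_of_two (h' : T2 z s) {a b : G} (a1 : a ∈ O2C z) (a2 : a ∈ O2C t) (b1 : b ∈ O2C z)
    (b2 : b ∈ O2C t) (n1 : a ≠ 1) (n2 : b ≠ 1) (n3 : a ≠ b) (a3 : a ∈ O2C s) (b3 : b ∈ O2C s) :
    s = t := by
  have k := h.mem_Ln_of h' (h.same_line h' a1 a2 b1 b2 n1 n2 n3 a3 b3 (Or.inl rfl) (Or.inl rfl))
  by_contra n
  have := ((h.eq_or k h'.ne a1 a2 n1 a3).resolve_left n).symm.trans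
    ((h.eq_or k h'.ne b1 b2 n2 b3).resolve_left n)
  exact n3 (by simpa using this)

theorem E_comm_pt (h1 : e ∈ O2C z) (h2 : e ∈ O2C t) (hp : p ∈ Ln z t) : e * p = p * e := by
  rcases hp with rfl | rfl | ⟨a, a1, a2, -, rfl⟩
  exacts [h.xs.z_comm e h1, h.E_t h2, comm_mul_right (comm_mul_right
    (h.E_A a1 a2 h1 (h.E_t h2)) (h.xs.z_comm e h1)) (h.E_t h2)]

theorem swap_fix {g : G} (gg : g * g = 1) (hg : g * z * g⁻¹ = t) :
    ∃ p ∈ Ln z t, p ≠ z ∧ p ≠ t ∧ g * p = p * g := by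
  have hg' : g * t * g⁻¹ = z := by rw [← hg, inv_eq_of_mul_eq_one_right gg]; simp [mul_assoc, gg,
    ← mul_assoc g g]
  have k : ∀ e ∈ O2C z, e ∈ O2C t → e ≠ 1 → g * e * g⁻¹ = e →
      ∃ p ∈ Ln z t, p ≠ z ∧ p ≠ t ∧ g * p = p * g := fun e h1 h2 h3 c =>
    ⟨_, pt_mem_Ln h1 h2 h3, (h.t2_pt h1 h2 h3).ne, fun c => h.z_not
      ((mul_mem_cancel_left h2).1 (mul_eq_right.1 c ▸ one_mem _)), comm_of_conj_eq (by
        rw [← conj_mul, ← conj_mul, c, hg, hg', mul_assoc, h.comm, mul_assoc])⟩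
  obtain ⟨a, a1, a2, a3, -⟩ := h.exists_ne 1
  have b1 := hg' ▸ conj_mem_O2C_conj g a2
  have b2 := hg ▸ conj_mem_O2C_conj g a1
  by_cases c : g * a * g⁻¹ = a
  · exact k a a1 a2 a3 c
  refine k _ (mul_mem b1 a1) (mul_mem b2 a2) (mul_ne_one_of_ne (h.E_sq a1 a2) c) ?_
  rw [← conj_mul, h.E_A a1 a2 b1 (h.E_t b2), inv_eq_of_mul_eq_one_right gg]
  simp [mul_assoc, gg, ← mul_assoc g g]

end T2

end Cfsg.Agent.XW
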