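import Mathlib
import Cfsg.Agent.XW.E
import Cfsg.Agent.TT.Classes

/-! The local geometry when all commuting pairs have rank two. -/

set_option autoImplicit false

namespace Cfsg.Agent.XW

open Subgroup Cfsg.Agent.TT Cfsg.Agent.LES Cfsg.Agent.XSC.WC

variable {G : Type*} [Group G]

/-- all commuting pairs have rank two -/
structure AT (z : G) : Prop where
  ws : WS z
  t2 : ∀ t, Pr z t → T2 z t

theorem comm_of_sw {t u : G} (tt : t * t = 1) (h : t * u * t = u) : u * t = t * u := by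
  conv_lhs => rw [← h, mul_assoc, tt, mul_one]

theorem mul_mem_swap {Q : Subgroup G} {t u : G} (tt : t * t = 1) (uu : u * u = 1)
    (h : t * u ∈ Q) : u * t ∈ Q := by
  simpa [inv_eq_of_mul_eq_one_right tt, inv_eq_of_mul_eq_one_right uu] using inv_mem h

theorem Pr.exists_nc {z t : G} (ht : Pr z t) :
    ∃ s, (∃ g, g * z = z * g ∧ g * t * g⁻¹ = s) ∧ t * s ≠ s * t := by
  by_contra n
  push Not at n
  let S : Set G := {s | ∃ g, g * z = z * g ∧ g * t * g⁻¹ = s}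
  refine ht.t_not (le_O2C (D := closure S) (isPGroup_closure_of_commute ?_ ?_) ?_ ?_
    (subset_closure ⟨1, by simp, by simp⟩))
  · rintro _ ⟨g, -, rfl⟩
    rw [conj_mul, ht.tt, mul_one, mul_inv_cancel]
  · rintro _ ⟨g, hg, rfl⟩ _ ⟨k, hk, rfl⟩
    have := (comm_conj_iff g _ _).2 (n _ ⟨g⁻¹ * k, comm_mul_left (comm_inv_left hg) hk, rfl⟩)
    simpa [mul_assoc, Commute, SemiconjBy] using this
  · refine fun d hd => mem_cent.1 ((closure_le _).2 ?_ hd)
    rintro _ ⟨g, hg, rfl⟩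
    exact mem_cent.2 (ht.conj_right hg).comm
  · refine fun c hc d hd => conj_mem_closure ?_ hd
    rintro _ ⟨g, hg, rfl⟩
    exact ⟨c * g, comm_mul_left hc hg, by group⟩

theorem cmv_dd_prod {Q S : Subgroup G} {z e w : G} (h : XS Q z) (hS : S ≤ Q) (hw : w ∈ Q)
    (l : List G) (hl : ∀ p ∈ l, dd p e ∈ S ∧ cmv (dd p e) w = 1 ∧ ∀ x ∈ S, p * x = x * p) :
    dd l.prod e ∈ S ∧ cmv (dd l.prod e) w = l.length := by
  induction l with
  | nil => simp [dd, cmv_one_left]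
  | cons a l ih =>
    obtain ⟨h1, h2⟩ := ih fun p hp => hl p (by simp [hp])
    obtain ⟨h3, h4, h5⟩ := hl a (by simp)
    rw [List.prod_cons, dd_mul_left, conj_eq_of_comm (h5 _ h1),
      cmv_mul_left h (hS h1) (hS h3) hw, h2, h4]
    exact ⟨mul_mem h1 h3, by simp⟩

namespace AT

variable {z t s e a d p q : G} (h : AT z)
include h

theorem of_isConj (hd : IsConj z d) : AT d := by
  refine ⟨h.ws.of_isConj hd, fun t ht => ?_⟩
  obtain ⟨g, rfl⟩ := isConj_iff.1 hd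
  simpa [mul_assoc] using
    (h.t2 (g⁻¹ * t * g) (by simpa [mul_assoc] using ht.map_conj g⁻¹)).map_conj g

theorem mk2 (hp : IsConj z p) (hq : IsConj z q) (n : q ≠ p) (c : q * p = p * q) : T2 p q :=
  (h.of_isConj hp).t2 q ⟨h.ws.of_isConj hp, hp.symm.trans hq, n, c⟩

theorem mk1 (hq : IsConj z q) (n : q ≠ z) (c : q * z = z * q) : T2 z q :=
  h.mk2 (IsConj.refl z) hq n c

variable [Finite G]

theorem disj (ht : T2 z t) (hs : T2 z s) (h1 : e ∈ O2C z) (h2 : e ∈ O2C t) (h3 : e ≠ 1)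
    (a2 : a ∈ O2C s) (ea : Eqv z e a) : t * s ∈ O2C z := by
  have X := ht.xs
  obtain ⟨u, hu, u1, u2⟩ : ∃ u ∈ Ln z s, u ≠ z ∧ e * z ∈ O2C u := by
    rcases ea with rfl | rfl
    · obtain ⟨x, hx, c⟩ := X.exists_conj_eq h1 h3 (ht.E_ne_z h2)
      have k := hs.conj_right (X.z_comm x hx)
      refine ⟨_, hs.mem_Ln_of k ?_, k.ne, c ▸ conj_mem_O2C_conj x a2⟩
      simpa [mul_assoc] using mul_mem (hs.sa.conj_mem hx) (inv_mem hx)
    · exact ⟨s, right_mem_Ln _ _, hs.ne, by rwa [X.mul_z_z]⟩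
  have hu' := hs.t2_of_mem hu u1
  suffices t * u ∈ O2C z by
    have k := mul_mem this (inv_mem (hs.mul_mem_of hu u1))
    rwa [mul_inv_rev, mul_assoc, mul_inv_cancel_left, inv_eq_of_mul_eq_one_right hs.tt] at k
  by_cases n : u = t
  · rw [n, ht.tt]; exact one_mem _
  refine ht.triangle hu' (h.mk2 ht.conj hu'.conj n ?_) h1 h2 h3 u2
  have ez := mul_mem h1 X.z_mem
  have ez1 : e * z ≠ 1 := fun c => ht.z_not ((mul_mem_cancel_left h2).1 (c ▸ one_mem _))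
  have et := ht.E_t h2
  have eu : e * u = u * e := by
    have := hu'.E_t u2
    rwa [mul_assoc, ← hu'.comm, ← mul_assoc, ← mul_assoc, mul_left_inj] at this
  -- a general step
  have key : ∀ {t u a b : G}, T2 z t → T2 z u → a ∈ O2C z → a ∈ O2C t → a ≠ 1 → b ∈ O2C u →
      b ≠ 1 → Eqv z b a → b * t = t * b → t * u * t = u ∨ t * u * t = b * z * u := by
    intro t u a b ht hu a1 a2 a3 b2 b3 ba bt
    have b1 := mem_of_eqv X a1 ba
    have k := hu.conj_right ht.comm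
    have k1 : b ∈ O2C (t * u * t⁻¹) := conj_eq_of_comm bt.symm ▸ conj_mem_O2C_conj t b2
    obtain ⟨c, c1, c2, c3, c4⟩ := hu.exists_ne b
    have k2 := conj_mem_O2C_conj t c2
    rw [show t * u * t = t * u * t⁻¹ by rw [inv_eq_of_mul_eq_one_right ht.tt]]
    refine hu.eq_or (hu.mem_Ln_of k ?_) k.ne b1 b2 b3 k1
    by_cases n : c * t = t * c
    · exact hu.same_line k b1 b2 c1 c2 b3 c3 c4.symm k1 (conj_eq_of_comm n.symm ▸ k2)
        (Or.inl rfl) (Or.inl rfl)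
    have ca : c * a = a * c := (eqv_comm_iff X c1 ba).1 (hu.E_A b1 b2 c1 (hu.E_t c2)).symm |>.symm
    have k3 := (ht.uu_of_r2 ht.r1 a1 a2 a3 c1 ca).resolve_left fun e => n ((uu_eq_one_iff ht.tt).1 e)
    refine hu.same_line k b1 b2 (mul_mem c1 b1) (mul_mem c2 b2) b3
      (mul_ne_one_of_ne (hu.E_sq b1 b2) c4) (by simpa using c3) k1 k2 (Or.inl rfl) ?_
    have k4 : t * c * t⁻¹ = c * (a * z) := by
      rw [← k3, uu, inv_eq_of_mul_eq_one_right ht.tt, inv_eq_of_mul_eq_one_right (hu.E_sq c1 c2),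
        ← mul_assoc, ← mul_assoc, ← mul_assoc, hu.E_sq c1 c2, one_mul]
    rw [k4]
    exact ((eqv_mul_z z a).trans ht.zz (ba.symm ht.zz)).mul_left c
  rcases key ht hu' h1 h2 h3 u2 ez1 (eqv_mul_z z e)
    (comm_mul_left et ht.comm.symm) with k1 | k1
  · exact comm_of_sw ht.tt k1
  rcases key hu' ht ez u2 ez1 h2 h3 ((eqv_mul_z z e).symm ht.zz) eu with k2 | k2
  · exact (comm_of_sw hu'.tt k2).symm
  rw [X.mul_z_z] at k1
  have k3 : t * u * t * u * (u * t * u * t) = 1 := by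
    simp [mul_assoc, ← mul_assoc u u, ← mul_assoc t t, ht.tt, hu'.tt]
  rw [k1, k2, mul_assoc e u, mul_assoc _ t, hu'.tt, ht.tt, mul_one, mul_one, ← mul_assoc,
    ht.E_sq h1 h2, one_mul] at k3
  exact absurd k3 X.z_ne

theorem E_comm (ht : T2 z t) (hs : T2 z s) (c : t * s = s * t) (h1 : e ∈ O2C z)
    (h2 : e ∈ O2C t) : e * s = s * e := by
  by_contra n
  obtain ⟨a, a1, a2, a3⟩ := hs.uu_eqv h1
  have k : uu s e ∈ O2C t := by
    have := mul_mem h2 (conj_mem_O2C (inv_mem h2) c.symm)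
    rwa [inv_eq_of_mul_eq_one_right hs.tt, ← mul_assoc, ← mul_assoc] at this
  exact n (ht.E_comm_pt h1 h2 (ht.mem_Ln_of hs (h.disj ht hs (hs.sa.uu_mem h1) k
    (fun e => n ((uu_eq_one_iff hs.tt).1 e)) a2 a3)))

theorem perp (ht : T2 z t) (hs : T2 z s) (h1 : e ∈ O2C z) (h2 : e ∈ O2C t) (h3 : e ≠ 1)
    (c : e * s = s * e) : t * s = s * t := by
  by_cases n : t * s ∈ O2C z
  · exact ht.comm_of_mem (right_mem_Ln _ _) (ht.mem_Ln_of hs n)
  have key : ∀ {t s e : G}, T2 z t → T2 z s → e ∈ O2C z → e ∈ O2C t → e ≠ 1 → e * s = s * e →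
      t * (s * t * s⁻¹) ∈ O2C z ∧ (t * s = s * t ∨ s * t * s * t = e * z) := by
    intro t s e ht hs h1 h2 h3 c
    have k := ht.conj_right hs.comm
    have k1 : e ∈ O2C (s * t * s⁻¹) := conj_eq_of_comm c.symm ▸ conj_mem_O2C_conj s h2
    have k2 := h.disj ht k h1 h2 h3 k1 (Or.inl rfl)
    refine ⟨k2, (ht.eq_or (ht.mem_Ln_of k k2) k.ne h1 h2 h3 k1).imp
      (fun c => (comm_of_conj_eq c).symm) fun c => ?_⟩
    rw [inv_eq_of_mul_eq_one_right hs.tt] at c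
    rw [c, mul_assoc, ht.tt, mul_one]
  obtain ⟨k1, k2 | k2⟩ := key ht hs h1 h2 h3 c
  · exact k2
  have k := ht.conj_right hs.comm
  have k3 : ∀ a ∈ O2C z, a ∈ O2C t → a * s = s * a := fun a a1 a2 => by
    by_contra n'
    obtain ⟨b, b1, b2, b3, b4, -⟩ := hs.uu_form a1 n'
    obtain ⟨c, c1, c2, c3⟩ := ht.E_eqv k k1 (hs.lx.norm s hs.comm a a1) (conj_mem_O2C_conj s a2)
    have k4 : uu s a = a * (s * a * s⁻¹) := by
      rw [uu, inv_eq_of_mul_eq_one_right hs.tt, inv_eq_of_mul_eq_one_right (ht.E_sq a1 a2)]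
      simp only [mul_assoc]
    exact n (mul_mem_swap hs.tt ht.tt (h.disj hs ht b1 b2 b3 (mul_mem a2 c2)
      (((eqv_mul_z z b).symm ht.zz).trans ht.zz (b4 ▸ k4 ▸ c3.mul_left a))))
  obtain ⟨b, b1, b2, b3, -⟩ := hs.exists_ne 1
  obtain ⟨-, k4 | k4⟩ := key hs ht b1 b2 b3 (ht.comm_of_r2 ht.r1 b1 fun a a1 a2 =>
    (hs.E_A b1 b2 a1 (k3 a a1 a2)).symm)
  · exact k4.symm
  have k5 : s * t * s * t * (t * s * t * s) = 1 := by
    simp [mul_assoc, ← mul_assoc s s, ← mul_assoc t t, ht.tt, hs.tt]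
  rw [k2, k4, mul_assoc, ← mul_assoc z, ← ht.xs.z_comm b b1, ht.xs.mul_z_z] at k5
  refine absurd (h.disj ht hs h1 h2 h3 (inv_mem b2) (Or.inl (eq_inv_of_mul_eq_one_left k5))) n

theorem braid (ht : T2 z t) (hs : T2 z s) (n : t * s ≠ s * t) : t * s * t = s * t * s := by
  have key : ∀ e ∈ O2C z, e ∈ O2C t → e ≠ 1 → s * e * s⁻¹ ∈ O2C (t * s * t⁻¹) := by
    intro e h1 h2 h3
    obtain ⟨a, a1, a2, a3, a4, a5⟩ := hs.uu_form h1 fun c => n (h.perp ht hs h1 h2 h3 c)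
    have k := (ht.uu_of_r2 ht.r1 h1 h2 h3 a1 a5.symm).resolve_left fun c =>
      n (h.perp hs ht a1 a2 a3 ((uu_eq_one_iff ht.tt).1 c)).symm
    have k1 : ∀ {t x : G}, t * t = 1 → x * x = 1 → t * x * t⁻¹ = x * uu t x := fun tt xx => by
      rw [uu, inv_eq_of_mul_eq_one_right tt, inv_eq_of_mul_eq_one_right xx, ← mul_assoc,
        ← mul_assoc, ← mul_assoc, xx, one_mul]
    have := conj_mem_O2C_conj t a2
    rwa [k1 ht.tt (hs.E_sq a1 a2), k, ← mul_assoc, ← a5, mul_assoc e, ← a4,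
      ← k1 hs.tt (ht.E_sq h1 h2)] at this
  obtain ⟨a, a1, a2, b, b1, b2, n1, n2, n3⟩ := ht.e2
  have := (ht.conj_right hs.comm).eq_of_two (hs.conj_right ht.comm) (hs.lx.norm s hs.comm a a1)
    (conj_mem_O2C_conj s a2) (hs.lx.norm s hs.comm b b1) (conj_mem_O2C_conj s b2)
    (by simpa using n1) (by simpa using n2) (by simpa using n3) (key a a1 a2 n1) (key b b1 b2 n2)
  rwa [inv_eq_of_mul_eq_one_right ht.tt, inv_eq_of_mul_eq_one_right hs.tt] at this

theorem comm_line (ht : T2 z t) (hd : IsConj z d) (c1 : d * z = z * d) (c2 : d * t = t * d)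
    (hp : p ∈ Ln z t) : d * p = p * d := by
  by_cases n : d = z
  · exact n ▸ ht.comm_of_mem (left_mem_Ln _ _) hp
  rcases hp with rfl | rfl | ⟨e, h1, h2, -, rfl⟩
  exacts [c1, c2, comm_mul_right (comm_mul_right
    (h.E_comm ht (h.mk1 hd n c1) c2.symm h1 h2).symm c1) c2]

/-- a point commuting with two points of a line commutes with the line -/
theorem comm_line' {a b : G} (ha : IsConj z a) (hab : T2 a b) (hd : IsConj z d) (hp : p ∈ Ln a b)
    (hq : q ∈ Ln a b) (n : q ≠ p) (c1 : d * p = p * d) (c2 : d * q = q * d) {r : G}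
    (hr : r ∈ Ln a b) : d * r = r * d := by
  have k := ha.trans (hab.conj_of_mem hp)
  obtain ⟨k1, k2⟩ := hab.pair hp hq n
  exact (h.of_isConj k).comm_line k1 (k.symm.trans hd) c1 c2 (k2 ▸ hr)

theorem parity {a b : G} (ha : IsConj z a) (hab : T2 a b) (c1 : a * z = z * a) (c2 : b * z = z * b)
    (hd : IsConj z d) (c3 : d * z = z * d) : ∃ p ∈ Ln a b, d * p = p * d := by
  by_contra n
  push Not at n
  have k1 : ∀ p ∈ Ln a b, z * p = p * z := fun p hp =>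
    (h.of_isConj ha).comm_line hab ha.symm c1.symm c2.symm hp
  have k2 : ∀ p ∈ Ln a b, T2 z p := fun p hp => h.mk1 (ha.trans (hab.conj_of_mem hp))
    (fun c => n p hp (c ▸ c3)) (k1 p hp).symm
  have hd' := h.mk1 hd (fun c => n a (left_mem_Ln _ _) (c ▸ c1.symm)) c3
  obtain ⟨e, e1, e2, w, w1, w2, n1, n2, n3⟩ := hd'.e2
  obtain ⟨p, q, r, -, k3, k4⟩ := hab.five
  have := (cmv_dd_prod (S := O2C z ⊓ centralizer (Ln a b)) (e := e) hd'.xs inf_le_left w1
    [a, b, p, q, r] fun u hu => ?_).2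
  · simp only [List.prod_cons, List.prod_nil, mul_one, ← mul_assoc, k3] at this
    rw [show dd 1 e = 1 by simp [dd], cmv_one_left] at this
    exact absurd this (by simp only [List.length_cons, List.length_nil]; decide)
  replace hu := (k4 u).2 hu
  have hu' := k2 u hu
  obtain ⟨c, c1, c2, c3, c4, c5⟩ := hu'.uu_form e1 fun c => n u hu (h.perp hd' hu' e1 e2 n1 c)
  have k5 : Eqv z (dd u e) c :=
    ((uu_eqv_dd hu'.sa e1).symm hd'.zz).trans hd'.zz (c4 ▸ eqv_mul_z z c)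
  refine ⟨⟨dd_mem hd'.lx hu'.comm e1, fun v hv => (comm_of_eqv (k1 v hv) k5 ?_).symm⟩, ?_,
    fun x hx => hx.2 u hu⟩
  · exact h.E_comm hu' (k2 v hv) (hab.comm_of_mem hu hv) c1 c2
  · rw [cmv_eqv hd'.xs w1 k5, cmv_eq_one]
    exact fun c6 => n u hu (h.perp hu' hd' c1 c2 c3
      (hd'.comm_of_two e1 e2 w1 w2 n1 n2 n3 c1 c5.symm c6)).symm

theorem uf_loc (hp : T2 z p) (hq : T2 z q) (c : p * q = q * p) (ht : T2 z t)
    (k : p * q * t ∈ O2C z) : False := by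
  have pq := comm_mul_left hp.comm hq.comm
  obtain ⟨a, a1, a2, a3, b, b2, ab⟩ := hp.meet hq ht fun x hx => by
    have e : t = (p * q)⁻¹ * (p * q * t) := by group
    have k1 : Eqv z (dd t x) (dd (p * q)⁻¹ x) := by
      rw [e, dd_mul_left]
      simpa using ((dd_of_mem hp.lx k hx).conj (comm_inv_left pq)).mul_right
        (hp.xs.z_comm _ (dd_mem hp.lx (comm_inv_left pq) hx))
    rw [mul_inv_rev, inv_eq_of_mul_eq_one_right hp.tt, inv_eq_of_mul_eq_one_right hq.tt, ← c] at k1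
    obtain ⟨e, e1, e2, e3⟩ := hq.uu_eqv hx
    have k2 := ((uu_eqv_dd hq.sa hx).symm hp.zz).trans hp.zz e3
    have k3 := dd_mul_eqv_of hp.lx hp.comm hq.comm hx (Or.inl (by
      rw [dd_eqv hp.comm (hp.xs.z_comm e e1) k2, dd_eq_one, h.E_comm hq hp c.symm e1 e2]))
    exact (uu_eqv_dd ht.sa hx).trans hp.zz (k1.trans hp.zz (k3.trans hp.zz (eqv_mul hp.xs
      (hq.sa.uu_mem hx) ((uu_eqv_dd hp.sa hx).symm hp.zz) ((uu_eqv_dd hq.sa hx).symm hp.zz))))
  exact ht.t_not ((mul_mem_cancel_left (h.disj hp hq a1 a2 a3 b2 ab)).1 k)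

theorem exists_nc (ht : T2 z t) : ∃ s, T2 z s ∧ t * s ≠ s * t :=
  (ht.toPr.exists_nc).imp fun _ ⟨⟨g, hg, e⟩, n⟩ => ⟨e ▸ ht.conj_right hg, n⟩

theorem not_swap0 (ht : T2 z t) (hd : IsConj z d) (c : d * z * d⁻¹ = t) : False := by
  have dd := h.ws.sq hd
  obtain ⟨p, hp, p1, p2, c1⟩ := ht.swap_fix dd c
  have k := ht.conj_of_mem hp
  have c2 := ht.comm_of_mem (left_mem_Ln _ _) hp
  have n : z * d ≠ d * z := fun e => ht.ne (c ▸ conj_eq_of_comm e.symm)
  have := (h.of_isConj k).braid (h.mk2 k (IsConj.refl z) p1.symm c2)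
    (h.mk2 k hd (fun e => n (e ▸ c2)) c1) n
  rw [inv_eq_of_mul_eq_one_right dd, ← this] at c
  refine n ?_
  have c3 : d = z * t * z := by
    rw [← c]; simp [mul_assoc, ← mul_assoc z z, ht.zz]
  rw [← ht.comm, mul_assoc, ht.zz, mul_one] at c3
  rw [c3, ht.comm]

end AT

end Cfsg.Agent.XW
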