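import Mathlib
import Cfsg.Agent.XSC.WcC
import Cfsg.Agent.XSC.Orth8

/-! Involutions of type `a₄` on an eight-dimensional symplectic space over `𝔽₂`. -/

set_option autoImplicit false

namespace Cfsg.Agent.XW

open Cfsg.Agent.TT Cfsg.Agent.XSC.WC Cfsg.Agent.XSC.O8 Module

variable {V : Type} [AddCommGroup V] [Module (ZMod 2) V]
  {B : V →ₗ[ZMod 2] V →ₗ[ZMod 2] ZMod 2} {N M M' : V →ₗ[ZMod 2] V}

/-- a nilpotent map of type `a₄` -/
structure A4 (B : V →ₗ[ZMod 2] V →ₗ[ZMod 2] ZMod 2) (N : V →ₗ[ZMod 2] V) : Prop where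
  comm : ∀ v w, B v w = B w v
  self : ∀ v, B v v = 0
  nd : ∀ v, (∀ w, B v w = 0) → v = 0
  rk : finrank (ZMod 2) V = 8
  sq : ∀ v, N (N v) = 0
  adj : ∀ v w, B (N v) w = B v (N w)
  alt : ∀ v, B (N v) v = 0
  ker : ∀ v, N v = 0 → ∃ w, v = N w

/-- an element of the unipotent radical -/
structure RY (B : V →ₗ[ZMod 2] V →ₗ[ZMod 2] ZMod 2) (N M : V →ₗ[ZMod 2] V) : Prop where
  kill : ∀ v, M (N v) = 0
  alt : ∀ v, B (M v) v = 0

/-- a symplectic basis -/
structure SB4 (B : V →ₗ[ZMod 2] V →ₗ[ZMod 2] ZMod 2) (N : V →ₗ[ZMod 2] V) (x1 x2 x3 x4 : V) :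
    Prop where
  b12 : B (N x1) x2 = 1
  b34 : B (N x3) x4 = 1
  b13 : B (N x1) x3 = 0
  b14 : B (N x1) x4 = 0
  b23 : B (N x2) x3 = 0
  b24 : B (N x2) x4 = 0

/-- the Siegel map -/
def sg (B : V →ₗ[ZMod 2] V →ₗ[ZMod 2] ZMod 2) (a b : V) : V →ₗ[ZMod 2] V :=
  (B.flip a).smulRight b + (B.flip b).smulRight a

theorem sg_apply (a b v : V) : sg B a b v = B v a • b + B v b • a := rfl

theorem symm_of_alt (h : ∀ v, B (M v) v = 0) (v w : V) : B (M v) w = B (M w) v := by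
  have := h (v + w)
  simp only [map_add, LinearMap.add_apply, h, zero_add, add_zero] at this
  rw [add_eq_zero_iff_eq_neg, ZMod.neg_eq_self_mod_two] at this
  exact this.symm

theorem RY.add (h : RY B N M) (h' : RY B N M') : RY B N (M + M') :=
  ⟨fun v => by simp [h.kill, h'.kill], fun v => by simp [h.alt, h'.alt]⟩

/-- the coordinates of an alternating form -/
def omv (B : V →ₗ[ZMod 2] V →ₗ[ZMod 2] ZMod 2) (x1 x2 x3 x4 : V) (M : V →ₗ[ZMod 2] V) :
    Fin 6 → ZMod 2 :=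
  ![B (M x1) x2, B (M x1) x3, B (M x1) x4, B (M x2) x3, B (M x2) x4, B (M x3) x4]

theorem omv_add (x1 x2 x3 x4 : V) :
    omv B x1 x2 x3 x4 (M + M') = omv B x1 x2 x3 x4 M + omv B x1 x2 x3 x4 M' := by
  ext i; fin_cases i <;> simp [omv]

theorem pf_add (v w : Fin 6 → ZMod 2) : pf (v + w) = pf v + pf w + pb v w := by
  simp only [pf, pb, Pi.add_apply]; ring

theorem pb_comm (v w : Fin 6 → ZMod 2) : pb v w = pb w v := by
  simp only [pb]; ring

theorem pf_zero_of : ∀ a b c d e f p q r t : ZMod 2, (p = 1 ∨ q = 1 ∨ r = 1 ∨ t = 1) →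
    q * a + r * b + t * c = 0 → p * a + r * d + t * e = 0 → p * b + q * d + t * f = 0 →
    p * c + q * e + r * f = 0 → a * f + b * e + c * d = 0 := by decide +kernel

namespace A4

variable (h : A4 B N) {x1 x2 x3 x4 v w : V}
include h

theorem fin : FiniteDimensional (ZMod 2) V := finite_of_finrank_pos (by rw [h.rk]; norm_num)

theorem ry : RY B N N := ⟨h.sq, h.alt⟩

theorem symm (v w : V) : B (N v) w = B (N w) v := symm_of_alt h.alt v w

theorem NN (v w : V) : B (N v) (N w) = 0 := by rw [← h.adj, h.sq, map_zero, LinearMap.zero_apply]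

theorem eq_zero (e : ∀ w, B (N w) v = 0) : N v = 0 := h.nd _ fun w => by rw [h.symm, e]

theorem B_ker (e : N v = 0) (w : V) : B (N w) v = 0 := by rw [h.adj, e, map_zero]

theorem exists_one (e : v ≠ 0) : ∃ w, B v w = 1 := by
  by_contra n
  push Not at n
  exact e (h.nd v fun w => (zmod2_cases _).resolve_right (n w))

theorem mem_span {b : V} (e : ∀ w, B b w = 0 → B v w = 0) : v = 0 ∨ v = b := by
  by_cases n : b = 0
  · exact Or.inl (h.nd v fun w => e w (by simp [n]))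
  obtain ⟨u, hu⟩ := h.exists_one n
  have : v + B v u • b = 0 := h.nd _ fun w => by
    have := e (w + B b w • u) (by simp [hu, zmod2_add_self])
    simp only [map_add, map_smul, LinearMap.add_apply, LinearMap.smul_apply, smul_eq_mul] at *
    rw [← this, mul_comm]
  rw [add_eq_zero_iff'] at this
  rcases zmod2_cases (B v u) with c | c <;> simp [this ▸ c, c] at this ⊢ <;> simp [this]

theorem rank : finrank (ZMod 2) (LinearMap.ker N) = 4 := by
  have := h.fin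
  have h1 : LinearMap.ker N = LinearMap.range N := le_antisymm
    (fun v hv => let ⟨w, e⟩ := h.ker v hv; ⟨w, e.symm⟩) (by rintro _ ⟨w, rfl⟩; exact h.sq w)
  have h2 := LinearMap.finrank_range_add_finrank_ker N
  rw [← h1, h.rk] at h2
  omega

theorem exists_ker3 (f g k : V →ₗ[ZMod 2] ZMod 2) : ∃ x, N x ≠ 0 ∧ f x = 0 ∧ g x = 0 ∧ k x = 0 := by
  have := h.fin
  by_contra n
  have h1 : LinearMap.ker (f.prod (g.prod k)) ≤ LinearMap.ker N := fun x hx => by
    by_contra c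
    exact n ⟨x, c, congrArg Prod.fst hx, congrArg (·.2.1) hx, congrArg (·.2.2) hx⟩
  have h2 := LinearMap.finrank_range_add_finrank_ker (f.prod (g.prod k))
  have h3 := Submodule.finrank_le (LinearMap.range (f.prod (g.prod k)))
  have h4 := Submodule.finrank_mono h1
  rw [h.rank] at h4
  simp only [finrank_prod, finrank_self] at h3
  rw [h.rk] at h2
  omega

theorem span (s : SB4 B N x1 x2 x3 x4) (e1 : B (N x1) v = 0) (e2 : B (N x2) v = 0)
    (e3 : B (N x3) v = 0) (e4 : B (N x4) v = 0) : N v = 0 := by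
  have := h.fin
  let φ := (B (N x1)).prod ((B (N x2)).prod ((B (N x3)).prod (B (N x4))))
  have h1 : LinearMap.range φ = ⊤ := LinearMap.range_eq_top.2 fun ⟨a, b, c, d⟩ =>
    ⟨a • x2 + b • x1 + c • x4 + d • x3, by
      simp [φ, s.b12, s.b34, s.b13, s.b14, s.b23, s.b24, h.alt, h.symm x2 x1, h.symm x3 x1,
        h.symm x4 x1, h.symm x3 x2, h.symm x4 x2, h.symm x4 x3]⟩
  have h2 := LinearMap.finrank_range_add_finrank_ker φ
  rw [h1, finrank_top] at h2
  simp only [finrank_prod, finrank_self] at h2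
  have h3 : LinearMap.ker N = LinearMap.ker φ := Submodule.eq_of_le_of_finrank_le
    (fun y hy => by simp [φ, h.B_ker hy]) (by rw [h.rank]; have := h.rk; omega)
  exact h3.ge (show v ∈ LinearMap.ker φ by simp [φ, e1, e2, e3, e4])

theorem exp (s : SB4 B N x1 x2 x3 x4) (v : V) : ∃ w, v = B (N x2) v • x1 + B (N x1) v • x2 +
    B (N x4) v • x3 + B (N x3) v • x4 + N w := by
  refine (h.ker (v + (B (N x2) v • x1 + B (N x1) v • x2 + B (N x4) v • x3 +
    B (N x3) v • x4)) (h.span s ?_ ?_ ?_ ?_)).imp fun w hw => by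
      rw [← hw, add_comm v, ← add_assoc, mod_two_add_self, zero_add]
  all_goals simp [s.b12, s.b34, s.b13, s.b14, s.b23, s.b24, h.alt, h.symm x2 x1, h.symm x3 x1,
    h.symm x4 x1, h.symm x3 x2, h.symm x4 x2, h.symm x4 x3, zmod2_add_self]

theorem exists_sb' (e : B (N x1) x2 = 1) : ∃ x3 x4, SB4 B N x1 x2 x3 x4 := by
  obtain ⟨x3, n, b13, b23, -⟩ := h.exists_ker3 (B (N x1)) (B (N x2)) 0
  obtain ⟨w, hw⟩ := h.exists_one n
  refine ⟨x3, w + B (N x2) w • x1 + B (N x1) w • x2, e, ?_, b13, ?_, b23, ?_⟩ <;>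
  simp [e, hw, b13, b23, h.alt, h.symm x2 x1, h.symm x3 x1, h.symm x3 x2, zmod2_add_self]

theorem exists_sb (n : N x1 ≠ 0) : ∃ x2 x3 x4, SB4 B N x1 x2 x3 x4 :=
  let ⟨x2, e⟩ := h.exists_one n; ⟨x2, h.exists_sb' e⟩

theorem exists_ne : ∃ x, N x ≠ 0 := let ⟨x, n, _⟩ := h.exists_ker3 0 0 0; ⟨x, n⟩

theorem ry_adj (r : RY B N M) (v w : V) : B (M v) w = B v (M w) := by
  rw [symm_of_alt r.alt, h.comm]

theorem ry_B (r : RY B N M) (v w : V) : B (M v) (N w) = 0 := by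
  rw [h.ry_adj r, r.kill, map_zero]

theorem ry_N (r : RY B N M) (v : V) : N (M v) = 0 :=
  h.eq_zero fun w => by rw [h.comm, h.ry_B r]

theorem ry_zero (s : SB4 B N x1 x2 x3 x4) (r : RY B N M) (e1 : B (M v) x1 = 0)
    (e2 : B (M v) x2 = 0) (e3 : B (M v) x3 = 0) (e4 : B (M v) x4 = 0) : M v = 0 :=
  h.nd _ fun w => by
    obtain ⟨u, hu⟩ := h.exp s w
    rw [hu]
    simp [e1, e2, e3, e4, h.ry_B r]

theorem eq_zero_of_omv (s : SB4 B N x1 x2 x3 x4) (r : RY B N M) (e : omv B x1 x2 x3 x4 M = 0) :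
    M = 0 := by
  have e0 : B (M x1) x2 = 0 := congrFun e 0
  have e1 : B (M x1) x3 = 0 := congrFun e 1
  have e2 : B (M x1) x4 = 0 := congrFun e 2
  have e3 : B (M x2) x3 = 0 := congrFun e 3
  have e4 : B (M x2) x4 = 0 := congrFun e 4
  have e5 : B (M x3) x4 = 0 := congrFun e 5
  have c := symm_of_alt r.alt
  have k1 := h.ry_zero s r (r.alt x1) e0 e1 e2
  have k2 := h.ry_zero s r (c x1 x2 ▸ e0) (r.alt x2) e3 e4
  have k3 := h.ry_zero s r (c x1 x3 ▸ e1) (c x2 x3 ▸ e3) (r.alt x3) e5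
  have k4 := h.ry_zero s r (c x1 x4 ▸ e2) (c x2 x4 ▸ e4) (c x3 x4 ▸ e5) (r.alt x4)
  ext v
  obtain ⟨u, hu⟩ := h.exp s v
  rw [hu]
  simp [k1, k2, k3, k4, r.kill]

theorem eq_of_omv (s : SB4 B N x1 x2 x3 x4) (r : RY B N M) (r' : RY B N M')
    (e : omv B x1 x2 x3 x4 M = omv B x1 x2 x3 x4 M') : M = M' :=
  add_eq_zero_iff'.1 (h.eq_zero_of_omv s (r.add r') (by rw [omv_add, e, mod_two_add_self]))

theorem pf_zero (s : SB4 B N x1 x2 x3 x4) (r : RY B N M) (n : N v ≠ 0) (e : M v = 0) :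
    pf (omv B x1 x2 x3 x4 M) = 0 := by
  obtain ⟨u, hu⟩ := h.exp s v
  have c := symm_of_alt r.alt
  have k : ∀ x, B (M x) v = 0 := fun x => by rw [c, e, map_zero, LinearMap.zero_apply]
  have k1 := k x1
  have k2 := k x2
  have k3 := k x3
  have k4 := k x4
  rw [hu] at k1 k2 k3 k4
  simp only [map_add, map_smul, smul_eq_mul, r.alt, h.ry_B r, mul_zero, add_zero, zero_add,
    c x2 x1, c x3 x1, c x4 x1, c x3 x2, c x4 x2, c x4 x3] at k1 k2 k3 k4
  refine pf_zero_of _ _ _ _ _ _ _ _ _ _ ?_ k1 k2 k3 k4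
  by_contra m
  simp only [not_or, ← ne_eq] at m
  exact n (h.span s ((zmod2_cases _).resolve_right m.2.1) ((zmod2_cases _).resolve_right m.1)
    ((zmod2_cases _).resolve_right m.2.2.2) ((zmod2_cases _).resolve_right m.2.2.1))

theorem pf_one (s : SB4 B N x1 x2 x3 x4) (r : RY B N M) (n : ∀ v, M v = 0 → N v = 0) :
    pf (omv B x1 x2 x3 x4 M) = 1 := by
  refine (zmod2_cases _).resolve_left fun e => ?_
  obtain ⟨p, q, r', t, hne, e1, e2, e3, e4⟩ := pf_rad _ _ _ _ _ _ e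
  have c := symm_of_alt r.alt
  have k := n (p • x1 + q • x2 + r' • x3 + t • x4) (h.ry_zero s r
    (by simpa [r.alt, c x2 x1, c x3 x1, c x4 x1, omv] using e1)
    (by simpa [r.alt, c x3 x2, c x4 x2, omv] using e2)
    (by simpa [r.alt, c x4 x3, omv] using e3) (by simpa [r.alt, omv] using e4))
  have k1 := h.B_ker k x1
  have k2 := h.B_ker k x2
  have k3 := h.B_ker k x3
  have k4 := h.B_ker k x4
  simp [s.b12, s.b34, s.b13, s.b14, s.b23, s.b24, h.alt, h.symm x2 x1, h.symm x3 x1,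
    h.symm x4 x1, h.symm x3 x2, h.symm x4 x2, h.symm x4 x3] at k1 k2 k3 k4
  simp [k1, k2, k3, k4] at hne

theorem ry_sg (x y : V) : RY B N (sg B (N x) (N y)) :=
  ⟨fun v => by simp [sg_apply, h.NN], fun v => by
    simp [sg_apply, h.comm v, mul_comm, zmod2_add_self]⟩

theorem pb_sg (s : SB4 B N x1 x2 x3 x4) (x y : V) :
    pb (omv B x1 x2 x3 x4 (sg B (N x) (N y))) (omv B x1 x2 x3 x4 N) = B (N x) y := by
  obtain ⟨u, hu⟩ := h.exp s y
  conv_rhs => rw [hu]
  simp [pb, omv, sg_apply, s.b12, s.b34, s.b13, s.b14, s.b23, s.b24, h.sq, ← h.adj, h.symm x,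
    h.symm y]
  ring

end A4

end Cfsg.Agent.XW
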