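import Mathlib
import Cfsg.Agent.XW.H
import Cfsg.Agent.Class.Sp.Gen

/-! Recognition of the spin representation of `Sp₆(2)`. -/

set_option autoImplicit false

namespace Cfsg.Agent.XW

open Cfsg.Agent.TT Cfsg.Agent.XSC.WC Cfsg.Agent.XSC.O8 Module Cfsg.Agent.Class

variable {V : Type} [AddCommGroup V] [Module (ZMod 2) V] {Γ : Type*} [Group Γ]

/-- the nilpotent part -/
def nn (ρ : Γ →* End (ZMod 2) V) (T : Γ) : V →ₗ[ZMod 2] V := ρ T + 1

theorem rho_eq (ρ : Γ →* End (ZMod 2) V) (T : Γ) (v : V) : ρ T v = v + nn ρ T v := by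
  simp [nn, add_comm (ρ T v), ← add_assoc, mod_two_add_self]

theorem rho_inv (ρ : Γ →* End (ZMod 2) V) (g : Γ) (v : V) : ρ g (ρ g⁻¹ v) = v := by
  simp [← End.mul_apply, ← map_mul]

theorem nn_conj (ρ : Γ →* End (ZMod 2) V) (g T : Γ) (v : V) :
    nn ρ (g * T * g⁻¹) (ρ g v) = ρ g (nn ρ T v) := by
  simp [nn, ← End.mul_apply, ← map_mul]

/-- the configuration of the spin module -/
structure SpS (B : V →ₗ[ZMod 2] V →ₗ[ZMod 2] ZMod 2) (ρ : Γ →* End (ZMod 2) V) (D : Set Γ) :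
    Prop where
  inj : Function.Injective ρ
  a4 : ∀ T ∈ D, A4 B (nn ρ T)
  conj : ∀ T ∈ D, ∀ g, g * T * g⁻¹ ∈ D
  sie : ∀ T ∈ D, ∀ x y, B (nn ρ T x) y = 0 → ∃ S, nn ρ S = sg B (nn ρ T x) (nn ρ T y)
  pe : ∀ T ∈ D, ∀ U ∈ D, (∀ v, nn ρ U (nn ρ T v) = 0) → ∀ x, nn ρ T x ≠ 0 →
    nn ρ T x = nn ρ U x → T = U
  nc : ∀ T ∈ D, ∃ U ∈ D, T * U ≠ U * T
  ne : D.Nonempty

namespace SpS

variable {B : V →ₗ[ZMod 2] V →ₗ[ZMod 2] ZMod 2} {ρ : Γ →* End (ZMod 2) V} {D : Set Γ}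
  (h : SpS B ρ D) {T U S : Γ}
include h

theorem eq_of_nn (e : ∀ v, nn ρ T v = nn ρ U v) : T = U :=
  h.inj (LinearMap.ext fun v => by rw [rho_eq, rho_eq, e])

theorem inv_eq (e : ∀ v, nn ρ S (nn ρ S v) = 0) : S⁻¹ = S :=
  inv_eq_of_mul_eq_one_right (h.inj (LinearMap.ext fun v => by
    simp [rho_eq ρ S, e, add_assoc, mod_two_add_self]))

theorem nn_conj' (e : ∀ v, nn ρ S (nn ρ S v) = 0) (v : V) :
    nn ρ (S * T * S⁻¹) v = ρ S (nn ρ T (ρ S v)) := by
  rw [← nn_conj, ← End.mul_apply (ρ S), ← map_mul, mul_eq_one_iff_eq_inv.2 (h.inv_eq e).symm]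
  simp

theorem comm_iff : T * U = U * T ↔ ∀ v, nn ρ T (nn ρ U v) = nn ρ U (nn ρ T v) := by
  rw [← h.inj.eq_iff, map_mul, map_mul, LinearMap.ext_iff]
  refine forall_congr' fun v => ?_
  simp only [End.mul_apply, rho_eq, map_add]
  constructor <;> intro e
  · exact v2 (by linear_combination (norm := (match_scalars <;> decide)) e)
  · exact v2 (by linear_combination (norm := (match_scalars <;> decide)) e)

variable (hT : T ∈ D) (hU : U ∈ D)
include hT hU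

theorem star {b v x : V} (n : b ≠ 0) (e1 : nn ρ T b = 0) (e2 : nn ρ U b = 0) (hv : B v b = 0)
    (hx : B x b = 0) : B (nn ρ T x) (nn ρ U v) = 0 := by
  have a := h.a4 T hT
  have a' := h.a4 U hU
  obtain ⟨w, rfl⟩ := a'.ker b e2
  obtain ⟨S, hS⟩ := h.sie U hU v w (by rwa [a'.adj])
  have k := fun u => h.nn_conj' (T := T) (S := S) (fun u => by simp [hS, sg_apply, a'.NN]) u
  have k1 : ∀ u, B (nn ρ T u) (nn ρ U w) = 0 := fun u => a.B_ker e1 u
  have k2 : ∀ u, B u (nn ρ U w) = 0 → nn ρ (S * T * S⁻¹) u =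
      nn ρ T u + B (nn ρ T u) (nn ρ U v) • nn ρ U w := fun u hu => by
    simp [k, rho_eq, hS, sg_apply, k1, hu, e1]
  obtain ⟨y, y1, y2, y3, -⟩ := a.exists_ker3 (B.flip (nn ρ U w))
    ((B.flip (nn ρ U v)).comp (nn ρ T)) 0
  have := h.pe T hT _ (h.conj T hT S) (fun u => by simp [k2 _ (k1 u), a.sq]) y y1
    (by rw [k2 y y2, show B (nn ρ T y) (nn ρ U v) = 0 from y3]; simp)
  have k3 := k2 x hx
  rw [← this, left_eq_add, smul_eq_zero] at k3
  exact k3.resolve_right n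

theorem alt_of_meet {b : V} (n : b ≠ 0) (e1 : nn ρ T b = 0) (e2 : nn ρ U b = 0) (v : V) :
    B (nn ρ T (nn ρ U v)) v = 0 := by
  have a := h.a4 T hT
  have a' := h.a4 U hU
  obtain ⟨u, hu⟩ := a.exists_one n
  obtain ⟨w, w1, w2, w3, w4⟩ := a'.exists_ker3 (B b) ((B (nn ρ T u)).comp (nn ρ U))
    ((B u).comp (nn ρ U))
  have w5 : nn ρ T (nn ρ U w) = 0 := a.eq_zero fun x => by
    have := h.star hT hU n e1 e2 (a.comm b w ▸ w2) (x := x + B x b • u)
      (by simp [a.comm u b, hu, zmod2_add_self])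
    simpa [show B (nn ρ T u) (nn ρ U w) = 0 from w3] using this
  have k : ∀ c, c ≠ 0 → nn ρ T c = 0 → nn ρ U c = 0 → B v c = 0 → B (nn ρ T (nn ρ U v)) v = 0 :=
    fun c c1 c2 c3 c4 => by rw [a.symm, h.star hT hU c1 c2 c3 c4 c4]
  rcases zmod2_cases (B v b) with c | c
  · exact k b n e1 e2 c
  rcases zmod2_cases (B v (nn ρ U w)) with c' | c'
  · exact k _ w1 w5 (a'.sq w) c'
  refine k (b + nn ρ U w) (fun e => ?_) (by simp [e1, w5]) (by simp [e2, a'.sq])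
    (by simp [c, c', zmod2_add_self])
  rw [add_eq_zero_iff'] at e
  rw [e, a.comm, show B u (nn ρ U w) = 0 from w4] at hu
  exact absurd hu (by decide)

theorem comm_of_meet {b : V} (n : b ≠ 0) (e1 : nn ρ T b = 0) (e2 : nn ρ U b = 0) :
    T * U = U * T := by
  have a := h.a4 T hT
  refine h.comm_iff.2 fun v => add_eq_zero_iff'.1 (a.nd _ fun w => ?_)
  have := symm_of_alt (M := (nn ρ T).comp (nn ρ U)) (h.alt_of_meet hT hU n e1 e2) v w
  simp only [LinearMap.comp_apply] at this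
  rw [map_add, LinearMap.add_apply, this, (h.a4 U hU).adj, a.symm, zmod2_add_self]

theorem opp (n : ∀ b, nn ρ T b = 0 → nn ρ U b = 0 → b = 0) (x : V) :
    nn ρ T (nn ρ U (nn ρ T x)) = nn ρ T x := by
  have a := h.a4 T hT
  have a' := h.a4 U hU
  suffices k : ∀ x y, B (nn ρ T x) y = 0 → B (nn ρ U (nn ρ T x)) (nn ρ T y) = 0 by
    by_cases c : nn ρ T x = 0
    · simp [c]
    refine (a.mem_span fun w hw => by rw [a.adj, k x w hw]).resolve_left fun e => c ?_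
    exact n _ (a.sq x) (n _ e (a'.sq _))
  intro x y e
  refine (zmod2_cases _).resolve_right fun c => ?_
  obtain ⟨S, hS⟩ := h.sie T hT x y e
  have k := fun u => h.nn_conj' (T := U) (S := S) (fun u => by simp [hS, sg_apply, a.NN]) u
  have k' := fun u => h.nn_conj' (T := T) (S := U) a'.sq u
  have c' : B (nn ρ U (nn ρ T y)) (nn ρ T x) = 1 := by rwa [a'.symm]
  have k1 := h.comm_of_meet (h.conj T hT U) (h.conj U hU S) (b := nn ρ T y + nn ρ U (nn ρ T y))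
    (fun e => by
      have := congrArg (B.flip (nn ρ T x)) e
      simp [a.NN, c'] at this)
    (by simp [k', rho_eq, a'.sq, add_assoc, mod_two_add_self, a.sq])
    (by simp [k, rho_eq, hS, sg_apply, a.NN, c', a'.alt, a'.sq, mod_two_add_self, add_assoc])
  have k2 := h.comm_iff.1 k1 (nn ρ T y)
  have k3 : ∀ u, ρ S u = 0 → u = 0 := fun u hu => by
    simpa [← End.mul_apply, ← map_mul] using congrArg (ρ S⁻¹) hu
  have k4 : nn ρ (S * U * S⁻¹) (nn ρ T y) = nn ρ T y + nn ρ U (nn ρ T y) := by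
    simp [k, rho_eq, hS, sg_apply, a.NN, c', a'.alt, add_comm]
  rw [k4, k', k', k] at k2
  simp only [rho_eq ρ U, map_add, a'.sq, a.sq, add_assoc, mod_two_add_self, map_zero, add_zero,
    zero_add] at k2
  generalize hr : nn ρ T (nn ρ U (nn ρ T y)) = r at k2
  have k5 : ∀ u, B r (nn ρ T u) = 0 := fun u => by rw [← hr, a.NN]
  have k6 := n (r + sg B (nn ρ T x) (nn ρ T y) (nn ρ U r))
    (by rw [← hr]; simp [sg_apply, a.sq]) (k3 _ (by
      rw [k2, rho_eq ρ S r, rho_eq ρ S (nn ρ U r), hS]; simp [sg_apply, k5, a'.sq]))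
  rw [add_eq_zero_iff', sg_apply] at k6
  have k7 : B r (nn ρ U (nn ρ T y)) = 0 := by rw [← hr, a.alt]
  have k8 : B r (nn ρ U (nn ρ T y)) = B (nn ρ U r) (nn ρ T y) := by
    conv_lhs => rw [k6]
    simp [← a'.adj, a'.alt, c]
  rw [← k8, k7, zero_smul, add_zero] at k6
  rcases zmod2_cases (B (nn ρ U r) (nn ρ T x)) with c1 | c1 <;> rw [c1] at k6
  · rw [n _ (hr.trans (k6.trans (zero_smul _ _))) (a'.sq _)] at c'
    simp at c'
  · rw [← a.adj, hr, k6, one_smul, a.symm, e] at c'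
    exact absurd c' (by decide)

theorem anti (n : T * U ≠ U * T) (v : V) : nn ρ T (nn ρ U v) + nn ρ U (nn ρ T v) = v := by
  have k : ∀ b, nn ρ T b = 0 → nn ρ U b = 0 → b = 0 := fun b e1 e2 => by
    by_contra c; exact n (h.comm_of_meet hT hU c e1 e2)
  exact add_eq_zero_iff'.1 (k _ (by simp [(h.a4 T hT).sq, h.opp hT hU k, mod_two_add_self])
    (by simp [(h.a4 U hU).sq, h.opp hU hT fun b e1 e2 => k b e2 e1, mod_two_add_self]))

theorem uniq (e : ∀ v, nn ρ U (nn ρ T v) = 0) : T = U := by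
  obtain ⟨W, hW, n⟩ := h.nc T hT
  have a := h.a4 T hT
  have e' : ∀ v, nn ρ T (nn ρ U v) = 0 := fun v => a.eq_zero fun w => by
    rw [← (h.a4 U hU).adj, e, map_zero, LinearMap.zero_apply]
  have n' : U * W ≠ W * U := fun c => by
    obtain ⟨x, hx⟩ := a.exists_ne
    obtain ⟨y, hy⟩ := (h.a4 U hU).ker _ (e x)
    have := h.anti hT hW n (nn ρ T x)
    rw [a.sq, map_zero, add_zero, hy, ← h.comm_iff.1 c, e'] at this
    exact hx (hy.trans this.symm)
  refine h.eq_of_nn fun v => ?_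
  rw [← h.anti hU hW n' (nn ρ T v), e, map_zero, add_zero]
  conv_rhs => rw [← h.anti hT hW n v, map_add, e, zero_add]

theorem sum_nc (n : T * U ≠ U * T) (v : V) :
    nn ρ (T * U * T⁻¹) v = nn ρ T v + nn ρ U v + v := by
  have := h.anti hT hU n
  simp only [h.nn_conj' (h.a4 T hT).sq, rho_eq, map_add]
  have k := this (nn ρ T v)
  rw [(h.a4 T hT).sq, map_zero, add_zero] at k
  exact v2 (by linear_combination (norm := (match_scalars <;> decide)) k + this v)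

theorem sum_c (c : T * U = U * T) (n : T ≠ U) : ∃ W ∈ D, ∀ v, nn ρ W v = nn ρ T v + nn ρ U v := by
  have a := h.a4 T hT
  have a' := h.a4 U hU
  have c' := h.comm_iff.1 c
  obtain ⟨x, hx⟩ : ∃ x, nn ρ U (nn ρ T x) ≠ 0 := by
    by_contra m
    push Not at m
    exact n (h.uniq hT hU m)
  have alt : ∀ v, B (nn ρ U (nn ρ T v)) v = 0 := fun v => by
    rw [← c', h.alt_of_meet hT hU hx (by rw [c', a.sq, map_zero]) (a'.sq _)]
  have sy : ∀ v w, B (nn ρ U (nn ρ T v)) w = B (nn ρ U (nn ρ T w)) v :=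
    symm_of_alt (M := (nn ρ U).comp (nn ρ T)) alt
  obtain ⟨y, y1, y2⟩ : ∃ y, B (nn ρ T x) y = 0 ∧ B (nn ρ U (nn ρ T x)) y = 1 := by
    by_contra m
    push Not at m
    rcases a.mem_span fun w hw => (zmod2_cases _).resolve_right (m w hw) with e | e
    · exact hx e
    · exact hx (by rw [← e, a'.sq])
  obtain ⟨S, hS⟩ := h.sie T hT x y y1
  refine ⟨_, h.conj U hU S, fun v => ?_⟩
  have z1 : ∀ u w, B (nn ρ U (nn ρ T u)) (nn ρ T w) = 0 := fun u w => by rw [← c', a.NN]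
  have z2 : ∀ u w, B (nn ρ U (nn ρ T u)) (nn ρ U w) = 0 := fun u w => a'.NN _ _
  have z3 : ∀ u w, B (nn ρ T u) (nn ρ U w) = B (nn ρ U (nn ρ T u)) w := fun u w => (a'.adj _ _).symm
  have s : SB4 B (nn ρ T) x (nn ρ U y) y (nn ρ U x) :=
    ⟨by rw [z3, y2], by rw [z3, sy, y2], y1, by rw [z3, alt], by rw [c', alt], by rw [c', z2]⟩
  have k : ∀ u, nn ρ (S * U * S⁻¹) u + nn ρ U u = B u (nn ρ T x) • nn ρ U (nn ρ T y) +
      B u (nn ρ T y) • nn ρ U (nn ρ T x) + B u (nn ρ U (nn ρ T x)) • nn ρ T y +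
      B u (nn ρ U (nn ρ T y)) • nn ρ T x := fun u => by
    simp only [h.nn_conj' (S := S) (fun u => by simp [hS, sg_apply, a.NN]), rho_eq, hS, sg_apply,
      map_add, map_smul, z1, a'.adj u, LinearMap.add_apply, LinearMap.smul_apply, zero_smul]
    exact v2 (by match_scalars <;> simp [zmod2_add_self])
  have e : ∀ u, (nn ρ (S * U * S⁻¹) + nn ρ U + nn ρ T) u = B (nn ρ T x) u • nn ρ U (nn ρ T y) +
      B (nn ρ T y) u • nn ρ U (nn ρ T x) + B (nn ρ U (nn ρ T x)) u • nn ρ T y +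
      B (nn ρ U (nn ρ T y)) u • nn ρ T x + nn ρ T u := fun u => by
    simp only [LinearMap.add_apply, k, a.comm u]
  have e1 := e x
  have e2 := e (nn ρ U y)
  have e3 := e y
  have e4 := e (nn ρ U x)
  obtain ⟨u, hu⟩ := a.exp s v
  have e5 := e (nn ρ T u)
  simp only [a.alt, alt, y1, y2, z1, z2, z3, a.NN, sy y x, a.symm y x, zero_smul, one_smul,
    zero_add, add_zero, c', mod_two_add_self, a.sq] at e1 e2 e3 e4 e5
  have : (nn ρ (S * U * S⁻¹) + nn ρ U + nn ρ T) v = 0 := by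
    rw [hu]
    simp only [map_add, map_smul, e1, e2, e3, e4, e5, smul_zero, add_zero]
  rwa [LinearMap.add_apply, LinearMap.add_apply, add_assoc, add_eq_zero_iff', add_comm] at this

end SpS

/-- the seven-dimensional space of endomorphisms -/
def InW (ρ : Γ →* End (ZMod 2) V) (D : Set Γ) (F : V →ₗ[ZMod 2] V) : Prop :=
  ∃ c : ZMod 2, (∀ v, F v = c • v) ∨ ∃ T ∈ D, ∀ v, F v = nn ρ T v + c • v

/-- the commutator of `N₁` with a Siegel map -/
def ee (B : V →ₗ[ZMod 2] V →ₗ[ZMod 2] ZMod 2) (N : V →ₗ[ZMod 2] V) (x y : V) : V →ₗ[ZMod 2] V :=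
  (B (N x)).smulRight y + (B (N y)).smulRight x + (B x).smulRight (N y) + (B y).smulRight (N x)

theorem ee_apply (B : V →ₗ[ZMod 2] V →ₗ[ZMod 2] ZMod 2) (N : V →ₗ[ZMod 2] V) (x y v : V) :
    ee B N x y v = B (N x) v • y + B (N y) v • x + B x v • N y + B y v • N x := rfl

/-- the coordinate map -/
def ll (B : V →ₗ[ZMod 2] V →ₗ[ZMod 2] ZMod 2) (N N' : V →ₗ[ZMod 2] V) (x1 x2 x3 x4 : V)
    (u : Fin 3 ⊕ Fin 3 → ZMod 2) : V →ₗ[ZMod 2] V :=
  u (.inl 0) • N + u (.inr 0) • N' + u (.inl 1) • ee B N x1 x3 + u (.inr 1) • ee B N x2 x4 +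
    u (.inl 2) • ee B N x1 x4 + u (.inr 2) • ee B N x2 x3

/-- an adapted frame -/
structure Fm (B : V →ₗ[ZMod 2] V →ₗ[ZMod 2] ZMod 2) (N N' : V →ₗ[ZMod 2] V) (x1 x2 x3 x4 : V) :
    Prop extends SB4 B N x1 x2 x3 x4 where
  a : A4 B N
  a' : A4 B N'
  anti : ∀ v, N (N' v) + N' (N v) = v
  k1 : N' x1 = 0
  k2 : N' x2 = 0
  k3 : N' x3 = 0
  k4 : N' x4 = 0

namespace Fm

variable {B : V →ₗ[ZMod 2] V →ₗ[ZMod 2] ZMod 2} {N N' F : V →ₗ[ZMod 2] V} {x1 x2 x3 x4 : V}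
  (f : Fm B N N' x1 x2 x3 x4)
include f

theorem back {x : V} (e : N' x = 0) : N' (N x) = x := by simpa [e] using f.anti x

theorem B0 {x y : V} (e : N' x = 0) (e' : N' y = 0) : B x y = 0 := by
  rw [← f.back e, f.a'.B_ker e']

theorem B1 (x y : V) : B x (N y) = B (N x) y := (f.a.adj x y).symm

theorem ll_anti (u w : Fin 3 ⊕ Fin 3 → ZMod 2) :
    B (N x2) (ll B N N' x1 x2 x3 x4 u (ll B N N' x1 x2 x3 x4 w x1) +
      ll B N N' x1 x2 x3 x4 w (ll B N N' x1 x2 x3 x4 u x1)) = sympForm 3 (ZMod 2) u w := by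
  have a := f.a
  simp [ll, ee_apply, f.k1, f.k2, f.k3, f.k4, f.back, f.B0, f.B1, a.sq, f.b12, f.b34, f.b13, f.b14,
    f.b23, f.b24, a.alt, a.symm x2 x1, a.symm x3 x1, a.symm x4 x1, a.symm x3 x2, a.symm x4 x2,
    a.symm x4 x3, Sp.form_eq, Fin.sum_univ_three, sub_eq_add_neg, ZMod.neg_eq_self_mod_two]
  ring

theorem scalar (c : ∀ i v, F (ll B N N' x1 x2 x3 x4 (Pi.single i 1) v) =
    ll B N N' x1 x2 x3 x4 (Pi.single i 1) (F v)) : ∃ c : ZMod 2, ∀ v, F v = c • v := by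
  have a := f.a
  have c1 := c (.inl 0)
  have c2 := c (.inr 0)
  have c3 := c (.inl 1)
  have c4 := c (.inr 1)
  have c5 := c (.inl 2)
  have c6 := c (.inr 2)
  simp [ll] at c1 c2 c3 c4 c5 c6
  have k0 : N' (F x1) = 0 := by rw [← c2, f.k1, map_zero]
  have k3 := c3 x1
  have k5 := c5 x1
  simp [ee_apply, f.B0, f.k1, f.k3, f.k4, k0, a.alt, a.symm x3 x1, a.symm x4 x1, f.b13,
    f.b14] at k3 k5
  have j1 := congrArg (B (N x4)) k3
  have j3 := congrArg (B (N x2)) k3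
  have j4 := congrArg (B (N x2)) k5
  simp [a.symm x4 x3, a.symm x4 x1, a.symm x2 x1, f.b12, f.b34, f.b14, f.b23, f.b24] at j1 j3 j4
  obtain ⟨u, hu⟩ := a.exp f.toSB4 (F x1)
  rw [← j1, ← j3, ← j4] at hu
  generalize B (N x2) (F x1) = s at hu
  have e1 : F x1 = s • x1 := by rw [← f.back k0, hu]; simp [a.sq, f.back f.k1]
  have e4 := c4 x1
  have e3 := c6 x1
  have e2 := c4 x3
  simp [ee_apply, e1, f.B0, f.k1, f.k2, f.k3, f.k4, a.symm x2 x1, a.symm x3 x1, a.symm x4 x1, f.b12,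
    f.b13, f.b14] at e3 e4
  simp [ee_apply, e3, f.B0, f.k2, f.k3, f.k4, a.symm x4 x3, f.b23, f.b34] at e2
  refine ⟨s, fun v => ?_⟩
  obtain ⟨u, hu⟩ := a.exp f.toSB4 v
  obtain ⟨u', hu'⟩ := a.exp f.toSB4 u
  rw [hu, hu']
  simp [c1, e1, e2, e3, e4, a.sq, smul_smul, mul_comm]

end Fm

theorem ll_add (B : V →ₗ[ZMod 2] V →ₗ[ZMod 2] ZMod 2) (N N' : V →ₗ[ZMod 2] V) (x1 x2 x3 x4 : V)
    (u w : Fin 3 ⊕ Fin 3 → ZMod 2) (v : V) :
    ll B N N' x1 x2 x3 x4 (u + w) v = ll B N N' x1 x2 x3 x4 u v + ll B N N' x1 x2 x3 x4 w v := by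
  simp only [ll, Pi.add_apply, add_smul, LinearMap.add_apply]
  abel

namespace SpS

variable {B : V →ₗ[ZMod 2] V →ₗ[ZMod 2] ZMod 2} {ρ : Γ →* End (ZMod 2) V} {D : Set Γ}
  (h : SpS B ρ D) {T U S : Γ} {F F' : V →ₗ[ZMod 2] V}
include h

theorem inW_add (a : InW ρ D F) (b : InW ρ D F') : InW ρ D (F + F') := by
  obtain ⟨c, a | ⟨T, hT, a⟩⟩ := a <;> obtain ⟨d, b | ⟨U, hU, b⟩⟩ := b
  · exact ⟨c + d, Or.inl fun v => by simp [a, b, add_smul]⟩
  · exact ⟨c + d, Or.inr ⟨U, hU, fun v => by simp [a, b, add_smul, add_left_comm]⟩⟩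
  · exact ⟨c + d, Or.inr ⟨T, hT, fun v => by simp [a, b, add_smul, add_assoc]⟩⟩
  by_cases e : T = U
  · exact ⟨c + d, Or.inl fun v => by
      rw [LinearMap.add_apply, a, b, e, add_add_add_comm, mod_two_add_self, zero_add, add_smul]⟩
  by_cases n : T * U = U * T
  · obtain ⟨W, hW, k⟩ := h.sum_c hT hU n e
    exact ⟨c + d, Or.inr ⟨W, hW, fun v => by
      rw [LinearMap.add_apply, a, b, k, add_add_add_comm, add_smul]⟩⟩
  · refine ⟨c + d + 1, Or.inr ⟨_, h.conj U hU T, fun v => ?_⟩⟩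
    rw [LinearMap.add_apply, a, b, h.sum_nc hT hU n]
    exact v2 (by match_scalars <;> grind)

omit h in
theorem inW_smul (a : InW ρ D F) (c : ZMod 2) : InW ρ D (c • F) := by
  rcases zmod2_cases c with rfl | rfl
  · exact ⟨0, Or.inl fun v => by simp⟩
  · rwa [one_smul]

omit h in
theorem inW_nn (hT : T ∈ D) : InW ρ D (nn ρ T) := ⟨0, Or.inr ⟨T, hT, fun v => by simp⟩⟩

theorem inW_anti (a : InW ρ D F) (b : InW ρ D F') : ∃ s : ZMod 2, ∀ v, F (F' v) + F' (F v) = s • v := by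
  have two : ∀ (c : ZMod 2), c + c = 0 := zmod2_add_self
  obtain ⟨c, a | ⟨T, hT, a⟩⟩ := a <;> obtain ⟨d, b | ⟨U, hU, b⟩⟩ := b
  · exact ⟨0, fun v => by rw [a, a, map_smul, mod_two_add_self, zero_smul]⟩
  · exact ⟨0, fun v => by rw [a, a, map_smul, mod_two_add_self, zero_smul]⟩
  · exact ⟨0, fun v => by rw [b, b, map_smul, mod_two_add_self, zero_smul]⟩
  by_cases n : T * U = U * T
  · refine ⟨0, fun v => ?_⟩
    simp only [a, b, map_add, map_smul, h.comm_iff.1 n]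
    exact v2 (by match_scalars <;> simp [two, mul_comm])
  · refine ⟨1, fun v => ?_⟩
    simp only [a, b, map_add, map_smul]
    exact v2 (by
      linear_combination (norm := (match_scalars <;> simp [two, mul_comm])) h.anti hT hU n v)

theorem inW_eq (a : InW ρ D F) {g : Γ} {c : ZMod 2} (e : ∀ v, ρ g (F v) = F (ρ g v) + c • ρ g v)
    (v : V) : ρ g (F v) = F (ρ g v) := by
  obtain ⟨d, hd⟩ : ∃ d : ZMod 2, ∀ v, F (F v) = d • v := by
    obtain ⟨d, a | ⟨T, hT, a⟩⟩ := a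
    · exact ⟨d * d, fun v => by rw [a, a, smul_smul]⟩
    · refine ⟨d * d, fun v => ?_⟩
      simp only [a, map_add, map_smul, (h.a4 T hT).sq]
      exact v2 (by match_scalars <;> simp [zmod2_add_self])
  rcases zmod2_cases c with rfl | rfl
  · simpa using e v
  have := e (F v)
  rw [hd, e, map_smul, map_add, hd, map_smul] at this
  have k : ρ g v = 0 := v2 (by linear_combination (norm := (match_scalars <;> grind)) this)
  have k' : v = 0 := by simpa [← End.mul_apply, ← map_mul] using congrArg (ρ g⁻¹) k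
  simp [k']

theorem exists_fm : ∃ T ∈ D, ∃ U ∈ D, ∃ x1 x2 x3 x4, Fm B (nn ρ T) (nn ρ U) x1 x2 x3 x4 := by
  obtain ⟨T, hT⟩ := h.ne
  obtain ⟨U, hU, n⟩ := h.nc T hT
  have a := h.a4 T hT
  have a' := h.a4 U hU
  obtain ⟨x1, n1⟩ := a.exists_ne
  obtain ⟨x2, x3, x4, s⟩ := a.exists_sb n1
  have k : ∀ x, nn ρ T (nn ρ U (nn ρ T x)) = nn ρ T x := fun x => by
    simpa [a.sq] using h.anti hT hU n (nn ρ T x)
  have k' : ∀ x y, B (nn ρ T (nn ρ U (nn ρ T x))) (nn ρ U (nn ρ T y)) = B (nn ρ T x) y :=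
    fun x y => by rw [k, a.adj, k, a.adj]
  exact ⟨T, hT, U, hU, _, _, _, _, ⟨(k' _ _).trans s.b12, (k' _ _).trans s.b34, (k' _ _).trans s.b13,
    (k' _ _).trans s.b14, (k' _ _).trans s.b23, (k' _ _).trans s.b24⟩, a, a', h.anti hT hU n,
    a'.sq _, a'.sq _, a'.sq _, a'.sq _⟩

variable (hT : T ∈ D) (hU : U ∈ D) {x1 x2 x3 x4 : V} (f : Fm B (nn ρ T) (nn ρ U) x1 x2 x3 x4)
include hT hU f

theorem inW_ee {x y : V} (e1 : nn ρ U x = 0) (e2 : nn ρ U y = 0) (e : B (nn ρ T x) y = 0) :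
    InW ρ D (ee B (nn ρ T) x y) := by
  obtain ⟨S, hS⟩ := h.sie T hT x y e
  convert h.inW_add (inW_nn (h.conj U hU S)) (inW_nn hU) using 1
  ext v
  simp only [ee_apply, LinearMap.add_apply, h.nn_conj' (S := S)
    (fun u => by simp [hS, sg_apply, f.a.NN]), rho_eq, hS, sg_apply, map_add, map_smul, f.back e1,
    f.back e2, f.a'.adj v, LinearMap.smul_apply, f.B1 x, f.B1 y, e, f.a.symm y x, f.a.alt,
    f.a.comm v]
  exact v2 (by match_scalars <;> simp [zmod2_add_self])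

theorem inW_ll (u : Fin 3 ⊕ Fin 3 → ZMod 2) : InW ρ D (ll B (nn ρ T) (nn ρ U) x1 x2 x3 x4 u) :=
  h.inW_add (h.inW_add (h.inW_add (h.inW_add (h.inW_add (inW_smul (inW_nn hT) _)
    (inW_smul (inW_nn hU) _)) (inW_smul (h.inW_ee hT hU f f.k1 f.k3 f.b13) _))
    (inW_smul (h.inW_ee hT hU f f.k2 f.k4 f.b24) _))
    (inW_smul (h.inW_ee hT hU f f.k1 f.k4 f.b14) _))
    (inW_smul (h.inW_ee hT hU f f.k2 f.k3 f.b23) _)

theorem ll_anti (u w : Fin 3 ⊕ Fin 3 → ZMod 2) (v : V) :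
    ll B (nn ρ T) (nn ρ U) x1 x2 x3 x4 u (ll B (nn ρ T) (nn ρ U) x1 x2 x3 x4 w v) +
      ll B (nn ρ T) (nn ρ U) x1 x2 x3 x4 w (ll B (nn ρ T) (nn ρ U) x1 x2 x3 x4 u v) =
      sympForm 3 (ZMod 2) u w • v := by
  obtain ⟨s, hs⟩ := h.inW_anti (h.inW_ll hT hU f u) (h.inW_ll hT hU f w)
  rw [← f.ll_anti, hs, hs, map_smul, f.a.symm, f.b12, smul_eq_mul, mul_one]

theorem exists_ll (a : InW ρ D F) :
    ∃ w, ∃ c : ZMod 2, ∀ v, F v = ll B (nn ρ T) (nn ρ U) x1 x2 x3 x4 w v + c • v := by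
  choose s hs using fun i : Fin 3 ⊕ Fin 3 => h.inW_anti a (h.inW_ll hT hU f (Pi.single i 1))
  let w : Fin 3 ⊕ Fin 3 → ZMod 2 := Sum.elim (fun i => s (.inr i)) fun i => s (.inl i)
  have hw : ∀ i, sympForm 3 (ZMod 2) w (Pi.single i 1) = s i := by
    rintro (i | i)
    · simp [Sp.form_single_inl_right, w]
    · simp [Sp.form_single_inr_right, w, ZMod.neg_eq_self_mod_two]
  obtain ⟨c, hc⟩ := f.scalar (F := F + ll B (nn ρ T) (nn ρ U) x1 x2 x3 x4 w) fun i v => by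
    have := h.ll_anti hT hU f w (Pi.single i 1) v
    rw [hw, ← hs] at this
    simp only [LinearMap.add_apply, map_add]
    exact v2 (by linear_combination (norm := (match_scalars <;> decide)) this)
  exact ⟨w, c, fun v => by rw [← hc, LinearMap.add_apply, add_left_comm, mod_two_add_self, add_zero]⟩

theorem ll_inj {u w : Fin 3 ⊕ Fin 3 → ZMod 2} {c d : ZMod 2} {g : Γ}
    (e : ∀ v, ll B (nn ρ T) (nn ρ U) x1 x2 x3 x4 u (ρ g v) + c • ρ g v =
      ll B (nn ρ T) (nn ρ U) x1 x2 x3 x4 w (ρ g v) + d • ρ g v) : u = w := by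
  have e' : ∀ v, ll B (nn ρ T) (nn ρ U) x1 x2 x3 x4 (u + w) v = (c + d) • v := fun v => by
    have := e (ρ g⁻¹ v)
    rw [rho_inv] at this
    rw [ll_add]
    exact v2 (by
      linear_combination (norm := (match_scalars <;> grind)) this)
  refine add_eq_zero_iff'.1 (Sp.eq_zero_of_form_left fun t => ?_)
  rw [← f.ll_anti, e', e', map_smul, mod_two_add_self, map_zero]

theorem exists_act (g : Γ) (u : Fin 3 ⊕ Fin 3 → ZMod 2) : ∃ w, ∃ c : ZMod 2, ∀ v,
    ρ g (ll B (nn ρ T) (nn ρ U) x1 x2 x3 x4 u v) =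
      ll B (nn ρ T) (nn ρ U) x1 x2 x3 x4 w (ρ g v) + c • ρ g v := by
  obtain ⟨c, a | ⟨W, hW, a⟩⟩ := h.inW_ll hT hU f u
  · exact ⟨0, c, fun v => by rw [a]; simp [ll]⟩
  · obtain ⟨w, d, e⟩ := h.exists_ll hT hU f (inW_nn (h.conj W hW g))
    exact ⟨w, d + c, fun v => by rw [a, map_add, ← nn_conj, e, map_smul, add_smul, add_assoc]⟩

omit hT hU f in
theorem equiv : Nonempty (Γ ≃* Matrix.symplecticGroup (Fin 3) (ZMod 2)) := by
  obtain ⟨T, hT, U, hU, x1, x2, x3, x4, f⟩ := h.exists_fm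
  choose m c hm using h.exists_act hT hU f
  have add : ∀ g u w, m g (u + w) = m g u + m g w := fun g u w =>
    h.ll_inj hT hU f (c := c g (u + w)) (d := c g u + c g w) (g := g) fun v => by
      rw [← hm, ll_add, ll_add, map_add, hm, hm, add_smul, add_add_add_comm]
  have frm : ∀ g u w, sympForm 3 (ZMod 2) (m g u) (m g w) = sympForm 3 (ZMod 2) u w := by
    intro g u w
    have k := congrArg (ρ g) (h.ll_anti hT hU f u w (ρ g⁻¹ x1))
    rw [map_add, hm, hm, hm, hm, map_smul, rho_inv] at k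
    have k' := h.ll_anti hT hU f (m g u) (m g w) x1
    have : sympForm 3 (ZMod 2) (m g u) (m g w) • x1 = sympForm 3 (ZMod 2) u w • x1 := by
      rw [← k, ← k']
      simp only [map_add, map_smul]
      exact v2 (by match_scalars <;> simp [zmod2_add_self, mul_comm])
    simpa [f.a.symm x2 x1, f.b12] using congrArg (B (nn ρ T x2)) this
  let ψ : Γ → Matrix.symplecticGroup (Fin 3) (ZMod 2) := fun g =>
    ⟨LinearMap.toMatrix' ((AddMonoidHom.mk' (m g) (add g)).toZModLinearMap 2),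
      Sp.mem_iff_preserves.2 fun u w => by simpa [LinearMap.toMatrix'_mulVec] using frm g u w⟩
  have hψ : ∀ g u, ψ g • u = m g u := fun g u => by
    simp [Sp.smul_def, ψ, LinearMap.toMatrix'_mulVec]
  let φ : Γ →* Matrix.symplecticGroup (Fin 3) (ZMod 2) := MonoidHom.mk' ψ fun g k =>
    Sp.ext_smul fun u => by
      rw [mul_smul, hψ, hψ, hψ]
      refine h.ll_inj hT hU f (c := c (g * k) u) (d := c g (m k u) + c k u) (g := g * k) fun v => ?_
      rw [← hm, map_mul, End.mul_apply, End.mul_apply, hm, map_add, hm, map_smul, add_smul,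
        add_assoc]
  refine ⟨MulEquiv.ofBijective φ ⟨(injective_iff_map_eq_one φ).2 fun g hg => ?_, ?_⟩⟩
  · have k : ∀ u, m g u = u := fun u => by rw [← hψ, show ψ g = 1 from hg, one_smul]
    obtain ⟨s, hs⟩ := f.scalar (F := ρ g) fun i =>
      h.inW_eq (h.inW_ll hT hU f _) fun v => by rw [hm, k]
    rcases zmod2_cases s with rfl | rfl
    · have := f.b12
      rw [← rho_inv ρ g x2, hs] at this
      simp at this
    · exact h.inj (LinearMap.ext fun v => by simp [hs])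
  refine MonoidHom.range_eq_top.1 (Sp.eq_top_of_tv_mem fun w s => ?_)
  rcases zmod2_cases s with rfl | rfl
  · rw [Sp.tv_zero]; exact one_mem _
  obtain ⟨d, a | ⟨W, hW, a⟩⟩ := h.inW_ll hT hU f w
  · rw [h.ll_inj hT hU f (u := w) (w := 0) (c := 0) (d := d) (g := 1) fun v => by
      rw [a]; simp [ll], Sp.tv_zero_vec]
    exact one_mem _
  refine ⟨W, Sp.ext_smul fun u => ?_⟩
  rw [Sp.tv_smul, one_mul]
  refine (hψ W u).trans (h.ll_inj hT hU f (c := c W u) (d := sympForm 3 (ZMod 2) u w * (d + 1))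
    (g := W) fun v => ?_)
  have k1 := h.ll_anti hT hU f u w v
  have k2 := (h.a4 W hW).sq v
  rw [← hm]
  rcases zmod2_cases (sympForm 3 (ZMod 2) u w) with e | e <;>
  simp only [e, zero_smul, one_smul, add_zero, ll_add, a, rho_eq, map_add, map_smul, k2] at k1 ⊢ <;>
  exact v2 (by linear_combination (norm := (match_scalars <;> simp [zmod2_add_self, ← add_assoc])) k1)

end SpS

end Cfsg.Agent.XW
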