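import Mathlib
import Cfsg.Agent.XW.F
import Cfsg.Agent.XW.I

/-! Pairs of rank four: the action on the extraspecial group. -/

set_option autoImplicit false

namespace Cfsg.Agent.XW

open Subgroup Cfsg.Agent.TT Cfsg.Agent.LES Cfsg.Agent.XSC.WC Cfsg.Agent.XSC.O8

variable {G : Type*} [Group G]

theorem exists_kerS {S : Subgroup G} (φ : G → ZMod 2)
    (hφ : ∀ a ∈ S, ∀ b ∈ S, φ (a * b) = φ a + φ b) :
    ∃ K : Subgroup G, (∀ g, g ∈ K ↔ g ∈ S ∧ φ g = 0) ∧ Nat.card S ≤ 2 * Nat.card K := by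
  have h1 : φ 1 = 0 := by simpa [zmod2_add_self] using hφ 1 S.one_mem 1 S.one_mem
  let K : Subgroup G :=
    { carrier := {g | g ∈ S ∧ φ g = 0}
      one_mem' := ⟨S.one_mem, h1⟩
      mul_mem' := fun ha hb => ⟨S.mul_mem ha.1 hb.1, by rw [hφ _ ha.1 _ hb.1, ha.2, hb.2, add_zero]⟩
      inv_mem' := fun {a} ha => ⟨S.inv_mem ha.1, by
        simpa [h1, ha.2] using (hφ _ (S.inv_mem ha.1) _ ha.1).symm⟩ }
  refine ⟨K, fun _ => Iff.rfl, card_le_two_mul_of_mul_mem (fun _ h => h.1)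
    fun x hx y hy n1 n2 => ⟨S.mul_mem hx hy, ?_⟩⟩
  rw [hφ x hx y hy, z2_of_ne_zero fun c => n1 ⟨hx, c⟩, z2_of_ne_zero fun c => n2 ⟨hy, c⟩]
  rfl

theorem exists_three [Finite G] {K : Subgroup G} (h : 8 ≤ Nat.card K) : ∃ a ∈ K, ∃ b ∈ K, ∃ c ∈ K,
    a ≠ 1 ∧ b ≠ 1 ∧ b ≠ a ∧ c ≠ 1 ∧ c ≠ a ∧ c ≠ b ∧ c ≠ a * b := by
  classical
  have k : ∀ s : Finset G, s.card < 8 → ∃ x ∈ K, x ∉ s := fun s hs => by
    obtain ⟨x, h1, h2⟩ := Set.exists_mem_notMem_of_ncard_lt_ncard (s := (s : Set G)) (t := K)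
      (by rw [Set.ncard_coe_finset]; exact hs.trans_le h)
    exact ⟨x, h1, h2⟩
  obtain ⟨a, ha, n1⟩ := k {1} (by simp)
  obtain ⟨b, hb, n2⟩ := k {1, a} (Finset.card_le_two.trans_lt (by norm_num))
  obtain ⟨c, hc, n3⟩ := k {1, a, b, a * b} (Finset.card_le_four.trans_lt (by norm_num))
  simp only [Finset.mem_insert, Finset.mem_singleton, not_or] at n1 n2 n3
  exact ⟨a, ha, b, hb, c, hc, n1, n2.1, n2.2, n3⟩

theorem pf_cube (a b c : Fin 6 → ZMod 2) :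
    pf (a + b + c) + pf (a + b) + pf (a + c) + pf (b + c) + pf a + pf b + pf c = 0 := by
  simp only [pf_add, pb_left]; grind

/-- elements centralising `z` and `C_Q(t)` -/
def Cz (z t g : G) : Prop := g * z = z * g ∧ ∀ a ∈ O2C z, a * t = t * a → g * a = a * g

theorem Cz.mul {z t g k : G} (h : Cz z t g) (h' : Cz z t k) : Cz z t (g * k) :=
  ⟨comm_mul_left h.1 h'.1, fun a ha c => comm_mul_left (h.2 a ha c) (h'.2 a ha c)⟩

/-- coordinates on the unipotent radical -/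
structure Om (z t : G) (ω : G → Fin 6 → ZMod 2) : Prop where
  mul : ∀ g k, Cz z t g → Cz z t k → ω (g * k) = ω g + ω k
  ker : ∀ g, Cz z t g → (ω g = 0 ↔ g ∈ O2C z)
  pf0 : ∀ g, Cz z t g → ∀ x ∈ O2C z, x * t ≠ t * x → Eqv z (dd g x) 1 → pf (ω g) = 0
  pf1 : ∀ g, Cz z t g → (∀ x ∈ O2C z, Eqv z (dd g x) 1 → x * t = t * x) → pf (ω g) = 1
  pf2 : ∀ s, Cz z t s → T2 z s → pf (ω s) = 0
  self : ω t = ![1, 0, 0, 0, 0, 1]

namespace T0

variable {z t d a b e g x y : G} (h : T0 z t)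
include h

theorem tyA : TyA (O2C z) t := h.i1.tyA h.sa

theorem cz_self : Cz z t t := ⟨h.comm, fun _ _ c => c.symm⟩

theorem comm_of_dd (hx : x ∈ O2C z) (e : Eqv z (dd t x) 1) : x * t = t * x :=
  h.i1.comm h.sa hx ((uu_eqv_dd h.sa hx).trans h.zz e)

variable [Finite G]

theorem ea : EA z t := h.symm.toPr.ea_of_E0 h.symm.tyA h.symm.e0

theorem cz_A (ha : a ∈ O2C z) (c : a * t = t * a) : Cz z t a :=
  ⟨h.xs.z_comm a ha, fun _ hb c' => h.ea.comm ha c hb c'⟩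

theorem cz_B (hb : b ∈ O2C t) (c : b * z = z * b) : Cz z t b :=
  ⟨c, fun a ha c' => (h.ab_of_E0 h.e0 a ha c' b hb c).symm⟩

theorem comm_of_cz (ha : a ∈ O2C z) (c : Cz z t a) : a * t = t * a :=
  h.tyA.cent_comm h.sa ha fun b hb c' => (c.2 b hb c').symm

theorem t2c (hx : x ∈ O2C z) (n : x * t ≠ t * x) : T2 t (x * t * x⁻¹) :=
  h.t2_conj h.tyA h.symm.tyA h.e0 hx n

theorem card_A : Nat.card (O2C z ⊓ centralizer {t} : Subgroup G) = 32 := by
  have := h.toPr.card_A h.tyA h.ea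
  rw [h.card] at this
  exact Nat.pow_left_injective two_ne_zero (this.trans (by norm_num))

theorem E_cent (hx : x ∈ O2C z) (n : x * t ≠ t * x) (e1 : e ∈ O2C t) (e2 : e ∈ O2C (x * t * x⁻¹)) :
    e * z = z * e ∧ x * e = e * x := by
  have k := h.t2c hx n
  have c : e * z = z * e := by
    by_cases n : e = 1
    · simp [n]
    obtain ⟨w, hw, c⟩ := k.E_form k.tyI e1 e2 n
    have k1 := h.dd_B h.symm.tyA hw k.comm fun b hb c => by
      rw [← uu_mul_s h.tt]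
      exact comm_mul_left (h.ab_of_E0 h.e0 _ (h.sa.uu_mem hx) (h.tyA.comm_s h.sa hx) b hb c)
        (k.xs.z_comm b hb).symm
    exact comm_of_eqv h.comm (((eqv_mul_z t e).symm h.tt).trans h.tt
      (c ▸ uu_eqv_dd k.sa hw)) k1
  refine ⟨c, dd_eq_one.1 (h.e0 _ (dd_inv_swap e x ▸ inv_mem (dd_mem h.lx c hx))
    (mul_mem ?_ (inv_mem e1)))⟩
  have := conj_mem_O2C_conj x e2
  rwa [show x * (x * t * x⁻¹) * x⁻¹ = x * x * t * (x * x)⁻¹ by group, conj_eq_of_comm] at this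
  rcases h.xs.sq hx with c | c <;> simp [c, h.comm]

theorem exists_hyp (hy : y ∈ O2C z) (n : y * t ≠ t * y) : ∃ p ∈ O2C z, ∃ q ∈ O2C z,
    cmv (uu t y) p = 0 ∧ cmv (uu t y) q = 0 ∧ cmv (uu t p) q = 1 := by
  have S := h.sa
  have nn : ∀ {x}, x ∈ O2C z → x * t ≠ t * x → ∃ w ∈ O2C z, cmv (uu t x) w = 1 := fun hx n =>
    exists_beta S hx fun c => n (h.i1.comm S hx c)
  obtain ⟨y2, m2, b12⟩ := nn hy n
  obtain ⟨y3, m3, b13, b23, n3⟩ : ∃ p ∈ O2C z, cmv (uu t y) p = 0 ∧ cmv (uu t y2) p = 0 ∧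
      p * t ≠ t * p := by
    by_contra c
    push Not at c
    exact h.not_span_two h.tyA h.symm.tyA h.e0 hy m2 b12 c
  obtain ⟨w, mw, bw⟩ := nn m3 n3
  obtain ⟨y4, m4, b14, -, k4⟩ := exists_adjust S h.tyA hy m2 mw b12
  exact ⟨y3, m3, y4, m4, b13, b14, (k4 _ (fun a ha b hb => beta_right S m3 ha hb)
    (S.beta_symm hy m3 ▸ b13) (S.beta_symm m2 m3 ▸ b23)).trans bw⟩

end T0

/-- two pairs with the same fixed space -/
structure Sm (z t d : G) : Prop where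
  l : T0 z t
  r : T0 z d
  eq : ∀ a ∈ O2C z, a * t = t * a ↔ a * d = d * a

namespace Sm

variable {z t d a b e g x y : G} [Finite G] (h : Sm z t d) {ω : G → Fin 6 → ZMod 2}
include h

omit [Finite G] in
theorem symm : Sm z d t := ⟨h.r, h.l, fun a ha => (h.eq a ha).symm⟩

omit [Finite G] in
theorem cz (c : Cz z d g) : Cz z t g := ⟨c.1, fun a ha e => c.2 a ha ((h.eq a ha).1 e)⟩

theorem cz_uu (hy : y ∈ O2C d) : Cz z t (uu z y) :=
  h.cz (h.r.cz_B (h.r.symm.sa.uu_mem hy) (h.r.symm.tyA.comm_s h.r.symm.sa hy))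

variable (o : Om z t ω)
include o

omit [Finite G] in
theorem pf_d : pf (ω d) = 1 :=
  o.pf1 d (h.cz h.r.cz_self) fun x hx e => (h.eq x hx).2 (h.r.comm_of_dd hx e)

theorem pf_uu (hy : y ∈ O2C d) : pf (ω (uu z y)) = 0 := by
  have cz := h.l.cz_A h.l.xs.z_mem h.l.comm.symm
  by_cases n : y * z = z * y
  · rw [(uu_eq_one_iff h.l.zz).2 n, (o.ker 1 ⟨by simp, by simp⟩).2 (one_mem _)]; rfl
  have := o.pf2 _ (uu_mul_s h.l.zz y ▸ (h.cz_uu hy).mul cz) (h.r.symm.t2c hy n)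
  rwa [← uu_mul_s h.l.zz, o.mul _ _ (h.cz_uu hy) cz, (o.ker z cz).2 h.l.xs.z_mem, add_zero] at this

theorem pb_uu (hy : y ∈ O2C d) : pb (ω (uu z y)) (ω d) = 0 := by
  have S := h.r.symm.sa
  by_cases n : y * z = z * y
  · rw [(uu_eq_one_iff h.l.zz).2 n, (o.ker 1 ⟨by simp, by simp⟩).2 (one_mem _)]; simp [pb]
  obtain ⟨p, hp, q, hq, b1, b2, b3⟩ := h.r.symm.exists_hyp hy n
  have k : ∀ w ∈ O2C d, cmv (uu z y) w = 0 → pb (ω (uu z y)) (ω (uu z w)) = 0 := fun w hw c => by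
    have := h.pf_uu o (mul_mem hy hw)
    rwa [uu_mul0 S hy hw c, o.mul _ _ (h.cz_uu hy) (h.cz_uu hw), pf_add, h.pf_uu o hy, h.pf_uu o hw,
      zero_add, zero_add] at this
  have := k _ (mul_mem hp hq) (by rw [beta_right S hy hp hq, b1, b2, add_zero])
  rwa [uu_mul1 S hp hq b3, o.mul _ _ ((h.cz_uu hp).mul (h.cz_uu hq)) (h.cz h.r.cz_self),
    o.mul _ _ (h.cz_uu hp) (h.cz_uu hq), pb_right, pb_right, k p hp b1, k q hq b2, zero_add,
    zero_add] at this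

theorem dich (hb : b ∈ O2C d) (c : b * z = z * b) : pb (ω b) (ω d) = 0 ∧
    ∃ y ∈ O2C d, (b = uu z y ∧ pf (ω b) = 0) ∨ (b = uu z y * d ∧ pf (ω b) = 1) := by
  obtain ⟨y, hy, e⟩ := h.r.i2.mem_hat h.r.symm.sa hb fun a ha c' => h.r.symm.ea.comm ha c' hb c
  rcases e with rfl | rfl
  · exact ⟨h.pb_uu o hy, y, hy, Or.inl ⟨rfl, h.pf_uu o hy⟩⟩
  · rw [o.mul _ _ (h.cz_uu hy) (h.cz h.r.cz_self), pb_left, pf_add, h.pb_uu o hy, h.pf_uu o hy,
      pb_self, h.pf_d o]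
    exact ⟨rfl, y, hy, Or.inr ⟨rfl, rfl⟩⟩

end Sm

theorem T0.sm {z t : G} (h : T0 z t) : Sm z t t := ⟨h, h, fun _ _ => Iff.rfl⟩

theorem T0.surj [Finite G] {z t : G} (h : T0 z t) {ω : G → Fin 6 → ZMod 2} (o : Om z t ω)
    {w : Fin 6 → ZMod 2} (hw : pb w (ω t) = 0) : ∃ b ∈ O2C t, b * z = z * b ∧ ω b = w := by
  classical
  let φ : (O2C t ⊓ centralizer {z} : Subgroup G) → {w : Fin 6 → ZMod 2 // pb w (ω t) = 0} :=
    fun b => ⟨ω b, (h.sm.dich o b.2.1 (mem_cent.1 b.2.2)).1⟩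
  have h1 : Function.Injective φ := fun a b e => by
    have ca := h.cz_B a.2.1 (mem_cent.1 a.2.2)
    have cb := h.cz_B b.2.1 (mem_cent.1 b.2.2)
    by_contra n
    refine mul_ne_one_of_ne (h.symm.ea _ b.2.1 (mem_cent.1 b.2.2)) (fun c => n (Subtype.ext c))
      (h.e0 _ ((o.ker _ (ca.mul cb)).1 ?_) (mul_mem a.2.1 b.2.1))
    rw [o.mul _ _ ca cb, show ω a = ω b from congrArg Subtype.val e, mod_two_add_self]
  have h2 := (Nat.bijective_iff_injective_and_card φ).2 ⟨h1, by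
    rw [h.symm.card_A, o.self, Nat.card_eq_fintype_card]; decide +kernel⟩
  obtain ⟨b, e⟩ := h2.2 ⟨w, hw⟩
  exact ⟨b, b.2.1, mem_cent.1 b.2.2, congrArg Subtype.val e⟩

theorem T0.split [Finite G] {z t g : G} (h : T0 z t) {ω : G → Fin 6 → ZMod 2} (o : Om z t ω)
    (c : Cz z t g) (e : pb (ω g) (ω t) = 0) : ∃ b ∈ O2C t, b * z = z * b ∧ ω b = ω g ∧
      ∃ a ∈ O2C z, a * t = t * a ∧ g = b * a := by
  obtain ⟨b, hb, c', e'⟩ := h.surj o e
  have k := (h.cz_B hb c').mul c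
  have k1 := (o.ker _ k).1 (by rw [o.mul _ _ (h.cz_B hb c') c, e', mod_two_add_self])
  exact ⟨b, hb, c', e', _, k1, h.comm_of_cz k1 k, by rw [← mul_assoc, h.symm.ea b hb c', one_mul]⟩

section Lin

variable {z t g k x : G} {V : Type} [AddCommGroup V] [Module (ZMod 2) V] {θ : G → V}
  {B : V →ₗ[ZMod 2] V →ₗ[ZMod 2] ZMod 2} {q : V → ZMod 2} {A : G → V →ₗ[ZMod 2] V}

/-- the nilpotent part of the action -/
def na (A : G → V →ₗ[ZMod 2] V) (g : G) : V →ₗ[ZMod 2] V := A g + LinearMap.id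

theorem A_eq (g : G) (v : V) : A g v = v + na A g v := by
  simp [na, add_comm (A g v), ← add_assoc, mod_two_add_self]

variable (L : XSC.Ln (O2C z) z θ B q A)
include L

theorem na_theta (c : g * z = z * g) (hx : x ∈ O2C z) : na A g (θ x) = θ (dd g x) :=
  (L.comm_val c hx).symm

theorem na_zero (c : g * z = z * g) (hx : x ∈ O2C z) : na A g (θ x) = 0 ↔ Eqv z (dd g x) 1 := by
  rw [na_theta L c hx, ← L.one, L.eq_iff (dd_mem L.toLX c hx) (one_mem _)]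

theorem na_uu (h : Pr z t) (hx : x ∈ O2C z) : na A t (θ x) = θ (uu t x) := by
  rw [na_theta L h.comm hx, eq_comm, L.eq_iff (h.sa.uu_mem hx) (dd_mem L.toLX h.comm hx)]
  exact uu_eqv_dd h.sa hx

theorem T0.na_ker (h : T0 z t) (hx : x ∈ O2C z) : na A t (θ x) = 0 ↔ x * t = t * x :=
  (na_zero L h.comm hx).trans ⟨h.comm_of_dd hx, fun c => Or.inl (dd_eq_one.2 c.symm)⟩

variable [Finite G]

theorem card_V : Nat.card (O2C z) = 2 * Nat.card V := by
  let f : O2C z →* Multiplicative V := MonoidHom.mk' (fun x => Multiplicative.ofAdd (θ x))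
    fun x y => congrArg Multiplicative.ofAdd (L.mul x x.2 y y.2)
  have h1 : f.range = ⊤ := MonoidHom.range_eq_top.2 fun v => by
    obtain ⟨x, hx, e⟩ := L.surj v.toAdd
    exact ⟨⟨x, hx⟩, congrArg Multiplicative.ofAdd e⟩
  have h2 : f.ker = (zpowers z).subgroupOf (O2C z) := by
    ext x
    rw [mem_subgroupOf, mem_zpowers_invol L.z_sq, ← L.zero x x.2]; rfl
  have h3 := f.ker.card_mul_index
  rw [index_ker, h1, card_top, h2, Nat.card_congr (subgroupOfEquivOfLe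
    (zpowers_le.2 L.z_mem)).toEquiv, Nat.card_zpowers, L.toXS.orderOf_z] at h3
  exact h3.symm

theorem rank_V {n : ℕ} (hc : Nat.card (O2C z) = 2 ^ (n + 1)) : Module.finrank (ZMod 2) V = n := by
  have h4 : Nat.card V = 2 ^ n := by have := card_V L; omega
  haveI : Finite V := Nat.finite_of_card_ne_zero (by rw [h4]; positivity)
  rw [Module.natCard_eq_pow_finrank (K := ZMod 2), Nat.card_zmod] at h4
  exact Nat.pow_right_injective le_rfl h4

theorem T0.a4 (h : T0 z t) : A4 B (na A t) := by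
  have alt : ∀ v, B (na A t v) v = 0 := fun v => by
    obtain ⟨x, hx, rfl⟩ := L.surj v
    rw [na_uu L h.toPr hx, L.bil _ (h.sa.uu_mem hx) x hx, h.tyA.beta_self h.sa hx]
  refine ⟨L.B_comm, L.B_self, fun _ => L.nondeg, rank_V L h.card, fun v => ?_,
    fun v w => by rw [symm_of_alt alt, L.B_comm], alt, fun v e => ?_⟩ <;>
  obtain ⟨x, hx, rfl⟩ := L.surj v
  · rw [na_uu L h.toPr hx, h.na_ker L (h.sa.uu_mem hx), h.tyA.comm_s h.sa hx]
  · obtain ⟨y, hy, e'⟩ := h.i1.mem_hat h.sa hx fun a ha c =>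
      h.ea.comm ha c hx ((h.na_ker L hx).1 e)
    exact ⟨θ y, by rw [na_uu L h.toPr hy, L.eq_iff hx (h.sa.uu_mem hy)]; exact e'⟩

theorem T0.ry (h : T0 z t) (c : Cz z t g) : RY B (na A t) (na A g) := by
  have a := h.a4 L
  have kill : ∀ v, na A g (na A t v) = 0 := fun v => by
    obtain ⟨x, hx, rfl⟩ := L.surj v
    rw [na_uu L h.toPr hx, na_zero L c.1 (h.sa.uu_mem hx)]
    exact Or.inl (dd_eq_one.2 (c.2 _ (h.sa.uu_mem hx) (h.tyA.comm_s h.sa hx)))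
  refine ⟨kill, fun v => ?_⟩
  have k : na A t (na A g v) = 0 := a.eq_zero fun w => by
    have := L.A_B c.1 (na A t w) v
    rw [A_eq, A_eq g v, kill, add_zero, map_add, add_eq_left] at this
    exact this
  obtain ⟨x, hx, rfl⟩ := L.surj v
  have m := dd_mem L.toLX c.1 hx
  rw [na_theta L c.1 hx] at k ⊢
  rw [L.bil _ m x hx, ← sqv_dd L.toLX c.1 hx, sqv_eq_zero]
  exact h.ea _ m ((h.na_ker L m).1 k)

theorem T0.om (h : T0 z t) {x1 x2 x3 x4 : V} (s : SB4 B (na A t) x1 x2 x3 x4) :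
    Om z t fun g => omv B x1 x2 x3 x4 (na A g) := by
  have a := h.a4 L
  refine ⟨fun g k c c' => ?_, fun g c => ⟨fun e => L.mem_of_A c.1 fun v => ?_, fun e => ?_⟩,
    fun g c x hx n e => a.pf_zero s (h.ry L c) (mt (h.na_ker L hx).1 n) ((na_zero L c.1 hx).2 e),
    fun g c e => a.pf_one s (h.ry L c) fun v hv => ?_, fun u c hu => ?_, ?_⟩
  · rw [← omv_add]
    congr 1
    ext v
    obtain ⟨w, hw⟩ := a.ker _ (a.ry_N (h.ry L c') v)
    have : na A g (na A k v) = 0 := hw ▸ (h.ry L c).kill w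
    rw [na, LinearMap.add_apply, L.A_mul c.1 c'.1, A_eq, A_eq k, map_add, this]
    exact v2 (by simp only [LinearMap.id_apply, LinearMap.add_apply]; match_scalars <;> decide)
  · rw [A_eq, a.eq_zero_of_omv s (h.ry L c) e, LinearMap.zero_apply, add_zero]
  · have : na A g = 0 := LinearMap.ext fun v => by simp [na, L.A_mem e, mod_two_add_self]
    ext i; fin_cases i <;> simp [omv, this]
  · obtain ⟨x, hx, rfl⟩ := L.surj v
    exact (h.na_ker L hx).2 (e x hx ((na_zero L c.1 hx).1 hv))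
  · obtain ⟨e, e1, e2, f, f1, f2, n1, n2, n3⟩ := hu.e2
    obtain ⟨v, n, k1, k2, -⟩ := a.exists_ker3 (B (θ e)) (B (θ f)) 0
    obtain ⟨x, hx, rfl⟩ := L.surj v
    exact a.pf_zero s (h.ry L c) n ((na_zero L c.1 hx).2 (Or.inl (dd_eq_one.2 (hu.comm_of_two e1 e2
      f1 f2 n1 n2 n3 hx ((L.comm_iff e1 hx).2 k1).symm ((L.comm_iff f1 hx).2 k2).symm).symm)))
  · simp [omv, s.b12, s.b34, s.b13, s.b14, s.b23, s.b24]

end Lin

theorem T0.exists_om [Finite G] {z t : G} (h : T0 z t) : ∃ ω, Om z t ω := by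
  obtain ⟨V, _, _, θ, B, q, A, L⟩ := XSC.exists_ln h.lx (n := 4) h.card
  obtain ⟨x1, n⟩ := (h.a4 L).exists_ne
  obtain ⟨x2, x3, x4, s⟩ := (h.a4 L).exists_sb n
  exact ⟨_, h.om L s⟩

end Cfsg.Agent.XW
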