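import Mathlib
import Cfsg.Agent.XW.J

/-! Pairs of rank four: the quotient `C(z)/O₂(C(z))` is `Sp₆(2)`. -/

set_option autoImplicit false

namespace Cfsg.Agent.XW

open Subgroup Cfsg.Agent.TT Cfsg.Agent.LES Cfsg.Agent.XSC.WC Cfsg.Agent.XSC.O8

variable {G : Type*} [Group G] [Finite G] {z t d x : G}

theorem Sm.perp (h : Sm z t d) {ω : G → Fin 6 → ZMod 2} (o : Om z t ω) (hx : x ∈ O2C z)
    (n : x * t ≠ t * x) (e : Eqv z (uu t x) (uu d x)) : pb (ω d) (ω t) = 0 := by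
  have c := h.cz h.r.cz_self
  have d1 := ((uu_eqv_dd h.r.sa hx).symm h.l.zz).trans h.l.zz (e.symm h.l.zz)
  have d2 := dd_mul_eqv_of h.l.lx h.l.comm h.r.comm hx (Or.inl (by
    rw [dd_eqv h.l.comm (h.l.xs.z_comm _ (h.l.sa.uu_mem hx)) d1, dd_eq_one,
      h.l.tyA.comm_s h.l.sa hx]))
  have d3 := eqv_mul h.l.xs (h.l.sa.uu_mem hx) ((uu_eqv_dd h.l.sa hx).symm h.l.zz) d1
  rw [h.l.tyA x hx] at d3
  have := o.pf0 _ (h.l.cz_self.mul c) x hx n (d2.trans h.l.zz d3)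
  rw [o.mul _ _ h.l.cz_self c, pf_add, h.l.sm.pf_d o, h.pf_d o, pb_comm] at this
  simpa [zmod2_add_self] using this

theorem T0.pf_E (h : T0 z t) {ω : G → Fin 6 → ZMod 2} (o : Om z t ω) (hx : x ∈ O2C z)
    (n : x * t ≠ t * x) {e : G} (e1 : e ∈ O2C t) (e2 : e ∈ O2C (x * t * x⁻¹)) :
    e * z = z * e ∧ pf (ω e) = 0 :=
  let ⟨c1, c2⟩ := h.E_cent hx n e1 e2
  ⟨c1, o.pf0 e (h.cz_B e1 c1) x hx n (Or.inl (dd_eq_one.2 c2.symm))⟩

theorem Sm.pe (h : Sm z t d) (hx : x ∈ O2C z) (n : x * t ≠ t * x) (e : Eqv z (uu t x) (uu d x)) :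
    t * d ∈ O2C z := by
  by_contra nq
  obtain ⟨ω, o⟩ := h.l.exists_om
  obtain ⟨ω', o'⟩ := h.l.symm.exists_om
  obtain ⟨ω₂, o₂⟩ := h.r.exists_om
  have l := h.l
  have pd := h.perp o hx n e
  obtain ⟨b, hb, bz, eb, a, ha, at', e1⟩ := l.split o (h.cz h.r.cz_self) pd
  obtain ⟨b', hb', bz', -, a', ha', ad', e2⟩ := h.r.split o₂ (h.symm.cz l.cz_self)
    (h.symm.perp o₂ hx (mt (h.eq x hx).2 n) (e.symm l.zz))
  have cd : Cz t z d := e1 ▸ (l.symm.cz_A hb bz).mul (l.symm.cz_B ha at')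
  have k0 : Pr t d := ⟨l.wt, l.conj.symm.trans h.r.conj, fun c => nq (by rw [c, l.tt]; exact one_mem _), cd.1⟩
  have om' : ∀ {b a}, b ∈ O2C t → b * z = z * b → a ∈ O2C z → a * t = t * a →
      ω' (b * a) = ω' a := fun hb bz ha at' => by
    rw [o'.mul _ _ (l.symm.cz_A hb bz) (l.symm.cz_B ha at'), (o'.ker _ (l.symm.cz_A hb bz)).2 hb,
      zero_add]
  have pb1 : pf (ω b) = 1 := eb ▸ h.pf_d o
  have aa := l.ea a ha at'
  rcases k0.tri with k | k | k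
  · have k1 := o'.pf2 d cd k
    rw [e1, om' hb bz ha at'] at k1
    obtain ⟨-, y, hy, ⟨c, -⟩ | ⟨-, c⟩⟩ := l.symm.sm.dich o' ha at'
    swap
    · exact absurd (k1.symm.trans c) (by decide)
    by_cases n1 : y * t = t * y
    · rw [(uu_eq_one_iff l.tt).2 n1] at c
      exact k.t_not (by rwa [e1, c, mul_one])
    have k2 := l.t2c hy n1
    have k3 : y * t * y⁻¹ = a * t := by rw [c, uu_mul_s l.tt]
    have ab := (l.cz_B hb bz).2 a ha at'
    rcases k2.mem_Ln_of k (by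
      rw [k3, e1, at', ab, mul_assoc, ← mul_assoc a, aa, one_mul]
      exact mul_mem k2.xs.z_mem hb) with c | c | ⟨u, u1, u2, -, c⟩
    · exact k.ne c
    · rw [c, k3, at', ← mul_assoc, l.tt, one_mul] at nq
      exact nq ha
    · rw [e1, k3, at', mul_assoc, ← mul_assoc t, l.tt, one_mul, mul_left_inj] at c
      exact absurd ((c ▸ l.pf_E o hy n1 u1 u2).2.symm.trans pb1) (by decide)
  swap
  · exact absurd (k.card.symm.trans l.symm.card) (by norm_num)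
  have sm' : Sm t z d := ⟨l.symm, k, fun u hu => ⟨fun c => (cd.2 u hu c).symm, fun c =>
    l.symm.comm_of_cz hu ⟨k.xs.z_comm u hu, fun v hv c' => k.ea.comm hu c hv (cd.2 v hv c').symm⟩⟩⟩
  have c1 : ∀ g ∈ O2C d ⊓ centralizer {z}, Cz z t g := fun g hg =>
    h.cz (h.r.cz_B hg.1 (mem_cent.1 hg.2))
  have c2 : ∀ g ∈ O2C d ⊓ centralizer {z}, g * t = t * g := fun g hg =>
    e2 ▸ comm_mul_right (h.r.symm.ea.comm hg.1 (mem_cent.1 hg.2) hb' bz')
      ((c1 g hg).2 a' ha' ((h.eq a' ha').2 ad'))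
  have c3 : ∀ g ∈ O2C d ⊓ centralizer {z}, Cz t z g := fun g hg =>
    sm'.cz (k.cz_B hg.1 (c2 g hg))
  have sq : ∀ g ∈ O2C d ⊓ centralizer {z}, g * g = 1 := fun g hg =>
    h.r.symm.ea g hg.1 (mem_cent.1 hg.2)
  have hd : d ∈ O2C d ⊓ centralizer {z} := ⟨k.symm.xs.z_mem, mem_cent.2 h.r.comm⟩
  have key : ∀ g ∈ O2C d ⊓ centralizer {z}, g ≠ 1 → pb (ω g) (ω t) = 0 → pf (ω g) = 0 →
      pf (ω' g) = 1 := by
    intro g hg g1 g2 g3
    obtain ⟨b, hb, bz, eb, a, ha, at', e1⟩ := l.split o (c1 g hg) g2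
    obtain ⟨-, y, hy, ⟨c, -⟩ | ⟨-, c⟩⟩ := l.sm.dich o hb bz
    swap
    · exact absurd ((eb ▸ c).symm.trans g3) (by decide)
    obtain ⟨-, w, hw, ⟨c', -⟩ | ⟨-, c'⟩⟩ := h.dich o hg.1 (mem_cent.1 hg.2)
    swap
    · exact absurd (c'.symm.trans g3) (by decide)
    have n1 : y * z ≠ z * y := fun n => g1 (h.r.e0 g (by
      rwa [e1, c, (uu_eq_one_iff l.zz).2 n, one_mul]) hg.1)
    have k2 := l.symm.t2c hy n1
    have k3 := h.r.symm.t2c hw fun n => g1 (c'.trans ((uu_eq_one_iff l.zz).2 n))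
    rw [← uu_mul_s l.zz, ← c'] at k3
    have k4 : y * z * y⁻¹ = b * z := by rw [c, uu_mul_s l.zz]
    have bb := l.symm.ea b hb bz
    rcases k2.mem_Ln_of k3 (by
      rw [k4, e1, bz, mul_assoc, ← mul_assoc b, ← mul_assoc b, bb, one_mul]
      exact mul_mem l.xs.z_mem (mul_mem ha l.xs.z_mem)) with c | c | ⟨u, u1, u2, -, c⟩
    · exact absurd c k3.ne
    · rw [k4, mul_left_inj] at c
      exact absurd (k.e0 g (c ▸ hb) hg.1) g1
    obtain ⟨ut, pu⟩ := l.symm.pf_E o' hy n1 u1 u2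
    have cu := l.symm.cz_B u1 ut
    rw [k4, ← mul_assoc, mul_left_inj, e1, ← (l.cz_B hb bz).2 _ (mul_mem u1 l.xs.z_mem)
      (comm_mul_left ut l.comm.symm), mul_right_inj] at c
    rw [e1, om' hb bz ha at', c, o'.mul _ _ cu l.symm.cz_self, pf_add, pu, l.symm.sm.pf_d o',
      (l.symm.sm.dich o' u1 ut).1]
    rfl
  have key2 : ∀ g ∈ O2C d ⊓ centralizer {z}, g ≠ 1 → g ≠ d → pb (ω g) (ω t) = 0 →
      pf (ω g) + pf (ω' g) = 1 := by
    intro g hg g1 g2 g3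
    rcases zmod2_cases (pf (ω g)) with c | c
    · rw [c, key g hg g1 g3 c, zero_add]
    have k1 := key _ (mul_mem hg hd) (mul_ne_one_of_ne h.r.tt g2)
      (by rw [o.mul _ _ (c1 g hg) (c1 d hd), pb_left, g3, pd, add_zero])
      (by rw [o.mul _ _ (c1 g hg) (c1 d hd), pf_add, c, h.pf_d o,
        (h.dich o hg.1 (mem_cent.1 hg.2)).1]; rfl)
    rw [o'.mul _ _ (c3 g hg) cd, pf_add, sm'.pf_d o', (sm'.dich o' hg.1 (c2 g hg)).1] at k1
    rw [c, show pf (ω' g) = 0 by simpa using k1, add_zero]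
  obtain ⟨i, hi⟩ : ∃ i, ω d i = 1 := by
    by_contra m
    push Not at m
    have := h.pf_d o
    rw [show ω d = 0 from funext fun i => (zmod2_cases _).resolve_right (m i)] at this
    exact absurd this (by decide)
  obtain ⟨K, hK, cK⟩ := exists_kerS (S := O2C d ⊓ centralizer {z}) (fun g => pb (ω g) (ω t))
    fun u hu v hv => by rw [o.mul _ _ (c1 u hu) (c1 v hv), pb_left]
  obtain ⟨K', hK', cK'⟩ := exists_kerS (S := K) (fun g => ω g i) fun u hu v hv => by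
    rw [o.mul _ _ (c1 u ((hK u).1 hu).1) (c1 v ((hK v).1 hv).1), Pi.add_apply]
  rw [h.r.symm.card_A] at cK
  have m1 : ∀ g ∈ K', g ∈ O2C d ⊓ centralizer {z} := fun g hg => ((hK g).1 ((hK' g).1 hg).1).1
  have key3 : ∀ g ∈ K', g ≠ 1 → pf (ω g) + pf (ω' g) = 1 := fun g hg g1 =>
    key2 g (m1 g hg) g1 (fun c => by
      have := ((hK' g).1 hg).2
      rw [c, hi] at this
      exact absurd this (by decide)) ((hK g).1 ((hK' g).1 hg).1).2
  obtain ⟨p, hp, q, hq, r, hr, n1, n2, n3, n4, n5, n6, n7⟩ := exists_three (K := K') (by omega)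
  have j1 := key3 p hp n1
  have j2 := key3 q hq n2
  have j3 := key3 r hr n4
  have j4 := key3 _ (mul_mem hp hq) (mul_ne_one_of_ne (sq q (m1 q hq)) n3.symm)
  have j5 := key3 _ (mul_mem hp hr) (mul_ne_one_of_ne (sq r (m1 r hr)) n5.symm)
  have j6 := key3 _ (mul_mem hq hr) (mul_ne_one_of_ne (sq r (m1 r hr)) n6.symm)
  have j7 := key3 _ (mul_mem (mul_mem hp hq) hr) (mul_ne_one_of_ne (sq r (m1 r hr)) n7.symm)
  rw [o.mul _ _ (c1 _ (m1 _ (mul_mem hp hq))) (c1 r (m1 r hr)),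
    o'.mul _ _ (c3 _ (m1 _ (mul_mem hp hq))) (c3 r (m1 r hr))] at j7
  rw [o.mul _ _ (c1 p (m1 p hp)) (c1 q (m1 q hq)), o'.mul _ _ (c3 p (m1 p hp)) (c3 q (m1 q hq))]
    at j4 j7
  rw [o.mul _ _ (c1 p (m1 p hp)) (c1 r (m1 r hr)), o'.mul _ _ (c3 p (m1 p hp)) (c3 r (m1 r hr))]
    at j5
  rw [o.mul _ _ (c1 q (m1 q hq)) (c1 r (m1 r hr)), o'.mul _ _ (c3 q (m1 q hq)) (c3 r (m1 r hr))]
    at j6
  have i1 := pf_cube (ω p) (ω q) (ω r)
  have i2 := pf_cube (ω' p) (ω' q) (ω' r)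
  grind

theorem T0.map_conj (h : T0 z t) (g : G) : T0 (g * z * g⁻¹) (g * t * g⁻¹) := by
  have k : ∀ {z t : G}, TyI (O2C z) z t → TyI (O2C (g * z * g⁻¹)) (g * z * g⁻¹) (g * t * g⁻¹) :=
    fun h y hy c => h _ (mem_O2C_conj.1 hy) (by
      rw [show y = g * (g⁻¹ * y * g) * g⁻¹ by group, uu_conj] at c
      simpa using c)
  exact ⟨h.toPr.map_conj g, (card_O2C_conj (isConj_cj g z)).trans h.card, fun e h1 h2 => by
    simpa [mul_assoc, inv_mul_eq_iff_eq_mul] using h.e0 _ (mem_O2C_conj.1 h1) (mem_O2C_conj.1 h2),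
    k h.i1, k h.i2⟩

theorem T0.conj_right (h : T0 z t) {g : G} (hg : g * z = z * g) : T0 z (g * t * g⁻¹) := by
  simpa only [conj_eq_of_comm hg] using h.map_conj g

theorem T0.equiv (h : T0 z t) : Nonempty (centralizer ({z} : Set G) ⧸
    pCore 2 (centralizer ({z} : Set G)) ≃* Matrix.symplecticGroup (Fin 3) (ZMod 2)) := by
  obtain ⟨V, _, _, θ, B, q, A, L⟩ := XSC.exists_ln h.lx (n := 4) h.card
  let r : centralizer ({z} : Set G) →* Module.End (ZMod 2) V :=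
    { toFun := fun g => A g
      map_one' := LinearMap.ext fun v => L.A_mem (one_mem _) v
      map_mul' := fun g k => LinearMap.ext fun v => L.A_mul (mem_cent.1 g.2) (mem_cent.1 k.2) v }
  have hr : ∀ g, r g = 1 ↔ g ∈ pCore 2 (centralizer ({z} : Set G)) := fun g =>
    ⟨fun e => coe_mem_map_subtype.1 (L.mem_of_A (mem_cent.1 g.2) fun v => LinearMap.congr_fun e v),
      fun e => LinearMap.ext fun v => L.A_mem (coe_mem_map_subtype.2 e) v⟩
  let ρ := QuotientGroup.lift _ r fun g => (hr g).2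
  let D : Set (centralizer ({z} : Set G) ⧸ pCore 2 (centralizer ({z} : Set G))) :=
    {T | ∃ g : centralizer ({z} : Set G), T0 z g ∧ (g : _ ⧸ pCore 2 _) = T}
  have hn : ∀ g : centralizer ({z} : Set G), nn ρ g = na A g := fun g => rfl
  have cj : ∀ T ∈ D, ∀ g, g * T * g⁻¹ ∈ D := by
    rintro _ ⟨t, ht, rfl⟩ g
    obtain ⟨g, rfl⟩ := QuotientGroup.mk_surjective g
    exact ⟨g * t * g⁻¹, ht.conj_right (mem_cent.1 g.2), rfl⟩
  refine SpS.equiv (B := B) (ρ := ρ) (D := D) ⟨(injective_iff_map_eq_one ρ).2 fun g e => ?_, ?_, cj,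
    ?_, ?_, ?_, ⟨_, ⟨t, mem_cent.2 h.comm⟩, h, rfl⟩⟩
  · obtain ⟨g, rfl⟩ := QuotientGroup.mk_surjective g
    exact (QuotientGroup.eq_one_iff g).2 ((hr g).1 e)
  · rintro _ ⟨t, ht, rfl⟩
    have := ht.a4 L
    exact this
  · rintro _ ⟨t, ht, rfl⟩ x y e
    have a := ht.a4 L
    obtain ⟨x1, n⟩ := a.exists_ne
    obtain ⟨x2, x3, x4, s⟩ := a.exists_sb n
    obtain ⟨b, hb, bz, e'⟩ := ht.surj (ht.om L s) ((a.pb_sg s x y).trans e)
    exact ⟨(⟨b, mem_cent.2 bz⟩ : centralizer ({z} : Set G)),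
      a.eq_of_omv s (ht.ry L (ht.cz_B hb bz)) (a.ry_sg x y) e'⟩
  · rintro _ ⟨t, ht, rfl⟩ _ ⟨d, hd, rfl⟩ e x n e'
    simp only [hn] at e n e'
    have a := ht.a4 L
    have a' := hd.a4 L
    obtain ⟨x, hx, rfl⟩ := L.surj x
    have k := Sm.pe ⟨ht, hd, fun u hu => ?_⟩ hx (mt (ht.na_ker L hx).2 n) (by
      rwa [na_uu L ht.toPr hx, na_uu L hd.toPr hx, L.eq_iff (ht.sa.uu_mem hx) (hd.sa.uu_mem hx)]
        at e')
    · refine QuotientGroup.eq.2 (coe_mem_map_subtype.1 ?_)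
      rwa [coe_mul, coe_inv, inv_eq_of_mul_eq_one_right ht.tt]
    rw [← ht.na_ker L hu, ← hd.na_ker L hu]
    refine ⟨fun c => ?_, fun c => ?_⟩
    · obtain ⟨w, c⟩ := a.ker _ c
      rw [c, e]
    · obtain ⟨w, c⟩ := a'.ker _ c
      exact a.eq_zero fun v => by rw [c, ← a'.adj, e, map_zero, LinearMap.zero_apply]
  · rintro _ ⟨t, ht, rfl⟩
    by_contra n
    push Not at n
    have k : IsPGroup 2 (normalClosure {(t : _ ⧸ pCore 2 (centralizer ({z} : Set G)))}) := by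
      refine isPGroup_closure_of_commute (fun a ha => ?_) fun a ha b hb => ?_
      · obtain ⟨g, rfl⟩ := isConj_iff.1 (by simpa using Group.mem_conjugatesOfSet_iff.1 ha)
        rw [conj_mul, ← QuotientGroup.mk_mul, show t * t = 1 from Subtype.ext ht.tt]
        simp
      · obtain ⟨g, rfl⟩ := isConj_iff.1 (by simpa using Group.mem_conjugatesOfSet_iff.1 ha)
        obtain ⟨k, rfl⟩ := isConj_iff.1 (by simpa using Group.mem_conjugatesOfSet_iff.1 hb)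
        have := (comm_conj_iff g _ _).2 (n _ (cj _ ⟨t, ht, rfl⟩ (g⁻¹ * k)))
        simpa [mul_assoc, Commute, SemiconjBy] using this
    have k1 := Grp.le_pCore inferInstance k (subset_normalClosure rfl)
    rw [Grp.pCore_quotient_pCore, mem_bot, QuotientGroup.eq_one_iff] at k1
    exact ht.t_not (coe_mem_map_subtype.2 k1)

end Cfsg.Agent.XW
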