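import Cfsg.Agent.XW.G
import Cfsg.Agent.XW.K
import Cfsg.Agent.LES.Setting
import Cfsg.Agent.U6R.Top
import Cfsg.Agent.TT.LocAut
import Cfsg.Agent.Class.U.Simple
import Cfsg.Agent.PLocal.PConstr

/-! Weakly closed large extraspecial subgroups: the three cases. -/

set_option autoImplicit false

namespace Cfsg.Agent.XW

open Subgroup TT LES XSC.WC

variable {G : Type*} [Group G] [Finite G] {z t : G}

theorem WS.of_fstar (hz : orderOf z = 2)
    (hE : IsExtraspecial 2 (generalizedFittingSubgroup (centralizer ({z} : Set G))))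
    (h32 : 32 ≤ Nat.card (generalizedFittingSubgroup (centralizer ({z} : Set G))))
    (hw : ¬ ∃ g : G, g * z * g⁻¹ ≠ z ∧ g * z * g⁻¹ ∈
      (generalizedFittingSubgroup (centralizer ({z} : Set G))).map
        (centralizer ({z} : Set G)).subtype) :
    WS z ∧ Nat.card (O2C z) = Nat.card (generalizedFittingSubgroup (centralizer ({z} : Set G))) := by
  have h1 := LX_of_fstar_eq hz _ rfl hE
  have h2 := eq_O2C_of_fstar_eq hz _ rfl hE
  have h3 := card_map_subtype (generalizedFittingSubgroup (centralizer ({z} : Set G)))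
  rw [h2] at h1 h3 hw
  refine ⟨⟨⟨h1, fun s hs c => ?_⟩, h3 ▸ h32⟩, h3⟩
  obtain ⟨g, rfl⟩ := isConj_iff.1 c
  by_contra n
  exact hw ⟨g, n, hs⟩

theorem WS.cases (h : WS z) (hO : oddCore G = ⊥) (hz : z ∉ center G) :
    (∃ t, Tc z t) ∨ (∃ t, T0 z t) ∨ (AT z ∧ ∃ t, T2 z t) := by
  by_contra k
  simp only [not_or, not_exists, not_and] at k
  have hA : AT z := ⟨h, fun t ht => ht.tri.resolve_right fun c => c.elim (k.2.1 t) (k.1 t)⟩
  have hi : IsIsolatedInvolution z := ⟨orderOf_eq_prime (by rw [pow_two, h.zz]) h.xs.z_ne, fun g c => by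
    by_contra n
    exact k.2.2 hA _ (hA.t2 _ ⟨h, isConj_cj g z, n, c.eq.symm⟩)⟩
  have := U6R.sup_eq_top_of_isolated hi
  rw [hO, sup_bot_eq] at this
  exact hz (mem_center_iff.2 fun g => mem_centralizer_singleton_iff.1 (this ▸ mem_top g))

theorem normalClosure_eq (z : G) : normalClosure {z} = closure (conjugatesOf z) := by
  simp [normalClosure, Group.conjugatesOfSet]

theorem AT.fstar (h : AT z) (ht : T2 z t) : normalClosure {z} = generalizedFittingSubgroup G ∧
    ∃ n, 4 ≤ n ∧ IsU (conjugatesOf z) n ∧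
      Nonempty (generalizedFittingSubgroup G ≃* PSU n Class.GF4 2) := by
  obtain ⟨n, h4, hU, hc, ⟨e⟩⟩ := h.equiv ht
  have : Class.U.UF Class.GF4 2 := Class.U.UF.of_card Class.card_GF4
  have := Class.U.isSimpleGroup_PSU (F := Class.GF4) (q := 2) (n := n) (by omega) (by omega)
  have hs := e.isSimpleGroup
  rw [← normalClosure_eq] at hc hs e
  have k : generalizedFittingSubgroup G = normalClosure {z} :=
    fstar_eq_of_comp ⟨normalClosure_normal.isSubnormal, PLocal.qs_of_simple hs fun c =>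
      (nontrivial_iff_ne_bot _).1 hs.toNontrivial
        (le_bot_iff.1 (hc ▸ (normalClosure {z}).le_centralizer))⟩ (hc ▸ bot_le)
  exact ⟨k.symm, n, h4, hU, ⟨k ▸ e⟩⟩

theorem WS.center_eq_bot (h : WS z) (hz : z ∉ center G) : center G = ⊥ :=
  eq_bot_iff.2 fun g hg => (h.lx.eq_of_comm fun x _ => mem_center_iff.1 hg x).resolve_right
    fun e => hz (e ▸ hg)

theorem WS.pCore_eq (h : WS z) :
    pCore 2 (centralizer ({z} : Set G)) = (O2C z).subgroupOf (centralizer ({z} : Set G)) := by
  ext x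
  rw [← coe_mem_map_subtype, mem_subgroupOf]
  rfl

theorem WS.constrained (h : WS z) : IsPConstrained 2 (centralizer ({z} : Set G)) := by
  have : Fact (Nat.Prime 2) := ⟨Nat.prime_two⟩
  refine PLocal.isPConstrained_of_charP ((PLocal.fstar_eq_pCore_iff 2).1 ?_)
  rw [fstar_eq_of_LX h.lx le_rfl, h.pCore_eq]

theorem WS.extraspecial (h : WS z) : IsExtraspecial 2 (pCore 2 (centralizer ({z} : Set G))) := by
  rw [h.pCore_eq]
  exact isExtraspecial_subgroupOf h.lx

theorem fstar_of_simple [IsSimpleGroup G] (hz : z ≠ 1) :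
    normalClosure {z} = ⊤ ∧ generalizedFittingSubgroup G = ⊤ := by
  refine ⟨(normalClosure_normal.eq_bot_or_eq_top).resolve_left fun c =>
    hz (mem_bot.1 (c ▸ subset_normalClosure (Set.mem_singleton z))),
    ((inferInstance : (generalizedFittingSubgroup G).Normal).eq_bot_or_eq_top).resolve_left
      fun c => hz ?_⟩
  have := PLocal.centralizer_fstar_le G
  rw [c] at this
  exact this fun x hx => by rw [mem_bot.1 hx, one_mul, mul_one]

end Cfsg.Agent.XW
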