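import Mathlib
import Cfsg.Agent.XW.F
import Cfsg.Agent.TT.TildeEnd
import Cfsg.Agent.TT.LocV
import Cfsg.Agent.TT.Models

/-! The unitary case: all commuting pairs have rank two. -/

set_option autoImplicit false

namespace Cfsg.Agent.XW

open Subgroup Cfsg.Agent.TT Cfsg.Agent.LES Cfsg.Agent.XSC.WC

variable {G : Type*} [Group G]

/-- an application of the `Z*`-theorem to `C(w)/⟨w⟩` -/
theorem cent_mod [Finite G] {w u : G} {l : List G} (ww : w * w = 1) (hul : u ∈ l) (u1 : u ≠ 1)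
    (u2 : u ≠ w) (hsq : ∀ p ∈ l, p * p = 1) (hw : ∀ p ∈ l, p * w = w * p)
    (hc : ∀ p ∈ l, ∀ q ∈ l, p * q = q * p) (ho : Odd l.length) (h1 : l.prod = 1)
    (iso : ∀ k, k * w = w * k → Eqv w (k * u * k⁻¹ * u * (k * u * k⁻¹)⁻¹) u → Eqv w (k * u * k⁻¹) u)
    (hM : ∀ p ∈ l, ∀ k, k * w = w * k → Eqv w (k * p * k⁻¹) p → Eqv w (k * u * k⁻¹) u)
    {g : G} (hg : g * w = w * g) : Eqv w (g * u * g⁻¹) u := by
  classical
  let K := centralizer ({w} : Set G)
  have hl' : ∀ p ∈ l, p ∈ K := fun p hp => mem_cent.2 (hw p hp)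
  let v : K := ⟨w, mem_cent.2 rfl⟩
  have hv : v * v = 1 := Subtype.ext ww
  have hN : (zpowers v).Normal := ⟨fun n hn k => by
    rcases (mem_zpowers_invol hv).1 hn with rfl | rfl
    · simp
    · rw [conj_eq_of_comm (Subtype.ext (mem_cent.1 k.2))]; exact hn⟩
  have hq : ∀ x y : K, (x : K ⧸ zpowers v) = y ↔ Eqv w (y : G) x := fun x y => by
    rw [QuotientGroup.eq, mem_zpowers_invol hv, inv_mul_eq_one, inv_mul_eq_iff_eq_mul,
      Subtype.ext_iff, Subtype.ext_iff, eq_comm]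
    rfl
  let f : G → K ⧸ zpowers v := fun x => if hx : x ∈ K then (⟨x, hx⟩ : K) else 1
  have hf : ∀ x (hx : x ∈ K), f x = (⟨x, hx⟩ : K) := fun x hx => dif_pos hx
  have hcomm : ∀ x y : K, Commute (x : K ⧸ zpowers v) y ↔ Eqv w (x * y * (x : G)⁻¹) y :=
    fun x y => by
      refine Iff.trans ?_ (hq y (x * y * x⁻¹))
      rw [QuotientGroup.mk_mul, QuotientGroup.mk_mul, QuotientGroup.mk_inv, eq_mul_inv_iff_mul_eq]
      exact eq_comm
  have hiso : ∀ k : K ⧸ zpowers v, Commute (k * f u * k⁻¹) (f u) → k * f u * k⁻¹ = f u := by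
    intro k hk
    obtain ⟨k, rfl⟩ := QuotientGroup.mk_surjective k
    rw [hf u (hl' u hul), ← QuotientGroup.mk_inv, ← QuotientGroup.mk_mul,
      ← QuotientGroup.mk_mul] at hk ⊢
    exact ((hq _ _).2 (iso k (mem_cent.1 k.2) ((hcomm _ _).1 hk))).symm
  have := eq_top_of_isolated (centralizer {f u}) (u := f u) (l := l.map f)
    ⟨?_, fun k hk => hiso k hk.symm⟩ (List.mem_map_of_mem hul) ?_ ?_ (by simpa using ho) ?_ ?_
    (fun k hk => mem_cent.2 (comm_of_conj_eq (hiso k (mem_cent.1 hk)))) (⟨g, mem_cent.2 hg⟩ : K)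
  · rw [mem_cent, hf u (hl' u hul)] at this
    exact (hcomm _ _).1 this
  · rw [hf u (hl' u hul)]
    refine orderOf_eq_two_of (fun c => ?_) ?_
    · rcases (hq 1 _).1 c.symm with c | c
      exacts [u1 c, u2 (by simpa using c)]
    · rw [← QuotientGroup.mk_mul]
      exact congrArg _ (Subtype.ext (hsq u hul))
  · intro p hp0
    obtain ⟨p, hp, rfl⟩ := List.mem_map.1 hp0
    rw [hf p (hl' p hp), ← QuotientGroup.mk_mul]
    exact congrArg _ (Subtype.ext (hsq p hp))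
  · intro p hp0 q hq0
    obtain ⟨p, hp, rfl⟩ := List.mem_map.1 hp0
    obtain ⟨q, hq, rfl⟩ := List.mem_map.1 hq0
    rw [hf p (hl' p hp), hf q (hl' q hq)]
    exact (hcomm _ _).2 (Or.inl (conj_eq_of_comm (hc p hp q hq)))
  · have : ∀ s : List G, (hs : ∀ p ∈ s, p ∈ K) →
        (s.map f).prod = (⟨s.prod, K.list_prod_mem hs⟩ : K) := fun s hs => by
      induction s with
      | nil => rfl
      | cons a s ih =>
        rw [List.map_cons, List.prod_cons, ih fun p hp => hs p (by simp [hp]),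
          hf a (hs a (by simp)), ← QuotientGroup.mk_mul]
        rfl
    rw [this _ hl']
    exact congrArg _ (Subtype.ext h1)
  · intro p hp0 k hk
    obtain ⟨p, hp, rfl⟩ := List.mem_map.1 hp0
    obtain ⟨k, rfl⟩ := QuotientGroup.mk_surjective k
    rw [hf p (hl' p hp)] at hk
    rw [mem_cent, hf u (hl' u hul)]
    exact (hcomm _ _).2 (hM p hp k (mem_cent.1 k.2) ((hcomm _ _).1 hk))

namespace AT

variable {z t s e a b d p q : G} [Finite G] (h : AT z)
include h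

theorem eq_or_of_comm (ht : T2 z t) {k : G} (hk : k * (z * t) = z * t * k)
    (c : k * z * k⁻¹ * z = z * (k * z * k⁻¹)) : k * z * k⁻¹ = z ∨ k * z * k⁻¹ = t := by
  have e : k * z * k⁻¹ * (k * t * k⁻¹) = z * t := by rw [conj_mul, conj_eq_of_comm hk]
  have k1 := ht.map_conj k
  have c1 : k * t * k⁻¹ * z = z * (k * t * k⁻¹) := by
    rw [show k * t * k⁻¹ = k * z * k⁻¹ * (z * t) by rw [← e, ← mul_assoc, k1.zz, one_mul]]
    exact comm_mul_left c (comm_mul_left rfl ht.comm)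
  by_contra n
  push Not at n
  by_cases n' : k * t * k⁻¹ = z
  · rw [n', ← ht.comm] at e
    exact n.2 (mul_right_cancel e)
  refine h.uf_loc (h.mk1 (isConj_cj k z) n.1 c) (h.mk1 (ht.conj.trans (isConj_cj k t)) n' c1)
    k1.comm.symm ht ?_
  rw [e, mul_assoc, ht.tt, mul_one]
  exact ht.xs.z_mem

/-- the centraliser of `z * t` normalises `{z, t}` -/
theorem cent_pair (ht : T2 z t) {g : G} (hg : g * (z * t) = z * t * g) :
    g * z * g⁻¹ = z ∨ g * z * g⁻¹ = t := by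
  have e : z * (z * t) = t := by rw [← mul_assoc, ht.zz, one_mul]
  have e' : t * (z * t) = z := by rw [← ht.comm, ← mul_assoc, ht.tt, one_mul]
  have ww : z * t * (z * t) = 1 := by rw [mul_assoc, e', ht.zz]
  obtain ⟨p, q, r, -, k3, k4⟩ := ht.five
  have k5 : ∀ k, k * (z * t) = z * t * k → k * z * k⁻¹ * z = z * (k * z * k⁻¹) →
      Eqv (z * t) (k * z * k⁻¹) z := fun k hk c => by
    rw [Eqv, e]; exact h.eq_or_of_comm ht hk c
  rw [← e]
  refine cent_mod (l := [z, t, p, q, r]) ww (by simp) ht.xs.z_ne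
    (fun c => ht.t_not (mul_eq_left.1 c.symm ▸ one_mem _))
    (fun u hu => h.ws.sq (ht.conj_of_mem ((k4 u).2 hu))) (fun u hu => comm_mul_right
      (ht.comm_of_mem ((k4 u).2 hu) (left_mem_Ln _ _))
      (ht.comm_of_mem ((k4 u).2 hu) (right_mem_Ln _ _)))
    (fun u hu v hv => ht.comm_of_mem ((k4 u).2 hu) ((k4 v).2 hv)) (by simp; decide)
    (by simpa [mul_assoc] using k3) (fun k hk c => k5 k hk ?_) (fun u hu k hk c => ?_) hg
  · rcases c with c | c
    exacts [comm_of_conj_eq c, (h.not_swap0 ht (isConj_cj k z) (c.trans e)).elim]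
  have k6 : k * (z * t) * k⁻¹ = z * t := conj_eq_of_comm hk
  rcases (k4 u).2 hu with rfl | rfl | ⟨a, a1, a2, a3, rfl⟩
  · exact c
  · rw [Eqv, e]
    rw [← conj_mul] at k6
    rcases c with c | c
    · exact Or.inl (mul_right_cancel (c ▸ k6))
    · rw [c, e', ← ht.comm] at k6
      exact Or.inr (mul_right_cancel k6)
  have k7 := ht.t2_pt a1 a2 a3
  have k8 : a * z * t * (z * t) = a := by rw [mul_assoc a, mul_assoc, ww, mul_one]
  rcases c with c | c
  swap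
  · rw [k8] at c
    exact absurd (h.ws.wk.wc a a1 (c ▸ k7.conj.trans (isConj_cj k _))) (ht.E_ne_z a2)
  by_cases n : k * z * k⁻¹ = z
  · exact Or.inl n
  refine k5 k hk ?_
  obtain ⟨k9, k10⟩ := ht.pair (pt_mem_Ln a1 a2 a3) (left_mem_Ln _ _) k7.ne.symm
  have k11 : T2 (a * z * t) (k * z * k⁻¹) := c ▸ k9.map_conj k
  have ka : k * a * k⁻¹ = a := by
    rw [← k8, ← conj_mul, c, k6]
  have a4 : a ∈ O2C (a * z * t) := by
    obtain ⟨x, hx, ex, c', -⟩ := ht.exists_x a1 a2 a3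
    rw [← ex]
    simpa only [conj_eq_of_comm c'] using conj_mem_O2C_conj x a2
  have := k9.mem_Ln_of k11 ((h.of_isConj k7.conj).disj k9 k11 a4 a1 a3
    (ka ▸ conj_mem_O2C_conj k a1) (Or.inl rfl))
  exact ht.comm_of_mem (k10 ▸ this) (left_mem_Ln _ _)

theorem comm_of_pair (ha : IsConj z a) (hab : T2 a b) (hd : IsConj z d)
    (c : d * (a * b) = a * b * d) : d * a = a * d := by
  have k := h.of_isConj ha
  exact comm_of_conj_eq ((k.cent_pair hab c).resolve_right (k.not_swap0 hab (ha.symm.trans hd)))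

theorem fix_pt (ht : T2 z t) {v : G} (vv : v * v = 1) (c : v * (z * t) = z * t * v) :
    ∃ p ∈ Ln z t, v * p = p * v := by
  rcases h.cent_pair ht c with c | c
  · exact ⟨z, left_mem_Ln _ _, comm_of_conj_eq c⟩
  · obtain ⟨p, hp, -, -, c⟩ := ht.swap_fix vv c
    exact ⟨p, hp, c⟩

theorem comm_of_prod (ha : IsConj z a) (hb : IsConj z b) (n : b ≠ a) (c : b * a = a * b)
    (hd : IsConj z d) (c' : d * (a * b) = a * b * d) : d * a = a * d :=
  h.comm_of_pair ha (h.mk2 ha hb n c) hd c'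

theorem key (ht : T2 z t) (hd : IsConj z d) : (∃ p ∈ Ln z t, d * p = p * d) ∨
    ∃ f, IsConj z f ∧ f * z = z * f ∧ f * t = t * f ∧ f ∉ Ln z t ∧
      d * (f * (z * t)) = f * (z * t) * d := by
  have ww : z * t * (z * t) = 1 := by
    rw [mul_assoc, ← mul_assoc t, ht.comm, mul_assoc, ht.tt, mul_one, ht.zz]
  have dd := h.ws.sq hd
  rcases Nat.even_or_odd (orderOf (d * (z * t))) with hev | hodd
  swap
  · obtain ⟨m, hm⟩ := conj_of_odd_orderOf_mul dd ww hodd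
    exact absurd (hd.trans (hm ▸ isConj_cj _ d)) ht.not_conj
  obtain ⟨k, h1, h2, h3, h4, h5⟩ := exists_central_of_even_orderOf_mul dd ww hev
  have h6 : ∀ m : ℕ, Commute ((d * (z * t)) ^ m) ((d * (z * t)) ^ k) := fun m =>
    (Commute.refl _).pow_pow m k
  generalize (d * (z * t)) ^ k = v at h1 h2 h3 h4 h5 h6
  rcases h5 with ⟨m, c⟩ | ⟨m, c⟩
  · obtain ⟨p, hp, c1⟩ := h.fix_pt ht h2 h4.symm
    refine Or.inl ⟨p, hp, (h.comm_of_prod (b := d * v) hd (hd.trans ?_) (by simpa using h1)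
      (comm_mul_left rfl h3.symm) (ht.conj_of_mem hp) ?_).symm⟩
    · simpa [c] using isConj_cj ((d * (z * t)) ^ m)⁻¹ d
    · rw [← mul_assoc d, dd, one_mul, c1]
  have h7 := h6 m
  generalize (d * (z * t)) ^ m = c₀ at c h7
  have h8 : z * t * v = c₀ * d * c₀⁻¹ := by
    rw [show z * t = c₀ * (d * v) * c₀⁻¹ by rw [c]; group, mul_assoc _ _ v, h7.inv_left.eq,
      mul_assoc, mul_assoc, ← mul_assoc v, h2]
    group
  have h9 : IsConj z (z * t * v) := h8 ▸ hd.trans (isConj_cj _ d)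
  have h10 : z * t * v * (z * t) = z * t * (z * t * v) := comm_mul_left rfl h4.symm
  have h11 : z * t * v * (z * t) = v := by rw [h10, ← mul_assoc, ww, one_mul]
  have h12 := h.comm_of_pair (IsConj.refl z) ht h9 h10
  have h13 := h.comm_of_pair ht.conj ht.symm h9 (ht.comm ▸ h10)
  generalize z * t * v = f at h9 h10 h11 h12 h13
  by_cases n : f ∈ Ln z t
  swap
  · exact Or.inr ⟨f, h9, h12, h13, n, h11 ▸ h3⟩
  left
  rcases n with rfl | rfl | ⟨e, e1, e2, e3, rfl⟩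
  · exact ⟨t, right_mem_Ln _ _, by rwa [← h11, ← mul_assoc f, ht.zz, one_mul] at h3⟩
  · exact ⟨z, left_mem_Ln _ _, by rwa [← h11, ← ht.comm, ← mul_assoc f, ht.tt, one_mul] at h3⟩
  obtain ⟨a, a1, a2, a3, a4⟩ := ht.exists_ne e
  have k1 := pt_mem_Ln a1 a2 a3
  have k2 := pt_mem_Ln (mul_mem a1 e1) (mul_mem a2 e2) (mul_ne_one_of_ne (ht.E_sq e1 e2) a4)
  refine ⟨_, k1, h.comm_of_prod (ht.conj_of_mem k1) (ht.conj_of_mem k2) (by simpa using e3)
    (ht.comm_of_mem k2 k1) hd ?_⟩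
  rw [mul_assoc e, mul_assoc e, ww, mul_one] at h11
  have k3 : a * e * (z * t) = z * t * (a * e) :=
    comm_mul_right (ht.xs.z_comm _ (mul_mem a1 e1)) (ht.E_t (mul_mem a2 e2))
  rwa [mul_assoc (a * e), k3, mul_assoc a, mul_assoc a, ← mul_assoc (z * t), ww, one_mul,
    ← mul_assoc a, ht.E_sq a1 a2, one_mul, h11]

theorem tri_ne (ha : T2 z a) (hb : T2 z b) (c : a * b = b * a) (n : a * b ∉ O2C z)
    (e1 : e ∈ O2C z) (e2 : e ∈ O2C a) (e3 : e ≠ 1) (hp : IsConj z p) (hq : IsConj z q)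
    (n' : q ≠ p) (c' : q * p = p * q) : e * b ≠ p * q := by
  intro k
  have eb := h.E_comm ha hb c e1 e2
  have k1 : z * (p * q) = p * q * z :=
    k ▸ comm_mul_right (ha.xs.z_comm e e1).symm hb.comm.symm
  have k2 := h.comm_of_prod hp hq n' c' (IsConj.refl z) k1
  have k3 := h.comm_of_prod hq hp n'.symm c'.symm (IsConj.refl z) (c' ▸ k1)
  have key : ∀ q, IsConj z q → q ≠ z → q * z = z * q → e * b ≠ z * q := fun q hq n' c' k => by
    have k4 : q = e * z * b := by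
      rw [ha.xs.z_comm e e1, mul_assoc, k, ← mul_assoc, ha.zz, one_mul]
    have k5 := hb.mem_Ln_of (h.mk1 hq n' c') (by
      rw [k4, comm_mul_left eb hb.comm.symm, ← mul_assoc, hb.tt, one_mul]
      exact mul_mem e1 ha.xs.z_mem)
    rcases k5 with k5 | k5 | ⟨u, u1, u2, u3, k5⟩
    · exact n' k5
    · rw [k5, eq_comm, mul_eq_right] at k4
      exact ha.z_not ((mul_mem_cancel_left e2).1 (k4 ▸ one_mem _))
    · rw [k5, mul_left_inj, mul_left_inj] at k4
      exact n (h.disj ha hb e1 e2 e3 u2 (Or.inl k4.symm))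
  by_cases n1 : p = z
  · subst n1; exact key q hq n' c' k
  by_cases n2 : q = z
  · subst n2; exact key p hp n1 c'.symm (k.trans c'.symm)
  refine h.uf_loc (h.mk1 hp n1 k2.symm) (h.mk1 hq n2 k3.symm) c'.symm hb ?_
  rwa [← k, mul_assoc, hb.tt, mul_one]

theorem odd_of_not_mem (ha : a ∈ ccpt (conjugatesOf z) z) (hd : IsConj z d)
    (n : d ∉ ccpt (conjugatesOf z) z) : Odd (orderOf (a * d)) := by
  rw [← Nat.not_even_iff_odd]
  intro hev
  have aa := h.ws.sq ha.1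
  obtain ⟨k, h1, -, h3, h4, h5⟩ := exists_central_of_even_orderOf_mul aa (h.ws.sq hd) hev
  refine n (mem_ccpt_of_commute ha hd (h.comm_of_prod (b := a * (a * d) ^ k) ha.1 ?_
    (by simpa using h1) (comm_mul_left rfl h3.symm) hd
    (by rwa [← mul_assoc a, aa, one_mul])).symm)
  rcases h5 with ⟨m, c⟩ | ⟨m, c⟩ <;> rw [c]
  · simpa using ha.1.trans (isConj_cj ((a * d) ^ m)⁻¹ a)
  · simpa using hd.trans (isConj_cj ((a * d) ^ m)⁻¹ d)

theorem mem_ccpt (ht : T2 z t) (hd : IsConj z d) : d ∈ ccpt (conjugatesOf z) z := by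
  have hz : z ∈ ccpt (conjugatesOf z) z := self_mem_ccpt (IsConj.refl z)
  by_contra n
  rcases h.key ht hd with ⟨p, hp, c⟩ | ⟨f, f1, f2, f3, f4, c⟩
  · exact n (mem_ccpt_of_commute (mem_ccpt_of_commute hz (ht.conj_of_mem hp)
      (ht.comm_of_mem (left_mem_Ln _ _) hp)) hd c.symm)
  have k1 : T2 f z := h.mk2 f1 (IsConj.refl z) (fun c => f4 (c ▸ left_mem_Ln _ _)) f2.symm
  have k2 : T2 f t := h.mk2 f1 ht.conj (fun c => f4 (c ▸ right_mem_Ln _ _)) f3.symm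
  obtain ⟨e, e1, e2, e3, -⟩ := k1.exists_ne 1
  have k3 := pt_mem_Ln e1 e2 e3
  have k4 := f1.trans (k1.conj_of_mem k3)
  have k5 := k1.comm_of_mem k3 (right_mem_Ln _ _)
  have k6 := (h.of_isConj f1).comm_line k1 (f1.symm.trans ht.conj) f3.symm ht.comm k3
  have h15 : ∀ x, IsConj z x → x * z = z * x → x * (f * (z * t)) = f * (z * t) * x →
      ∃ c, Commute c (f * (z * t)) ∧ c * x * c⁻¹ = d := fun x hx hxz hxw =>
    let ⟨m, hm⟩ := conj_of_odd_orderOf_mul (h.ws.sq hx) (h.ws.sq hd)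
      (h.odd_of_not_mem (mem_ccpt_of_commute hz hx hxz.symm) hd n)
    ⟨_, (Commute.mul_left hxw c).pow_left m, hm⟩
  obtain ⟨c₁, h16, h17⟩ := h15 _ k4 k5 (comm_mul_right (k1.comm_of_mem k3 (left_mem_Ln _ _))
    (comm_mul_right k5 k6.symm))
  obtain ⟨c₂, h18, h19⟩ := h15 f f1 f2 (comm_mul_right rfl (comm_mul_right f2 f3))
  have h20 : c₁⁻¹ * c₂ * f * (c₁⁻¹ * c₂)⁻¹ = e * f * z := by
    rw [← conj_inj c₁, h17, ← h19]; group
  have h22 := conj_eq_of_commute (h16.inv_left.mul_left h18)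
  generalize c₁⁻¹ * c₂ = c at h20 h22
  have k7 := ht.map_conj c
  refine (h.of_isConj f1).tri_ne k1 k2 ht.comm.symm (fun c => f4 ?_) e1 e2 e3
    (f1.symm.trans (isConj_cj c z)) (f1.symm.trans (ht.conj.trans (isConj_cj c t))) k7.ne k7.comm ?_
  · exact (k1.pair (right_mem_Ln _ _) (k1.mem_Ln_of k2 c) ht.ne).2 ▸ left_mem_Ln _ _
  · have : c * f * c⁻¹ * (c * (f * (z * t)) * c⁻¹) = c * z * c⁻¹ * (c * t * c⁻¹) := by
      rw [conj_mul, conj_mul, ← mul_assoc f, k1.zz, one_mul]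
    rw [← this, h20, h22, mul_assoc e, mul_assoc e, f2]
    simp [mul_assoc, ← mul_assoc f f, ← mul_assoc z z, k1.zz, k1.tt]

theorem exists_off {a₀ b₀ : G} (h1 : T2 z a₀) (h2 : T2 z b₀) (c : a₀ * b₀ = b₀ * a₀)
    (n : b₀ ∉ Ln z a₀) (ha : T2 z a) : ∃ b, T2 z b ∧ a * b = b * a ∧ b ∉ Ln z a := by
  have k := h.mk2 h1.conj h2.conj (fun c => n (c ▸ right_mem_Ln _ _)) c.symm
  have k0 : z ∉ Ln a₀ b₀ := fun c => n
    ((k.pair c (left_mem_Ln _ _) h1.ne).2 ▸ right_mem_Ln _ _)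
  have k1 : ∀ p ∈ Ln a₀ b₀, T2 z p := fun p hp => h.mk1 (h1.conj.trans (k.conj_of_mem hp))
    (fun c => k0 (c ▸ hp)) ((h.of_isConj h1.conj).comm_line k h1.conj.symm h1.comm.symm
      h2.comm.symm hp).symm
  obtain ⟨u, hu, c1⟩ := h.parity h1.conj k h1.comm h2.comm ha.conj ha.comm
  by_cases n1 : u ∈ Ln z a
  swap
  · exact ⟨u, k1 u hu, c1, n1⟩
  obtain ⟨v, hv, n2⟩ : ∃ v ∈ Ln a₀ b₀, v ≠ u := by
    by_cases e : a₀ = u
    exacts [⟨b₀, right_mem_Ln _ _, e ▸ k.ne⟩, ⟨a₀, left_mem_Ln _ _, e⟩]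
  refine ⟨v, k1 v hv, (h.comm_line' (IsConj.refl z) ha (k1 v hv).conj (left_mem_Ln _ _) n1
    (k1 u hu).ne (k1 v hv).comm (k.comm_of_mem hv hu) (right_mem_Ln _ _)).symm, fun n3 => k0 ?_⟩
  rw [← (k.pair hu hv n2).2, (ha.pair n1 n3 n2).2]
  exact left_mem_Ln _ _

theorem diam_aux {c : G} (hr : ∀ a, T2 z a → ∃ b, T2 z b ∧ a * b = b * a ∧ b ∉ Ln z a)
    (ha : IsConj z a) (hc : IsConj z c) (he : IsConj z e) (h1 : a * z = z * a) (h2 : c * z = z * c)
    (h3 : e * c = c * e) : ∃ f, IsConj z f ∧ a * f = f * a ∧ e * f = f * e := by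
  by_cases hac : a * c = c * a
  · exact ⟨c, hc, hac, h3⟩
  have ha' := h.mk1 ha (fun e => hac (e ▸ h2.symm)) h1
  obtain ⟨b, hb, c1, n⟩ := hr a ha'
  have k := h.mk2 ha hb.conj (fun c => n (c ▸ right_mem_Ln _ _)) c1.symm
  obtain ⟨u, hu, c2⟩ := h.parity ha k h1 hb.comm hc h2
  have hu' := h.mk1 (ha.trans (k.conj_of_mem hu)) (fun c => n
    ((k.pair (c ▸ hu) (left_mem_Ln _ _) ha'.ne).2 ▸ right_mem_Ln _ _))
    ((h.of_isConj ha).comm_line k ha.symm h1.symm hb.comm.symm hu).symm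
  obtain ⟨f, hf, c3⟩ := (h.of_isConj hc).parity hc.symm hu' h2.symm c2.symm (hc.symm.trans he) h3
  exact ⟨f, hu'.conj_of_mem hf, h.comm_line hu' ha h1 (k.comm_of_mem (left_mem_Ln _ _) hu) hf, c3⟩

theorem common (ht : T2 z t) (hd : IsConj z d) :
    ∃ f, IsConj z f ∧ z * f = f * z ∧ d * f = f * d := by
  rcases h.key ht hd with ⟨p, hp, c⟩ | ⟨f, f1, f2, f3, f4, -⟩
  · exact ⟨p, ht.conj_of_mem hp, ht.comm_of_mem (left_mem_Ln _ _) hp, c⟩
  have k := h.mk1 f1 (fun c => f4 (c ▸ left_mem_Ln _ _)) f2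
  refine (h.mem_ccpt ht hd).2 (fun d => ∃ f, IsConj z f ∧ z * f = f * z ∧ d * f = f * d) ?_
    ⟨z, IsConj.refl z, rfl, rfl⟩
  rintro c hc e he hce ⟨b, hb, h1, h2⟩
  obtain ⟨g, rfl⟩ := isConj_iff.1 hb
  obtain ⟨f, hf, h3⟩ := (h.of_isConj hb).diam_aux (fun a ha => (h.of_isConj hb).exists_off
    (ht.map_conj g) (k.map_conj g) ((comm_conj_iff g _ _).2 f3.symm)
    (fun c => f4 (by simpa [mul_assoc] using conj_mem_Ln g⁻¹ c)) ha)
    hb.symm (hb.symm.trans hc) (hb.symm.trans he) h1 h2 hce.symm.eq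
  exact ⟨f, hb.trans hf, h3⟩

theorem exists_t2 (ht : T2 z t) (hd : IsConj z d) : ∃ s, T2 d s := by
  obtain ⟨g, rfl⟩ := isConj_iff.1 hd
  exact ⟨_, ht.map_conj g⟩

theorem common' (ht : T2 z t) (ha : IsConj z a) (hb : IsConj z b) :
    ∃ f, IsConj z f ∧ a * f = f * a ∧ b * f = f * b := by
  obtain ⟨s, hs⟩ := h.exists_t2 ht ha
  obtain ⟨f, hf, c⟩ := (h.of_isConj ha).common hs (ha.symm.trans hb)
  exact ⟨f, ha.trans hf, c⟩

theorem isTT (ht : T2 z t) : IsTT (conjugatesOf z) := by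
  refine ⟨⟨fun d hd => (h.ws.of_isConj hd).xs.orderOf_z, fun a ha b hb => ?_⟩, fun a ha b hb => ?_⟩
  · have aa := h.ws.sq ha
    have bb := h.ws.sq hb
    by_cases c : a * b = b * a
    · left; rw [sq, mul_assoc, ← mul_assoc b, ← c, mul_assoc, bb, mul_one, aa]
    obtain ⟨f, hf, c1, c2⟩ := h.common' ht ha hb
    have := (h.of_isConj hf).braid (h.mk2 hf ha (fun e => c (e ▸ c2.symm)) c1)
      (h.mk2 hf hb (fun e => c (e ▸ c1)) c2) c
    right
    calc (a * b) ^ 3 = (a * b * a) * (b * a * b) := by simp only [pow_succ, pow_zero]; group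
      _ = 1 := by rw [← this]; simp [mul_assoc, ← mul_assoc a a, ← mul_assoc b b, aa, bb]
  · simpa [inv_eq_of_mul_eq_one_right (h.ws.sq ha)] using conj_mem_conjugatesOf hb a

theorem t2_of_loc (hd : IsConj z d) (ha : a ∈ loc (conjugatesOf z) d) : T2 d a :=
  h.mk2 hd ha.1 ha.2.1 ha.2.2.eq.symm

omit h [Finite G] in
theorem loc_of_t2 (hd : IsConj z d) (ha : T2 d a) : a ∈ loc (conjugatesOf z) d :=
  ⟨hd.trans ha.conj, ha.ne, ha.comm.symm⟩

theorem exists_nc2 (ha : T2 z a) (hb : T2 z b) {c c' : G} (hc : T2 z c) (hc' : T2 z c')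
    (n : a * c ≠ c * a) (n' : b * c' ≠ c' * b) (e : c * c' = c' * c) :
    ∃ x, T2 z x ∧ a * x ≠ x * a ∧ b * x ≠ x * b := by
  by_cases n1 : c' = c
  · exact ⟨c, hc, n, n1 ▸ n'⟩
  have k := h.mk2 hc.conj hc'.conj n1 e.symm
  obtain ⟨p, q, r, k1, -, k2⟩ := k.five
  simp only [List.nodup_cons, List.mem_cons, List.not_mem_nil, or_false, not_or] at k1
  have hp := (k2 p).2 (by simp)
  have hq := (k2 q).2 (by simp)
  have hr := (k2 r).2 (by simp)
  have k3 : ∀ x ∈ Ln c c', a * x ≠ x * a → b * x ≠ x * b →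
      ∃ x, T2 z x ∧ a * x ≠ x * a ∧ b * x ≠ x * b := fun x hx h1 h2 =>
    ⟨x, h.mk1 (hc.conj.trans (k.conj_of_mem hx)) (fun c => h1 (c ▸ ha.comm))
      ((h.of_isConj hc.conj).comm_line k hc.conj.symm hc.comm.symm hc'.comm.symm hx).symm, h1, h2⟩
  have ka : ∀ x ∈ Ln c c', ∀ y ∈ Ln c c', y ≠ x → a * x = x * a → a * y ≠ y * a :=
    fun x hx y hy n1 c1 c2 => n (h.comm_line' hc.conj k ha.conj hx hy n1 c1 c2 (left_mem_Ln _ _))
  have kb : ∀ x ∈ Ln c c', ∀ y ∈ Ln c c', y ≠ x → b * x = x * b → b * y ≠ y * b :=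
    fun x hx y hy n1 c1 c2 => n' (h.comm_line' hc.conj k hb.conj hx hy n1 c1 c2 (right_mem_Ln _ _))
  have pq : p ≠ q := k1.2.2.1.1
  have pr : p ≠ r := k1.2.2.1.2
  have qr : q ≠ r := k1.2.2.2.1
  by_cases a1 : a * p = p * a
  · by_cases b1 : b * q = q * b
    · exact k3 r hr (ka p hp r hr pr.symm a1) (kb q hq r hr qr.symm b1)
    · exact k3 q hq (ka p hp q hq pq.symm a1) b1
  by_cases b1 : b * p = p * b
  · by_cases a2 : a * q = q * a
    · exact k3 r hr (ka q hq r hr qr.symm a2) (kb p hp r hr pr.symm b1)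
    · exact k3 q hq a2 (kb p hp q hq pq.symm b1)
  exact k3 p hp a1 b1

theorem prim (ht : T2 z t) : Prim (conjugatesOf z) := by
  have hT := h.isTT ht
  refine prim_of_loc hT ⟨z, IsConj.refl z⟩ (fun P hP a ha b hb hPa => ?_) fun d hd => ?_
  · obtain ⟨f, hf, c1, c2⟩ := h.common' ht ha hb
    exact hP f hf b hb c2.symm (hP a ha f hf c1 hPa)
  have hd' := h.of_isConj hd
  have key : ∀ a, T2 d a → ∃ e ∈ Ln d a, e ≠ d ∧ e ≠ a := fun a ha => by
    obtain ⟨p, q, r, k1, -, k2⟩ := ha.five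
    simp only [List.nodup_cons, List.mem_cons, List.not_mem_nil, or_false, not_or] at k1
    exact ⟨p, (k2 p).2 (by simp), Ne.symm k1.1.2.1, Ne.symm k1.2.1.1⟩
  refine ⟨(hT.loc d).conn_iff.2 fun P hP a ha b hb hPa => ?_, ?_,
    fun a ha b hb hab => hab.eq_of_commute hb ?_⟩
  · obtain ⟨c, hc, n⟩ := hd'.exists_nc (h.t2_of_loc hd ha)
    obtain ⟨c', hc', n'⟩ := hd'.exists_nc (h.t2_of_loc hd hb)
    by_cases e : c * c' = c' * c
    · obtain ⟨x, hx, h1, h2⟩ := hd'.exists_nc2 (h.t2_of_loc hd ha) (h.t2_of_loc hd hb) hc hc' n n' e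
      exact hP x (loc_of_t2 hd hx) b hb (fun c => h2 c.eq.symm) (hP a ha x (loc_of_t2 hd hx) h1 hPa)
    · exact hP c' (loc_of_t2 hd hc') b hb (fun c => n' c.eq.symm)
        (hP c (loc_of_t2 hd hc) c' (loc_of_t2 hd hc') e (hP a ha c (loc_of_t2 hd hc) n hPa))
  · obtain ⟨s, hs⟩ := h.exists_t2 ht hd
    obtain ⟨e, he, n1, n2⟩ := key s hs
    exact ⟨e, loc_of_t2 hd (hs.t2_of_mem he n1), s, loc_of_t2 hd hs, n2,
      hs.comm_of_mem he (right_mem_Ln _ _)⟩
  · have ha' := h.t2_of_loc hd ha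
    have hb' := h.t2_of_loc hd hb
    obtain ⟨e, he, n1, n2⟩ := key a ha'
    exact (hd'.comm_line' (IsConj.refl d) ha' hb'.conj (left_mem_Ln _ _) he n1 hb'.comm
      ((hab e (loc_of_t2 hd (ha'.t2_of_mem he n1))).1
        ⟨n2, ha'.comm_of_mem (right_mem_Ln _ _) he⟩).2 (right_mem_Ln _ _)).symm

theorem isU (ht : T2 z t) : ∃ n, 4 ≤ n ∧ IsU (conjugatesOf z) n := by
  have hP := h.prim ht
  obtain ⟨a, ha, n⟩ := hP.exists_not_commute (IsConj.refl z)
  refine Five.isU ⟨hP, IsConj.refl z, ha, n, fun p hp q hq => (hP.ncard_pl_le hp hq).antisymm ?_⟩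
  have k := h.t2_of_loc hp hq
  obtain ⟨u, v, w, k1, -, k2⟩ := k.five
  classical
  rw [show 5 = ([p, q, u, v, w].toFinset : Set G).ncard by
    rw [Set.ncard_coe_finset, List.toFinset_card_of_nodup k1]; rfl]
  refine Set.ncard_le_ncard (fun x hx => ?_)
  replace hx := (k2 x).2 (List.mem_toFinset.1 hx)
  exact ⟨hp.trans (k.conj_of_mem hx), fun y hy c1 c2 =>
    (h.of_isConj hp).comm_line k (hp.symm.trans hy) c1 c2 hx⟩

end AT

theorem eq_one_of_cent_class [Finite G] {z a g : G} (h : LX (O2C z) z) (ha : IsConj z a)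
    (n : a * z ≠ z * a) (hg : ∀ d, IsConj z d → g * d = d * g) : g = 1 := by
  refine (h.eq_of_comm fun x hx => ?_).resolve_right fun e => n (e ▸ hg a ha).symm
  have c := hg z (IsConj.refl z)
  have k : ∀ d, IsConj z d → dd g x * d = d * dd g x := fun d hd => by
    have k1 := (comm_conj_iff x _ _).2 (comm_inv_left (hg _ (hd.trans (isConj_cj x⁻¹ d))))
    rw [show dd g x = g * (x * g⁻¹ * x⁻¹) by simp [dd, mul_assoc]]
    exact comm_mul_left (hg d hd) (by simpa [mul_assoc] using k1)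
  refine (dd_eq_one.1 ((h.toXS.cent _ (dd_mem h c hx) fun y hy => ?_).resolve_right
    fun e => n (e ▸ k a ha).symm)).symm
  by_contra n'
  have := h.toXS.conj_of_ne hy (dd_mem h c hx) (Ne.symm n')
  have k2 := (comm_conj_iff y _ _).2 (k _ (ha.trans (isConj_cj y⁻¹ a)))
  rw [this, show y * (y⁻¹ * a * y⁻¹⁻¹) * y⁻¹ = a by group, ← mul_assoc, ← k a ha, mul_assoc,
    mul_assoc, mul_right_inj] at k2
  exact n k2.symm

theorem AT.equiv [Finite G] {z t : G} (h : AT z) (ht : T2 z t) :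
    ∃ n, 4 ≤ n ∧ IsU (conjugatesOf z) n ∧
      centralizer (closure (conjugatesOf z) : Set G) = ⊥ ∧
      Nonempty (closure (conjugatesOf z) ≃* PSU n Class.GF4 2) := by
  obtain ⟨n, h4, hU⟩ := h.isU ht
  obtain ⟨a, ha, c⟩ := (h.prim ht).exists_not_commute (IsConj.refl z)
  have k : ∀ g, (∀ d, IsConj z d → g * d = d * g) → g = 1 := fun g =>
    eq_one_of_cent_class h.ws.lx ha fun e => c e.symm
  have h1 : IsU ((↑) ⁻¹' conjugatesOf z : Set (closure (conjugatesOf z))) n :=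
    hU.of_feq (FEq.symm ⟨_, fiso_subtype _ subset_closure⟩ (hU.tt.preimage _)) (hU.tt.preimage _)
  obtain ⟨e, -⟩ := h1.exists_mulEquiv h4 (closure_preimage_eq_top _) (eq_bot_iff.2 fun g hg =>
    Subtype.ext (k _ fun d hd => congrArg Subtype.val
      (mem_center_iff.1 hg ⟨d, subset_closure hd⟩).symm))
  exact ⟨n, h4, hU, eq_bot_iff.2 fun g hg => k g fun d hd => (hg d (subset_closure hd)).symm, ⟨e⟩⟩

end Cfsg.Agent.XW
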